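import Mathlib
import Cfsg.Agent.Lib.Deg.FS3
import Cfsg.Agent.Lib.Deg.Cliff
import Cfsg.Agent.Lib.Deg.Frob
import Cfsg.Agent.Lib.Block.Fix
import Cfsg.Agent.Lib.Core.HallSZ
import Cfsg.Agent.Lib.Core.Coprime

/-! Groups whose average character degree is at most two. -/

set_option autoImplicit false
set_option linter.unusedVariables false
set_option linter.unusedSectionVars false
set_option linter.style.haveILetI false

namespace H86

open Cfsg H6 H87 Subgroup
open scoped commutatorElement

/-- average character degree at most two -/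
def Acd (G : Type*) [Group G] [Finite G] : Prop :=
  ∑ χ : IrrCharacter G, ((charDegree (χ : G → ℂ) : ℤ) - 2) ≤ 0

variable {G : Type*} [Group G] [Finite G]

theorem acd_of (h : (∑ᶠ χ : IrrCharacter G, charDegree (χ : G → ℂ)) ≤
    2 * Nat.card (IrrCharacter G)) : Acd G := by
  rw [finsum_eq_sum_of_fintype, Nat.card_eq_fintype_card] at h
  rw [Acd, Finset.sum_sub_distrib, sub_nonpos, ← Nat.cast_sum]
  simp only [Finset.sum_const, Finset.card_univ, nsmul_eq_mul]
  exact_mod_cast mul_comm 2 _ ▸ h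

open Classical in
theorem sum_ind_ker {χ : G → ℂ} (h : IsIrrCharacter G χ) [Fintype G] (M : Subgroup G) [M.Normal] :
    ∑ g : G, (if g ∈ M then χ g else 0) = if M ≤ charKer χ then Nat.card M * χ 1 else 0 := by
  rw [← Finset.sum_filter, Finset.sum_subtype (p := (· ∈ M)) _ (by simp)]
  split_ifs with e
  · rw [Finset.sum_congr rfl fun (n : M) _ => (mem_charKer (irr_isCharacter h)).1 (e n.2)]
    simp
  · exact sum_normal_eq_zero h M e

open Classical in
theorem sum_lin_apply [Fintype (G →* ℂˣ)] (g : G) : ∑ l : G →* ℂˣ, (l g : ℂ) =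
    if g ∈ commutator G then (Fintype.card (G →* ℂˣ) : ℂ) else 0 := by
  split_ifs with e
  · rw [Finset.sum_congr rfl fun (l : G →* ℂˣ) _ => show (l g : ℂ) = 1 by
      rw [MonoidHom.mem_ker.1 (Abelianization.commutator_subset_ker l e), Units.val_one]]
    simp
  · obtain ⟨l, -, hl⟩ := exists_hom_trivial_ne_one _ le_rfl e
    exact sum_hom_units_eq_zero ((Units.coeHom ℂ).comp (MonoidHom.eval g))
      fun h => hl (Units.ext (DFunLike.congr_fun h l))

open Classical in
theorem Acd.sum_ker (h : Acd G) (N : Subgroup G) [N.Normal] :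
    ∑ χ : IrrCharacter G, (if N ≤ charKer (χ : G → ℂ) then
      ((charDegree (χ : G → ℂ) : ℤ) - 2) else 0) ≤ 0 := by
  haveI := Fintype.ofFinite G
  haveI := Fintype.ofFinite (G →* ℂˣ)
  let m : (G →* ℂˣ) → IrrCharacter G → IrrCharacter G := fun l χ =>
    ⟨fun g => χ.1 g * (l g : ℂ), isIrrCharacter_mul_hom χ.2 l⟩
  have hm : ∀ l, Function.Bijective (m l) := fun l => Finite.injective_iff_bijective.1
    fun χ ψ e => Subtype.ext (funext fun g => mul_right_cancel₀ (l g).ne_zero
      (congrFun (congrArg Subtype.val e) g))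
  have h1 : ∀ χ : IrrCharacter G, (Nat.card N : ℤ) * ∑ l, (if N ≤ charKer (m l χ).1 then 1 else 0) =
      if N ⊓ commutator G ≤ charKer χ.1 then
        (Fintype.card (G →* ℂˣ) : ℤ) * Nat.card (N ⊓ commutator G : Subgroup G) else 0 := fun χ => by
    have e1 : ∑ l, ∑ g : G, (if g ∈ N then (m l χ).1 g else 0) = Fintype.card (G →* ℂˣ) *
        ∑ g : G, (if g ∈ N ⊓ commutator G then χ.1 g else 0) := by
      rw [Finset.sum_comm, Finset.mul_sum]
      refine Finset.sum_congr rfl fun g _ => ?_
      by_cases hg : g ∈ N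
      · simp only [hg, if_true, m, ← Finset.mul_sum, sum_lin_apply, mem_inf, true_and]
        split_ifs <;> ring
      · simp [hg]
    rw [sum_ind_ker χ.2, Finset.sum_congr rfl fun l _ => sum_ind_ker (m l χ).2 N] at e1
    have e2 : (((Nat.card N : ℤ) * ∑ l, (if N ≤ charKer (m l χ).1 then 1 else 0) : ℤ) : ℂ) * χ.1 1 =
        ((if N ⊓ commutator G ≤ charKer χ.1 then (Fintype.card (G →* ℂˣ) : ℤ) *
          Nat.card (N ⊓ commutator G : Subgroup G) else 0 : ℤ) : ℂ) * χ.1 1 := by
      push_cast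
      rw [Finset.mul_sum, Finset.sum_mul]
      convert e1 using 1
      · refine Finset.sum_congr rfl fun l _ => ?_
        split_ifs <;> simp [m]
      · split_ifs <;> ring
    exact_mod_cast mul_right_cancel₀ (irr_one_ne_zero χ.2) e2
  have h2 : ∑ χ : IrrCharacter G, (if N ⊓ commutator G ≤ charKer χ.1 then
      ((charDegree (χ : G → ℂ) : ℤ) - 2) else 0) ≤ 0 := by
    refine le_trans (Finset.sum_le_sum fun χ _ => ?_) h
    split_ifs with e
    · rfl
    · have h3 := deg_pos χ.2
      have h4 : charDegree χ.1 ≠ 1 := fun e' =>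
        e (inf_le_right.trans ((deg_eq_one_iff_commutator_le χ.2).1 e'))
      show (0 : ℤ) ≤ charDegree χ.1 - 2
      omega
  have h3 : (Nat.card N : ℤ) * (Fintype.card (G →* ℂˣ) * ∑ χ : IrrCharacter G,
      (if N ≤ charKer (χ : G → ℂ) then ((charDegree (χ : G → ℂ) : ℤ) - 2) else 0)) =
      (Fintype.card (G →* ℂˣ) : ℤ) * Nat.card (N ⊓ commutator G : Subgroup G) *
      ∑ χ : IrrCharacter G, (if N ⊓ commutator G ≤ charKer χ.1 then
      ((charDegree (χ : G → ℂ) : ℤ) - 2) else 0) := by
    rw [← nsmul_eq_mul (Fintype.card _), ← Finset.card_univ, ← Finset.sum_const,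
      Finset.sum_congr rfl fun l _ => ((hm l).sum_comp _).symm, Finset.sum_comm, Finset.mul_sum,
      Finset.mul_sum]
    refine Finset.sum_congr rfl fun χ _ => ?_
    have : ∀ l, (if N ≤ charKer (m l χ).1 then ((charDegree (m l χ).1 : ℤ) - 2) else 0) =
        (if N ≤ charKer (m l χ).1 then 1 else 0) * ((charDegree χ.1 : ℤ) - 2) := fun l => by
      rw [show charDegree (m l χ).1 = charDegree χ.1 from deg_mul_hom l]
      split_ifs <;> ring
    rw [Finset.sum_congr rfl fun l _ => this l, ← Finset.sum_mul, ← mul_assoc, h1, Finset.card_univ]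
    split_ifs <;> simp
  have p1 : (0 : ℤ) < Nat.card N := by exact_mod_cast Nat.card_pos
  have p2 : (0 : ℤ) < Fintype.card (G →* ℂˣ) := by exact_mod_cast Fintype.card_pos
  by_contra e
  have := mul_pos p1 (mul_pos p2 (not_le.1 e))
  rw [h3] at this
  exact absurd this (not_lt.2 (mul_nonpos_of_nonneg_of_nonpos (by positivity) h2))

theorem Acd.of_equiv {H : Type*} [Group H] [Finite H] (h : Acd G) (e : G ≃* H) : Acd H := by
  refine le_of_eq_of_le (Finset.sum_bijective (fun χ : IrrCharacter H => (⟨fun g => χ.1 (e g),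
    isIrrCharacter_comp_surjective e.toMonoidHom e.surjective χ.2⟩ : IrrCharacter G)) ⟨?_, ?_⟩
    (by simp) fun χ _ => ?_) h
  · exact fun χ ψ h => Subtype.ext (funext fun x => by
      simpa using congrFun (congrArg Subtype.val h) (e.symm x))
  · exact fun χ => ⟨⟨fun g => χ.1 (e.symm g), isIrrCharacter_comp_surjective e.symm.toMonoidHom
      e.symm.surjective χ.2⟩, Subtype.ext (funext fun x => by simp)⟩
  · exact congrArg (fun n : ℕ => (n : ℤ) - 2) (deg_comp e.toMonoidHom χ.1).symm

theorem Acd.of_surjective {H : Type*} [Group H] [Finite H] (h : Acd G) (f : G →* H)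
    (hf : Function.Surjective f) : Acd H := by
  classical
  refine Acd.of_equiv ?_ (QuotientGroup.quotientKerEquivOfSurjective f hf)
  have := h.sum_ker f.ker
  rw [← Finset.sum_filter, ← sum_irr_quotient f.ker fun χ => ((charDegree χ : ℤ) - 2)] at this
  simpa only [deg_infl, Acd] using this

theorem Acd.sum_le (h : Acd G) :
    ∑ χ : IrrCharacter G, (charDegree (χ : G → ℂ) - 2) ≤ (commutator G).index := by
  classical
  rw [← sum_deg_sq_ker, Finset.sum_filter]
  rw [Acd] at h
  zify
  refine le_trans (le_of_eq ?_) (add_le_add_left h _) |>.trans (zero_add _).le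
  rw [← Finset.sum_add_distrib]
  refine Finset.sum_congr rfl fun χ _ => ?_
  have h1 := deg_pos χ.2
  have h2 := deg_eq_one_iff_commutator_le χ.2
  split_ifs with e
  · rw [h2.2 e]; rfl
  · have := mt h2.1 e
    show ((charDegree χ.1 - 2 : ℕ) : ℤ) = charDegree χ.1 - 2 + 0
    omega

theorem Acd.deg_le (h : Acd G) {χ : G → ℂ} (hχ : IsIrrCharacter G χ) :
    charDegree χ ≤ (commutator G).index + 2 := by
  have := (Finset.single_le_sum (f := fun χ : IrrCharacter G => charDegree (χ : G → ℂ) - 2)
    (fun _ _ => Nat.zero_le _) (Finset.mem_univ ⟨χ, hχ⟩)).trans h.sum_le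
  have e : charDegree χ - 2 ≤ (commutator G).index := this
  omega

theorem Acd.bound (h : Acd G) (D : Subgroup G) [D.Normal] {a b : ℕ}
    (hd : ∀ χ, IsIrrCharacter G χ → ¬ D ≤ charKer χ → a ≤ charDegree χ ∧ charDegree χ ≤ b) :
    (a - 2) * (D.index * (Nat.card D - 1)) ≤ a * b * (commutator G).index := by
  classical
  have e := sum_deg_sq_not_ker D
  rw [← D.index_mul_card] at e
  rw [Nat.mul_sub_one, ← e, Nat.add_sub_cancel, Finset.mul_sum]
  refine le_trans ?_ (Nat.mul_le_mul_left _ h.sum_le)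
  rw [Finset.mul_sum]
  refine le_trans (Finset.sum_le_sum fun χ hχ => ?_) (Finset.sum_le_sum_of_subset (Finset.subset_univ _))
  obtain ⟨h1, h2⟩ := hd _ χ.2 (Finset.mem_filter.1 hχ).2
  generalize charDegree (χ : G → ℂ) = d at h1 h2
  rcases le_or_gt a 2 with e | e
  · simp [Nat.sub_eq_zero_of_le e]
  obtain ⟨a, rfl⟩ := Nat.exists_eq_add_of_le' e.le
  obtain ⟨d, rfl⟩ := Nat.exists_eq_add_of_le' (e.le.trans h1)
  simp only [Nat.add_sub_cancel]
  have : a * (d + 2) ≤ (a + 2) * d := by nlinarith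
  calc a * (d + 2) ^ 2 = a * (d + 2) * (d + 2) := by ring
    _ ≤ (a + 2) * d * b := Nat.mul_le_mul this h2
    _ = _ := by ring

theorem not_acd_simple [IsSimpleGroup G] (hc : commutator G = ⊤) : ¬ Acd G := fun h => by
  classical
  have key : ∀ χ, IsIrrCharacter G χ → ¬ ⊤ ≤ charKer χ → charDegree χ = 3 := fun χ hχ hk => by
    have h1 := h.deg_le hχ
    rw [hc, index_top] at h1
    have h2 := deg_pos hχ
    have h3 : charDegree χ ≠ 1 := fun e => hk (hc ▸ (deg_eq_one_iff_commutator_le hχ).1 e)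
    have h4 : charDegree χ ≠ 2 := fun e => by
      haveI := Fintype.ofFinite G
      obtain ⟨t, ht⟩ := exists_prime_orderOf_dvd_card' 2 (e ▸ deg_dvd_card hχ)
      have c := irr_isCharacter hχ
      have e1 := (deg_eq_iff c).1 e
      have c2 := H84.isCharacter_alt c
      have e2 : H84.alt χ 1 = 1 := by simp only [H84.alt, mul_one, e1]; norm_num
      have e3 := (mem_charKer c2).1 (commutator_le_charKer_of_deg_one c2
        ((deg_eq_one_iff c2).2 e2) (hc ▸ mem_top t))
      rw [e2, H84.alt, ← pow_two t, ← ht, pow_orderOf_eq_one, e1] at e3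
      have e4 : ‖χ t‖ = ‖χ 1‖ := by
        have : χ t * χ t = χ 1 * χ 1 := by rw [e1]; push_cast at e3 ⊢; linear_combination 2 * e3
        have := congrArg norm this
        rw [norm_mul, norm_mul] at this
        exact (mul_self_inj_of_nonneg (norm_nonneg _) (norm_nonneg _)).1 this
      have e5 := mem_center_of_norm_eq hχ (((charKer_normal χ).eq_bot_or_eq_top).resolve_right
        fun e => hk e.ge) e4
      rcases (inferInstance : (center G).Normal).eq_bot_or_eq_top with e6 | e6
      · rw [e6, mem_bot] at e5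
        rw [e5, orderOf_one] at ht
        omega
      · refine h3 (deg_eq_one_of_comm (fun a b => ?_) hχ)
        exact mem_center_iff.1 (e6 ▸ mem_top b) a
    omega
  obtain ⟨χ, hχ, hk⟩ := exists_irr_not_le_charKer (top_ne_bot : (⊤ : Subgroup G) ≠ ⊥)
  have h1 := key χ hχ hk ▸ deg_dvd_card hχ
  rw [← sum_deg_sq_not_ker ⊤, index_top, Nat.dvd_add_right (Finset.dvd_sum fun ψ hψ => by
    rw [key _ ψ.2 (Finset.mem_filter.1 hψ).2]; norm_num)] at h1
  omega

/-- Frobenius data with abelian kernel -/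
structure FD (K C : Subgroup G) : Prop where
  comm : ∀ a ∈ K, ∀ b ∈ K, a * b = b * a
  norm : C ≤ normalizer (K : Set G)
  fpf : ∀ c ∈ C, c ≠ 1 → ∀ k ∈ K, c * k = k * c → k = 1
  ne : K ≠ ⊥
  ne' : C ≠ ⊥

namespace FD
variable {K C : Subgroup G} (h : FD K C)
include h

theorem inf : K ⊓ C = ⊥ := (eq_bot_iff_forall _).2 fun c hc => by
  by_contra e
  obtain ⟨k, hk, hk1⟩ := (bot_or_exists_ne_one K).resolve_left h.ne
  exact hk1 (h.fpf c hc.2 e k hk (h.comm c hc.1 k hk))

theorem card : Nat.card (K ⊔ C : Subgroup G) = Nat.card K * Nat.card C :=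
  H3.card_sup_of_inf_eq_bot h.norm h.inf

theorem index (ht : K ⊔ C = ⊤) : K.index = Nat.card C := by
  have := h.card
  rw [ht, card_top, ← K.card_mul_index] at this
  exact Nat.eq_of_mul_eq_mul_left Nat.card_pos this

theorem le_comm [hn : K.Normal] : K ≤ commutator G := fun k hk => by
  obtain ⟨c, hc, hc1⟩ := (bot_or_exists_ne_one C).resolve_left h.ne'
  obtain ⟨m, -, rfl⟩ := exists_commutator_eq_of_fpf (fun k hk => hn.conj_mem k hk c) (h.fpf c hc hc1) hk
  exact commutator_mem_commutator (mem_top m) (mem_top c)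

theorem sub : FD (K.subgroupOf (K ⊔ C)) (C.subgroupOf (K ⊔ C)) ∧ (K.subgroupOf (K ⊔ C)).Normal ∧
    K.subgroupOf (K ⊔ C) ⊔ C.subgroupOf (K ⊔ C) = ⊤ ∧
    Nat.card (K.subgroupOf (K ⊔ C)) = Nat.card K ∧ Nat.card (C.subgroupOf (K ⊔ C)) = Nat.card C := by
  have hn : (K.subgroupOf (K ⊔ C)).Normal :=
    normal_subgroupOf_of_le_normalizer (sup_le le_normalizer h.norm)
  refine ⟨⟨fun a ha b hb => Subtype.ext (h.comm a ha b hb), le_normalizer_of_normal,
    fun c hc h1 k hk e => Subtype.ext (h.fpf c hc (fun e => h1 (Subtype.ext e)) k hk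
      (congrArg Subtype.val e)), fun e => h.ne ?_, fun e => h.ne' ?_⟩, hn,
    by rw [← subgroupOf_sup le_sup_left le_sup_right, subgroupOf_self],
    Nat.card_congr (subgroupOfEquivOfLe le_sup_left).toEquiv,
    Nat.card_congr (subgroupOfEquivOfLe le_sup_right).toEquiv⟩
  · rwa [subgroupOf_eq_bot, disjoint_iff, inf_eq_left.2 le_sup_left] at e
  · rwa [subgroupOf_eq_bot, disjoint_iff, inf_eq_left.2 le_sup_right] at e

theorem frob [hn : K.Normal] (ht : K ⊔ C = ⊤) (ha : Acd G) :
    (Nat.card C - 2) * (Nat.card K - 1) ≤ Nat.card C * Nat.card C := by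
  have h1 := ha.bound K (a := Nat.card C) (b := Nat.card C) fun χ hχ hk => ⟨?_,
    h.index ht ▸ deg_le_index_of_comm hχ K h.comm⟩
  · have h2 := Nat.le_of_dvd (Nat.pos_of_ne_zero index_ne_zero_of_finite) (index_dvd_of_le h.le_comm)
    rw [h.index ht] at h1 h2
    refine Nat.le_of_mul_le_mul_left ?_ (Nat.card_pos (α := C))
    calc _ = _ := by ring
      _ ≤ _ := h1
      _ ≤ Nat.card C * Nat.card C * Nat.card C := Nat.mul_le_mul_left _ h2
      _ = _ := by ring
  haveI := Fintype.ofFinite C
  have c := irr_isCharacter hχ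
  have e : classInner (fun x : C => χ x) (fun _ => 1) = χ 1 / Nat.card C := by
    rw [classInner_def, Finset.sum_eq_single 1]
    · simp [div_eq_inv_mul]
    · intro x _ hx
      rw [eq_zero_of_const_on_coset hχ K hk fun n hn' => ?_, zero_mul]
      obtain ⟨m, -, hm⟩ := exists_commutator_eq_of_fpf (fun k hk => hn.conj_mem k hk x)
        (h.fpf x x.2 fun e => hx (Subtype.ext e)) (hn.conj_mem n hn' x)
      rw [show x * n = m * x * m⁻¹ by rw [mul_left_inj] at hm; rw [hm], char_isClassFunction c]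
    · simp
  have p : (Nat.card C : ℂ) ≠ 0 := by exact_mod_cast Nat.card_pos.ne'
  obtain ⟨n, hn0, e2⟩ := inner_nat_pos (isCharacter_restrict C c)
    (irr_isCharacter isIrrCharacter_one) (e ▸ div_ne_zero (irr_one_ne_zero hχ) p)
  rw [e, div_eq_iff p, ← Nat.cast_mul] at e2
  rw [deg_of_eq e2]
  exact Nat.le_mul_of_pos_left _ hn0

theorem mod [hn : K.Normal] (ht : K ⊔ C = ⊤) (hp : (Nat.card K).Prime) {H : Type*} [Group H]
    [Finite H] (f : H →* G) (hf : Function.Surjective f) (ha : Acd H)
    (hc : ∀ a ∈ f.ker, ∀ b ∈ f.ker, a * b = b * a) (hD : ⁅K.comap f, f.ker⁆ ≠ ⊥) :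
    (Nat.card K - 2) * (Nat.card K - 1) ≤ Nat.card K * Nat.card C := by
  have hR : f.ker ≤ K.comap f := ker_le_comap f K
  have iR : (K.comap f).index = Nat.card C := by rw [index_comap_of_surjective _ hf, h.index ht]
  have iN : f.ker.index = Nat.card K * Nat.card C := by
    rw [index_ker, MonoidHom.range_eq_top.2 hf, card_top, ← h.index ht, card_mul_index]
  have iNR : f.ker.relIndex (K.comap f) = Nat.card K := by
    have := relIndex_mul_index hR
    rw [iR, iN] at this
    exact Nat.eq_of_mul_eq_mul_right Nat.card_pos this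
  obtain ⟨D, hDd⟩ : ∃ D, D = ⁅K.comap f, f.ker⁆ := ⟨_, rfl⟩
  haveI : D.Normal := hDd ▸ inferInstance
  have DN : D ≤ f.ker := hDd ▸ commutator_le_right _ _
  have h1 := ha.bound D (a := Nat.card K) (b := Nat.card K * Nat.card C) fun χ hχ hk => ⟨?_,
    iN ▸ deg_le_index_of_comm hχ _ hc⟩
  · have h2 : (commutator H).index ≤ D.relIndex f.ker * Nat.card C := by
      rw [← relIndex_mul_index (le_sup_left : commutator H ≤ commutator H ⊔ f.ker), relIndex_sup_left]
      refine Nat.mul_le_mul (relIndex_le_of_le_left (hDd ▸ commutator_mono le_top le_top)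
        index_ne_zero_of_finite) (iR ▸ Nat.le_of_dvd (Nat.pos_of_ne_zero index_ne_zero_of_finite)
          (index_dvd_of_le ?_))
      rw [← comap_map_eq, map_commutator_eq, MonoidHom.range_eq_top.2 hf]
      exact comap_mono h.le_comm
    have h3 : Nat.card K ≤ Nat.card D := by
      obtain ⟨n, hn, hr⟩ : ∃ n ∈ f.ker, ¬ K.comap f ≤ centralizer {n} := by
        by_contra e
        push Not at e
        exact hD (commutator_eq_bot_iff_le_centralizer.2 fun r hr n hn =>
          (mem_centralizer_singleton_iff.1 (e n hn hr)).symm)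
      have e : (centralizer {n}).relIndex (K.comap f) = Nat.card K :=
        (hp.eq_one_or_self_of_dvd _ (iNR ▸ relIndex_dvd_of_le_left _ fun a ha =>
          mem_centralizer_singleton_iff.2 (hc a ha n hn))).resolve_left
            fun e => hr (relIndex_eq_one.1 e)
      rw [← e]
      refine Nat.card_le_card_of_injective
        (fun q : K.comap f ⧸ (centralizer {n}).subgroupOf (K.comap f) => (⟨⁅(q.out : H), n⁆,
          hDd ▸ commutator_mem_commutator q.out.2 hn⟩ : D)) fun q q' e => ?_
      rw [← q.out_eq', ← q'.out_eq', QuotientGroup.eq]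
      refine mem_centralizer_singleton_iff.2 ?_
      have : ⁅(q.out : H), n⁆ = ⁅(q'.out : H), n⁆ := congrArg Subtype.val e
      simp only [commutatorElement_def, mul_left_inj] at this
      simp only [coe_subtype, coe_mul, coe_inv]
      calc _ = (q.out : H)⁻¹ * (q'.out * n * (q'.out : H)⁻¹) * q'.out := by group
        _ = _ := by rw [← this]; group
    rw [← relIndex_mul_index DN, iN] at h1
    have p : 0 < D.relIndex f.ker * (Nat.card K * Nat.card C) :=
      Nat.mul_pos (Nat.pos_of_ne_zero index_ne_zero_of_finite) (Nat.mul_pos Nat.card_pos Nat.card_pos)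
    refine Nat.le_of_mul_le_mul_left ?_ p
    calc _ ≤ D.relIndex f.ker * (Nat.card K * Nat.card C) * ((Nat.card K - 2) * (Nat.card D - 1)) := by
          gcongr
      _ = _ := by ring
      _ ≤ _ := h1
      _ ≤ Nat.card K * (Nat.card K * Nat.card C) * (D.relIndex f.ker * Nat.card C) :=
          Nat.mul_le_mul_left _ h2
      _ = _ := by ring
  obtain ⟨θ, hθ, ho⟩ := exists_under hχ (K.comap f)
  have h2 := deg_dvd_index_of_comm (f.ker.subgroupOf (K.comap f))
    (fun a ha b hb => Subtype.ext (hc a ha b hb)) hθ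
  rw [show (f.ker.subgroupOf (K.comap f)).index = _ from iNR] at h2
  rw [← (hp.eq_one_or_self_of_dvd _ h2).resolve_left fun e => hk
    (hDd ▸ (commutator_mono le_rfl hR).trans (ho.commutator_le_charKer hχ hθ e))]
  exact ho.deg_le (irr_isCharacter hχ) hθ

end FD

end H86
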