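import Mathlib
import Cfsg.Agent.Lib.H85.Lift
import Cfsg.Agent.Lib.ModRep.Wedd
import Cfsg.Agent.Lib.Block.ModRank
import Cfsg.Agent.Lib.Block.StarLift
import Cfsg.Agent.Lib.Block.Split

/-! Projective indecomposable characters and irreducible Brauer characters, through lifting of
idempotents from the semisimple quotient of `kG`. -/

set_option autoImplicit false
set_option linter.unusedSectionVars false
set_option linter.style.haveILetI false

namespace H86

open Cfsg H33 MonoidAlgebra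
open H64.MR (Wedd)
open scoped ComplexConjugate

attribute [local irreducible] H33.instFieldF

section lift

variable {G : Type*} [Group G] [Finite G] {M : Ideal AlgInt} [M.IsMaximal]

/-- the semisimple quotient -/
abbrev MA (W : Wedd (F M) G) : Type :=
  ∀ j : Fin W.n, Matrix (Fin (W.d j)) (Fin (W.d j)) (F M)

/-- reduction to the semisimple quotient -/
noncomputable def pr (W : Wedd (F M) G) (x : MonoidAlgebra ℂ G) : MA W := W.π (redA M x)

variable {W : Wedd (F M) G} {x y : MonoidAlgebra ℂ G}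

theorem pr_mul (hx : x ∈ OG M G) (hy : y ∈ OG M G) : pr W (x * y) = pr W x * pr W y := by
  rw [pr, redA_mul hx hy, map_mul]; rfl

theorem pr_add (hx : x ∈ OG M G) (hy : y ∈ OG M G) : pr W (x + y) = pr W x + pr W y := by
  rw [pr, redA_add hx hy, map_add]; rfl

theorem pr_sub (hx : x ∈ OG M G) (hy : y ∈ OG M G) : pr W (x - y) = pr W x - pr W y := by
  rw [pr, redA_sub hx hy, map_sub]; rfl

theorem pr_one : pr W 1 = 1 := by rw [pr, redA_one, map_one]

theorem pr_zero : pr W 0 = 0 := by rw [pr, redA_zero, map_zero]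

theorem pr_sum {ι : Type*} (s : Finset ι) {f : ι → MonoidAlgebra ℂ G} (hf : ∀ i ∈ s, f i ∈ OG M G) :
    pr W (∑ i ∈ s, f i) = ∑ i ∈ s, pr W (f i) := by
  rw [pr, redA_sum s hf, map_sum]; rfl

variable (W) in
theorem pr_surj (P : MA W) : ∃ x ∈ OG M G, pr W x = P := by
  obtain ⟨y, rfl⟩ := W.surj P
  obtain ⟨x, hx, rfl⟩ := exists_redA_eq (M := M) y
  exact ⟨x, hx, rfl⟩

theorem exists_inv_of_pr (hx : x ∈ OG M G) (h : pr W x = 1) :
    ∃ y ∈ OG M G, x * y = 1 ∧ y * x = 1 ∧ pr W y = 1 := by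
  have h1 : IsNilpotent (1 - redA M x) := W.nil _ (by rw [map_sub, map_one]; exact sub_eq_zero.2 h.symm)
  have h2 := h1.isUnit_one_sub
  rw [sub_sub_cancel] at h2
  obtain ⟨u, hu⟩ := h2
  obtain ⟨v, hv, hv'⟩ := exists_redA_eq (M := M) ((u⁻¹ : (MonoidAlgebra (F M) G)ˣ) : MonoidAlgebra (F M) G)
  obtain ⟨z, hz, hz1⟩ := exists_mul_eq_one_of_redA_eq_one (mul_mem hx hv)
    (by rw [redA_mul hx hv, hv', ← hu, Units.mul_inv])
  obtain ⟨z', hz', -, hz2⟩ := exists_inv_of_redA_eq_one (mul_mem hv hx)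
    (by rw [redA_mul hv hx, hv', ← hu, Units.inv_mul])
  have e1 : x * (v * z) = 1 := by rw [← mul_assoc, hz1]
  have e2 : z' * v * x = 1 := by rw [mul_assoc, hz2]
  have e3 : z' * v = v * z := by rw [← mul_one (z' * v), ← e1, ← mul_assoc, e2, one_mul]
  refine ⟨v * z, mul_mem hv hz, e1, e3 ▸ e2, ?_⟩
  have := congrArg (pr W) e1
  rwa [pr_mul hx (mul_mem hv hz), h, one_mul, pr_one] at this

/-- `i` is an idempotent lift of `P` -/
structure Lf (W : Wedd (F M) G) (i : MonoidAlgebra ℂ G) (P : MA W) : Prop where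
  mem : i ∈ OG M G
  idem : i * i = i
  eq : pr W i = P

theorem Lf.pidem {i : MonoidAlgebra ℂ G} {P : MA W} (h : Lf W i P) : P * P = P := by
  rw [← h.eq, ← pr_mul h.mem h.mem, h.idem]

theorem lf_self {i : MonoidAlgebra ℂ G} (hi : i ∈ OG M G) (hii : i * i = i) : Lf W i (pr W i) :=
  ⟨hi, hii, rfl⟩

theorem lf_one : Lf W 1 1 := ⟨one_mem _, mul_one _, pr_one⟩

theorem lf_zero : Lf W 0 0 := ⟨zero_mem _, mul_zero _, pr_zero⟩

theorem exists_lf_le {e : MonoidAlgebra ℂ G} {Q : MA W} (he : Lf W e Q) {P : MA W}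
    (hP : P * P = P) (h1 : Q * P = P) (h2 : P * Q = P) :
    ∃ i, Lf W i P ∧ e * i = i ∧ i * e = i := by
  obtain ⟨x, hx, hxP⟩ := pr_surj W P
  have hz : e * x * e ∈ OG M G := mul_mem (mul_mem he.mem hx) he.mem
  have hzP : pr W (e * x * e) = P := by
    rw [pr_mul (mul_mem he.mem hx) he.mem, pr_mul he.mem hx, he.eq, hxP, h1, h2]
  obtain ⟨t, ht, -⟩ := exists_ip_idem hz hz
  have ha := H85.aeval_mem_OG hz t
  have hs : e * x * e * (e * x * e) - e * x * e ∈ OG M G := sub_mem (mul_mem hz hz) hz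
  refine ⟨ip t (e * x * e), ⟨?_, ht, ?_⟩, ?_, ?_⟩
  · rw [ip_eq]; exact add_mem hz (mul_mem hs ha)
  · rw [ip_eq, pr_add hz (mul_mem hs ha), pr_mul hs ha, pr_sub (mul_mem hz hz) hz, pr_mul hz hz,
      hzP, hP, sub_self, zero_mul, add_zero]
  · rw [ip_eq_mul, ← mul_assoc, ← mul_assoc, ← mul_assoc, he.idem]
  · rw [ip_eq_mul', mul_assoc _ _ e, mul_assoc _ e e, he.idem]

theorem exists_lf {P : MA W} (hP : P * P = P) : ∃ i, Lf W i P := by
  obtain ⟨i, hi, -⟩ := exists_lf_le (W := W) lf_one hP (one_mul _) (mul_one _)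
  exact ⟨i, hi⟩

theorem Lf.chiL_eq {i i' : MonoidAlgebra ℂ G} {P : MA W} (h : Lf W i P) (h' : Lf W i' P)
    {θ : G → ℂ} (hθ : IsClassFunction G θ) : chiL θ i = chiL θ i' := by
  have m1 : i * i' ∈ OG M G := mul_mem h.mem h'.mem
  have m2 : 1 - i ∈ OG M G := sub_mem (one_mem _) h.mem
  have m3 : 1 - i' ∈ OG M G := sub_mem (one_mem _) h'.mem
  obtain ⟨y, -, hy1, hy2, -⟩ := exists_inv_of_pr (W := W) (add_mem m1 (mul_mem m2 m3)) (by
    rw [pr_add m1 (mul_mem m2 m3), pr_mul h.mem h'.mem, pr_mul m2 m3, pr_sub (one_mem _) h.mem,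
      pr_sub (one_mem _) h'.mem, h.eq, h'.eq, pr_one, sub_mul, mul_sub, mul_sub, h.pidem]
    simp)
  set u := i * i' + (1 - i) * (1 - i') with hu
  have e1 : i * u = u * i' := by
    have a1 : i * (1 - i) = 0 := by rw [mul_sub, mul_one, h.idem, sub_self]
    have a2 : (1 - i') * i' = 0 := by rw [sub_mul, one_mul, h'.idem, sub_self]
    rw [hu, mul_add, add_mul, ← mul_assoc, ← mul_assoc, h.idem, a1, zero_mul, mul_assoc,
      mul_assoc, h'.idem, a2, mul_zero]
  calc chiL θ i = chiL θ (i * u * y) := by rw [mul_assoc, hy1, mul_one]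
    _ = chiL θ (y * (u * i')) := by rw [chiL_mul_comm hθ, e1]
    _ = chiL θ i' := by rw [← mul_assoc, hy2, one_mul]

theorem Lf.chiL_eqv {i i' : MonoidAlgebra ℂ G} {a b : MA W} (h : Lf W i (a * b))
    (h' : Lf W i' (b * a)) {θ : G → ℂ} (hθ : IsClassFunction G θ) : chiL θ i = chiL θ i' := by
  obtain ⟨x, hx, hxa⟩ := pr_surj W a
  obtain ⟨y, hy, hyb⟩ := pr_surj W b
  have hP := h.pidem
  have hQ := h'.pidem
  have ma : i * x * i' ∈ OG M G := mul_mem (mul_mem h.mem hx) h'.mem
  have mb : i' * y * i ∈ OG M G := mul_mem (mul_mem h'.mem hy) h.mem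
  have pa : pr W (i * x * i') = a * b * a := by
    rw [pr_mul (mul_mem h.mem hx) h'.mem, pr_mul h.mem hx, h.eq, h'.eq, hxa]
    calc a * b * a * (b * a) = (a * b * (a * b)) * a := by simp only [mul_assoc]
      _ = _ := by rw [hP]
  have pb : pr W (i' * y * i) = b * a * b := by
    rw [pr_mul (mul_mem h'.mem hy) h.mem, pr_mul h'.mem hy, h.eq, h'.eq, hyb]
    calc b * a * b * (a * b) = (b * a * (b * a)) * b := by simp only [mul_assoc]
      _ = _ := by rw [hQ]
  set A := i * x * i' with hA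
  set B := i' * y * i with hB
  have m2 : 1 - i ∈ OG M G := sub_mem (one_mem _) h.mem
  obtain ⟨w, hw, hw1, hw2, hw3⟩ := exists_inv_of_pr (W := W) (add_mem (mul_mem ma mb) m2) (by
    rw [pr_add (mul_mem ma mb) m2, pr_mul ma mb, pa, pb, pr_sub (one_mem _) h.mem, pr_one, h.eq]
    have : a * b * a * (b * a * b) = a * b * (a * b) * (a * b) := by simp only [mul_assoc]
    rw [this, hP, hP, add_sub_cancel])
  have iA : i * A = A := by rw [hA, ← mul_assoc, ← mul_assoc, h.idem]
  have Bi : B * i = B := by rw [hB, mul_assoc, h.idem]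
  have a1 : i * (1 - i) = 0 := by rw [mul_sub, mul_one, h.idem, sub_self]
  have a2 : (1 - i) * i = 0 := by rw [sub_mul, one_mul, h.idem, sub_self]
  have e1 : A * B * w = i := by
    have : i * (A * B + (1 - i)) = A * B := by rw [mul_add, ← mul_assoc, iA, a1, add_zero]
    rw [← this, mul_assoc, hw1, mul_one]
  have hc : Lf W (B * w * A) (b * a) := by
    refine ⟨mul_mem (mul_mem mb hw) ma, ?_, ?_⟩
    · calc B * w * A * (B * w * A) = B * w * (A * B * w) * A := by simp only [mul_assoc]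
        _ = B * w * A := by rw [e1, mul_assoc, iA]
    · rw [pr_mul (mul_mem mb hw) ma, pr_mul mb hw, pa, pb, hw3, mul_one]
      have : b * a * b * (a * b * a) = b * a * (b * a) * (b * a) := by simp only [mul_assoc]
      rw [this, hQ, hQ]
  rw [← hc.chiL_eq h' hθ, chiL_mul_comm hθ, ← mul_assoc, e1]

open Classical in
/-- the value of `θ` on an idempotent lift of `P` -/
noncomputable def dm (W : Wedd (F M) G) (θ : G → ℂ) (P : MA W) : ℂ :=
  if h : P * P = P then chiL θ (exists_lf h).choose else 0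

variable {θ : G → ℂ}

theorem Lf.dm_eq {i : MonoidAlgebra ℂ G} {P : MA W} (h : Lf W i P) (hθ : IsClassFunction G θ) :
    dm W θ P = chiL θ i := by
  rw [dm, dif_pos h.pidem]
  exact (exists_lf h.pidem).choose_spec.chiL_eq h hθ

theorem dm_zero (hθ : IsClassFunction G θ) : dm W θ 0 = 0 := by
  rw [lf_zero.dm_eq hθ, map_zero]

theorem dm_add (hθ : IsClassFunction G θ) {P Q : MA W} (hP : P * P = P) (hQ : Q * Q = Q)
    (h1 : P * Q = 0) (h2 : Q * P = 0) : dm W θ (P + Q) = dm W θ P + dm W θ Q := by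
  have hs : (P + Q) * (P + Q) = P + Q := by rw [add_mul, mul_add, mul_add, hP, hQ, h1, h2]; simp
  obtain ⟨e, he⟩ := exists_lf hs
  obtain ⟨i, hi, h3, h4⟩ := exists_lf_le he hP (by rw [add_mul, hP, h2, add_zero])
    (by rw [mul_add, hP, h1, add_zero])
  have hj : Lf W (e - i) Q := ⟨sub_mem he.mem hi.mem,
    by rw [sub_mul, mul_sub, mul_sub, he.idem, h3, h4, hi.idem, sub_self, sub_zero],
    by rw [pr_sub he.mem hi.mem, he.eq, hi.eq, add_sub_cancel_left]⟩
  rw [he.dm_eq hθ, hi.dm_eq hθ, hj.dm_eq hθ, map_sub, add_sub_cancel]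

theorem dm_eqv (hθ : IsClassFunction G θ) {a b : MA W} (h : a * b * (a * b) = a * b)
    (h' : b * a * (b * a) = b * a) : dm W θ (a * b) = dm W θ (b * a) := by
  obtain ⟨i, hi⟩ := exists_lf h
  obtain ⟨j, hj⟩ := exists_lf h'
  rw [hi.dm_eq hθ, hj.dm_eq hθ, hi.chiL_eqv hj hθ]

theorem dm_sum (hθ : IsClassFunction G θ) {ι : Type*} (s : Finset ι) {f : ι → MA W}
    (h1 : ∀ a, f a * f a = f a) (h2 : ∀ a b, a ≠ b → f a * f b = 0) :
    dm W θ (∑ a ∈ s, f a) = ∑ a ∈ s, dm W θ (f a) := by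
  classical
  induction s using Finset.induction_on with
  | empty => rw [Finset.sum_empty, Finset.sum_empty, dm_zero hθ]
  | insert a s ha ih =>
    rw [Finset.sum_insert ha, Finset.sum_insert ha, ← ih]
    refine dm_add hθ (h1 a) ?_ ?_ ?_
    · rw [Finset.sum_mul_sum]
      refine Finset.sum_congr rfl fun b hb => ?_
      rw [Finset.sum_eq_single b (fun c _ hc => h2 b c hc.symm) (fun h => absurd hb h), h1]
    · rw [Finset.mul_sum]
      exact Finset.sum_eq_zero fun b hb => h2 a b (by rintro rfl; exact ha hb)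
    · rw [Finset.sum_mul]
      exact Finset.sum_eq_zero fun b hb => h2 b a (by rintro rfl; exact ha hb)

/-- the first index -/
def z0 (W : Wedd (F M) G) (j : Fin W.n) : Fin (W.d j) := ⟨0, Nat.pos_of_ne_zero (W.d_ne j)⟩

/-- matrix units -/
noncomputable def mu (W : Wedd (F M) G) (j : Fin W.n) (r s : Fin (W.d j)) (c : F M) : MA W :=
  Pi.single j (Matrix.single r s c)

theorem mu_mul_mu (j : Fin W.n) (r s t : Fin (W.d j)) (c c' : F M) :
    mu W j r s c * mu W j s t c' = mu W j r t (c * c') := by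
  rw [mu, mu, mu, ← Pi.single_mul, Matrix.single_mul_single_same]

theorem mu_mul_mul_mu (j : Fin W.n) (r s t u : Fin (W.d j)) (c c' : F M) (P : MA W) :
    mu W j r s c * P * mu W j t u c' = mu W j r u (c * P j s t * c') := by
  funext k
  by_cases h : k = j
  · subst h
    simp only [mu, Pi.mul_apply, Pi.single_eq_same, Matrix.single_mul_mul_single]
  · simp only [mu, Pi.mul_apply, Pi.single_eq_of_ne h, mul_zero]

/-- the basic idempotent at `j` -/
noncomputable def bE (W : Wedd (F M) G) (j : Fin W.n) : MA W := mu W j (z0 W j) (z0 W j) 1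

theorem bE_idem (j : Fin W.n) : bE W j * bE W j = bE W j := by rw [bE, mu_mul_mu, mul_one]

theorem dm_mu (hθ : IsClassFunction G θ) (j : Fin W.n) (r : Fin (W.d j)) :
    dm W θ (mu W j r r 1) = dm W θ (bE W j) := by
  have := dm_eqv (W := W) hθ (a := mu W j r (z0 W j) 1) (b := mu W j (z0 W j) r 1)
    (by simp only [mu_mul_mu, mul_one]) (by simp only [mu_mul_mu, mul_one])
  simpa only [mu_mul_mu, mul_one, bE] using this

theorem single_one_eq (j : Fin W.n) : (Pi.single j 1 : MA W) = ∑ r, mu W j r r 1 := by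
  funext k
  rw [Finset.sum_apply]
  by_cases h : k = j
  · subst h
    simp only [mu, Pi.single_eq_same]
    ext a b
    rw [Matrix.sum_apply, Finset.sum_eq_single a (fun c _ hc => Matrix.single_apply_of_row_ne hc _ _ _)
      (by simp), Matrix.one_apply]
    by_cases hab : a = b
    · subst hab; simp
    · rw [if_neg hab, Matrix.single_apply_of_col_ne _ _ hab]
  · simp only [mu, Pi.single_eq_of_ne h, Finset.sum_const_zero]

theorem dm_single_one (hθ : IsClassFunction G θ) (j : Fin W.n) :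
    dm W θ (Pi.single j 1) = W.d j * dm W θ (bE W j) := by
  rw [single_one_eq, dm_sum hθ _ (fun a => by rw [mu_mul_mu, mul_one]) (fun a b hab => by
    rw [mu, mu, ← Pi.single_mul, Matrix.single_mul_single_of_ne _ _ _ _ hab, Pi.single_zero])]
  simp only [dm_mu hθ, Finset.sum_const, Finset.card_univ, Fintype.card_fin, nsmul_eq_mul]

theorem dm_one (hθ : IsClassFunction G θ) : θ 1 = ∑ j, W.d j * dm W θ (bE W j) := by
  have h1 : (1 : MA W) = ∑ j, Pi.single j 1 := (Finset.univ_sum_single (1 : MA W)).symm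
  rw [← chiL_one θ, ← (lf_one (W := W)).dm_eq hθ, h1, dm_sum hθ _ (fun a => by
    rw [← Pi.single_mul, mul_one]) (fun a b hab => by
      funext k
      by_cases h : k = a
      · subst h; simp [Pi.single_eq_of_ne hab]
      · simp [Pi.single_eq_of_ne h])]
  exact Finset.sum_congr rfl fun j _ => dm_single_one hθ j

theorem exists_mult (P : MA W) (hP : P * P = P) :
    ∃ r : Fin W.n → ℕ, (∀ j, P j = 0 → r j = 0) ∧
      ∀ θ, IsClassFunction G θ → dm W θ P = ∑ j, r j * dm W θ (bE W j) := by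
  classical
  induction hn : Module.finrank (F M) (LinearMap.range (LinearMap.mulLeft (F M) P))
    using Nat.strong_induction_on generalizing P with
  | _ n ih =>
  by_cases h0 : P = 0
  · subst h0
    exact ⟨0, fun _ _ => rfl, fun θ hθ => by simp [dm_zero hθ]⟩
  obtain ⟨j, hj⟩ := Function.ne_iff.1 h0
  obtain ⟨r, hr⟩ := Function.ne_iff.1 (show (P j : _ → _ → _) ≠ 0 from hj)
  obtain ⟨s, hs⟩ := Function.ne_iff.1 hr
  have hc : P j r s ≠ 0 := hs
  obtain ⟨a, ha⟩ : ∃ a, a = P * mu W j s (z0 W j) 1 := ⟨_, rfl⟩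
  obtain ⟨b, hb⟩ : ∃ b, b = mu W j (z0 W j) r (P j r s)⁻¹ * P := ⟨_, rfl⟩
  have hba : b * a = bE W j := by
    rw [ha, hb, mul_assoc, ← mul_assoc P, hP, ← mul_assoc, mu_mul_mul_mu, mul_one,
      inv_mul_cancel₀ hc, bE]
  have haE : a * bE W j = a := by rw [ha, bE, mul_assoc, mu_mul_mu, mul_one]
  have hE : a * b * (a * b) = a * b := by
    calc a * b * (a * b) = a * (b * a) * b := by simp only [mul_assoc]
      _ = a * b := by rw [hba, haE]
  have h1 : P * (a * b) = a * b := by rw [ha, ← mul_assoc, ← mul_assoc, hP]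
  have h2 : a * b * P = a * b := by rw [hb, mul_assoc, mul_assoc, hP]
  have hQ : (P - a * b) * (P - a * b) = P - a * b := by
    rw [sub_mul, mul_sub, mul_sub, hP, h1, h2, hE, sub_self, sub_zero]
  have h3 : (P - a * b) * (a * b) = 0 := by rw [sub_mul, h1, hE, sub_self]
  have h4 : a * b * (P - a * b) = 0 := by rw [mul_sub, h2, hE, sub_self]
  have hne : a * b ≠ 0 := by
    intro h
    have : bE W j = 0 := by
      rw [← bE_idem, ← hba, mul_assoc, ← mul_assoc a, h, zero_mul, mul_zero]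
    have := congrFun (congrFun (congrFun this j) (z0 W j)) (z0 W j)
    simp [bE, mu] at this
  have hlt : LinearMap.range (LinearMap.mulLeft (F M) (P - a * b)) <
      LinearMap.range (LinearMap.mulLeft (F M) P) := by
    refine lt_of_le_of_ne ?_ fun h => hne ?_
    · rintro _ ⟨y, rfl⟩
      refine ⟨(P - a * b) * y, ?_⟩
      simp only [LinearMap.mulLeft_apply]
      rw [← mul_assoc, mul_sub, hP, h1]
    · have : a * b ∈ LinearMap.range (LinearMap.mulLeft (F M) P) := ⟨a * b, h1⟩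
      rw [← h] at this
      obtain ⟨y, hy⟩ := this
      simp only [LinearMap.mulLeft_apply] at hy
      calc a * b = (P - a * b) * (P - a * b) * y := by rw [hQ, hy]
        _ = 0 := by rw [mul_assoc, hy, h3]
  obtain ⟨ρ, hρ0, hρ⟩ := ih _ (hn ▸ Submodule.finrank_lt_finrank_of_lt hlt) _ hQ rfl
  refine ⟨ρ + Pi.single j 1, fun k hk => ?_, fun θ hθ => ?_⟩
  · have hkj : k ≠ j := by rintro rfl; exact hj hk
    rw [Pi.add_apply, Pi.single_eq_of_ne hkj, add_zero]
    refine hρ0 k ?_
    rw [ha, Pi.sub_apply, Pi.mul_apply, Pi.mul_apply, hk, zero_mul, zero_mul, sub_zero]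
  · have := dm_add hθ hQ hE h3 h4
    rw [sub_add_cancel] at this
    rw [this, hρ θ hθ, dm_eqv hθ hE (by rw [hba, bE_idem]), hba]
    simp only [Pi.add_apply, Nat.cast_add, add_mul, Finset.sum_add_distrib]
    congr 1
    rw [Finset.sum_eq_single j (fun k _ hk => by simp [Pi.single_eq_of_ne hk]) (by simp)]
    simp

/-- an idempotent lift of the basic idempotent at `j` -/
noncomputable def ide (W : Wedd (F M) G) (j : Fin W.n) : MonoidAlgebra ℂ G :=
  (exists_lf (bE_idem j)).choose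

theorem lf_ide (j : Fin W.n) : Lf W (ide W j) (bE W j) := (exists_lf (bE_idem j)).choose_spec

theorem ide_mem (j : Fin W.n) : ide W j ∈ OG M G := (lf_ide j).mem

theorem ide_idem (j : Fin W.n) : ide W j * ide W j = ide W j := (lf_ide j).idem

variable (W) in
theorem exists_mult_idem {i : MonoidAlgebra ℂ G} (hi : i ∈ OG M G) (hii : i * i = i) :
    ∃ r : Fin W.n → ℕ, (∀ j, pr W i j = 0 → r j = 0) ∧
      ∀ θ, IsClassFunction G θ → chiL θ i = ∑ j, r j * chiL θ (ide W j) := by
  obtain ⟨r, h0, hr⟩ := exists_mult _ (lf_self (W := W) hi hii).pidem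
  refine ⟨r, h0, fun θ hθ => ?_⟩
  rw [← (lf_self (W := W) hi hii).dm_eq hθ, hr θ hθ]
  simp only [(lf_ide _).dm_eq hθ]

variable (W) in
theorem one_eq_sum_ide (hθ : IsClassFunction G θ) : θ 1 = ∑ j, W.d j * chiL θ (ide W j) := by
  rw [dm_one (W := W) hθ]
  simp only [(lf_ide _).dm_eq hθ]

/-- the modular character at `j` -/
noncomputable def trW (W : Wedd (F M) G) (j : Fin W.n) (g : G) : F M :=
  (W.π (single g 1) j).trace

theorem chiL_trW (j : Fin W.n) (x : MonoidAlgebra (F M) G) :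
    chiL (trW W j) x = (W.π x j).trace := by
  haveI := Fintype.ofFinite G
  conv_rhs => rw [eq_sum_single x]
  rw [chiL_apply, map_sum, Finset.sum_apply, Matrix.trace_sum]
  refine Finset.sum_congr rfl fun g _ => ?_
  rw [map_smul, Pi.smul_apply, Matrix.trace_smul, smul_eq_mul, trW]

theorem trW_conj (j : Fin W.n) (g h : G) : trW W j (h * g * h⁻¹) = trW W j g := by
  have : (single (h * g * h⁻¹) 1 : MonoidAlgebra (F M) G) = single h 1 * (single g 1 * single h⁻¹ 1) := by
    simp only [single_mul_single, mul_one, mul_assoc]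
  rw [trW, this, map_mul, Pi.mul_apply, Matrix.trace_mul_comm, ← Pi.mul_apply, ← map_mul]
  simp only [single_mul_single, mul_one, mul_assoc, inv_mul_cancel, trW]

theorem trace_bE (j k : Fin W.n) : (bE W k j).trace = if j = k then 1 else 0 := by
  split_ifs with h
  · subst h; simp [bE, mu]
  · simp [bE, mu, Pi.single_eq_of_ne h]

variable {p : ℕ} [hp : Fact p.Prime]

theorem exists_phi (hM : IsPModular p M) (j : Fin W.n) : ∃ φ : G → ℂ, IsClassFunction G φ ∧
    (∀ g, p ∣ orderOf g → φ g = 0) ∧ ∀ k, chiL φ (ide W k) = if j = k then 1 else 0 := by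
  classical
  choose L hLO hL using exists_red_eq M
  let T : Fin W.n → G → ℂ := fun i g => L (trW W i g)
  have hT : ∀ i, IsClassFunction G (T i) := fun i g h => by simp only [T, trW_conj]
  let m : Matrix (Fin W.n) (Fin W.n) (O M) := fun i k =>
    ⟨chiL (T i) (ide W k), chiL_mem_O (fun _ => hLO _) (ide_mem k)⟩
  have hm : (redHom M).mapMatrix m = 1 := by
    ext i k
    rw [RingHom.mapMatrix_apply, Matrix.map_apply, redHom_apply, Matrix.one_apply]
    simp only [m]
    rw [red_chiL (fun _ => hLO _) (ide_mem k)]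
    simp only [T, hL]
    rw [chiL_trW, ← trace_bE, ← (lf_ide k).eq]; rfl
  obtain ⟨u, hu⟩ := H34.isUnit_matrix_of_red m hm
  have hcl : IsClassFunction G (∑ i, (u⁻¹ : (Matrix _ _ ℂ)ˣ).1 j i • T i) :=
    H6.isClassFunction_sum _ fun i _ => H6.isClassFunction_smul _ (hT i)
  refine ⟨pRegularPart p (∑ i, (u⁻¹ : (Matrix _ _ ℂ)ˣ).1 j i • T i), H84.isClassFunction_reg hcl,
    fun g hg => H84.reg_of_sing _ hg, fun k => ?_⟩
  rw [H85.chiL_idem_reg hM (ide_mem k) (ide_idem k) hcl, chiL_sum_fun, ← Matrix.one_apply,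
    ← u.inv_mul, Matrix.mul_apply, hu]
  simp only [chiL_smul_fun]
  rfl

open Classical in
/-- the irreducible Brauer character at `j` -/
noncomputable def phi (p : ℕ) (W : Wedd (F M) G) (j : Fin W.n) : G → ℂ :=
  if h : ∃ φ : G → ℂ, IsClassFunction G φ ∧ (∀ g, p ∣ orderOf g → φ g = 0) ∧
    ∀ k, chiL φ (ide W k) = if j = k then 1 else 0 then h.choose else 0

theorem phi_spec (hM : IsPModular p M) (j : Fin W.n) : IsClassFunction G (phi p W j) ∧
    (∀ g, p ∣ orderOf g → phi p W j g = 0) ∧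
    ∀ k, chiL (phi p W j) (ide W k) = if j = k then 1 else 0 := by
  have h := exists_phi hM j
  rw [phi, dif_pos (by convert h)]
  convert (show ∃ φ : G → ℂ, IsClassFunction G φ ∧ (∀ g, p ∣ orderOf g → φ g = 0) ∧
    ∀ k, chiL φ (ide W k) = if j = k then 1 else 0 by convert h).choose_spec

theorem phi_class (hM : IsPModular p M) (j : Fin W.n) : IsClassFunction G (phi p W j) :=
  (phi_spec hM j).1

theorem reg_phi (hM : IsPModular p M) (j : Fin W.n) : pRegularPart p (phi p W j) = phi p W j :=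
  H84.reg_eq_self (phi_spec hM j).2.1

theorem chiL_phi_ide (hM : IsPModular p M) (j k : Fin W.n) :
    chiL (phi p W j) (ide W k) = if j = k then 1 else 0 := (phi_spec hM j).2.2 k

theorem apply_eq_zero_of_ide (hM : IsPModular p M) (hθ : IsClassFunction G θ)
    (h : ∀ j, chiL θ (ide W j) = 0) {g : G} (hg : ¬ p ∣ orderOf g) : θ g = 0 := by
  letI : CommGroup (Subgroup.zpowers g) := IsCyclic.commGroup
  letI := Fintype.ofFinite (Subgroup.zpowers g)
  have h1 := H85.single_eq_sum_eL (Subgroup.zpowers g).subtype ⟨g, Subgroup.mem_zpowers g⟩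
  have h2 := congrArg (chiL θ) h1
  rw [chiL_single, one_mul, map_sum] at h2
  refine h2.trans (Finset.sum_eq_zero fun l _ => ?_)
  obtain ⟨r, -, hr⟩ := exists_mult_idem W (H85.eL_mem_OG hM (by
    rwa [← Nat.card_eq_fintype_card, Nat.card_zpowers]) (Subgroup.zpowers g).subtype l)
    (H85.eL_idem _ l)
  rw [map_smul, hr θ hθ]
  simp only [h, mul_zero, Finset.sum_const_zero, smul_zero]

variable (W) in
theorem reg_eq_sum_phi (hM : IsPModular p M) (hθ : IsClassFunction G θ) :
    pRegularPart p θ = ∑ j, chiL θ (ide W j) • phi p W j := by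
  have hcl : IsClassFunction G (∑ j, chiL θ (ide W j) • phi p W j) :=
    H6.isClassFunction_sum _ fun i _ => H6.isClassFunction_smul _ (phi_class hM i)
  funext g
  by_cases hg : p ∣ orderOf g
  · rw [H84.reg_of_sing _ hg, Finset.sum_apply]
    exact (Finset.sum_eq_zero fun j _ => by
      rw [Pi.smul_apply, (phi_spec hM j).2.1 g hg, smul_zero]).symm
  · rw [H84.reg_of_reg _ hg, ← sub_eq_zero]
    refine apply_eq_zero_of_ide (W := W) hM (H6.isClassFunction_sub hθ hcl) (fun k => ?_) hg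
    rw [sub_eq_add_neg, chiL_add_fun, ← neg_one_smul ℂ, chiL_smul_fun, chiL_sum_fun]
    simp only [chiL_smul_fun, chiL_phi_ide hM, mul_ite, mul_one, mul_zero, Finset.sum_ite_eq',
      Finset.mem_univ, if_true]
    ring

theorem chiL_phi_nat (hM : IsPModular p M) (j : Fin W.n) {i : MonoidAlgebra ℂ G}
    (hi : i ∈ OG M G) (hii : i * i = i) : ∃ n : ℕ, chiL (phi p W j) i = n := by
  obtain ⟨r, -, hr⟩ := exists_mult_idem W hi hii
  refine ⟨r j, ?_⟩
  rw [hr _ (phi_class hM j)]
  simp [chiL_phi_ide hM]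

theorem chiL_phi_eq_zero (hM : IsPModular p M) (j : Fin W.n) {i : MonoidAlgebra ℂ G}
    (hi : i ∈ OG M G) (hii : i * i = i) (h : pr W i j = 0) : chiL (phi p W j) i = 0 := by
  obtain ⟨r, h0, hr⟩ := exists_mult_idem W hi hii
  rw [hr _ (phi_class hM j)]
  simp [chiL_phi_ide hM, h0 j h]

variable (W) in
theorem chiL_idem_eq_sum (hM : IsPModular p M) (hθ : IsClassFunction G θ) {i : MonoidAlgebra ℂ G}
    (hi : i ∈ OG M G) (hii : i * i = i) :
    chiL θ i = ∑ j, chiL θ (ide W j) * chiL (phi p W j) i := by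
  rw [← H85.chiL_idem_reg hM hi hii hθ, reg_eq_sum_phi W hM hθ, chiL_sum_fun]
  simp only [chiL_smul_fun]

theorem phi_one (hM : IsPModular p M) (j : Fin W.n) : phi p W j 1 = W.d j := by
  rw [one_eq_sum_ide W (phi_class hM j)]
  simp [chiL_phi_ide hM]

theorem linearIndependent_phi (hM : IsPModular p M) : LinearIndependent ℂ (phi p W) := by
  rw [Fintype.linearIndependent_iff]
  intro c hc k
  have := congrArg (fun f => chiL f (ide W k)) hc
  simp only [chiL_sum_fun, chiL_smul_fun, chiL_phi_ide hM, mul_ite, mul_one, mul_zero,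
    Finset.sum_ite_eq', Finset.mem_univ, if_true] at this
  rw [this, ← zero_smul ℂ (0 : G → ℂ), chiL_smul_fun, zero_mul]

/-- decomposition numbers -/
noncomputable def dec (W : Wedd (F M) G) (χ : IrrCharacter G) (j : Fin W.n) : ℕ :=
  (H85.chiL_idem_nat (ide_idem j) (H84.irr_char χ)).choose

theorem chiL_ide (χ : IrrCharacter G) (j : Fin W.n) : chiL (χ : G → ℂ) (ide W j) = dec W χ j :=
  (H85.chiL_idem_nat (ide_idem j) (H84.irr_char χ)).choose_spec

variable (W) in
theorem reg_irr_eq_sum (hM : IsPModular p M) (χ : IrrCharacter G) :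
    pRegularPart p (χ : G → ℂ) = ∑ j, (dec W χ j : ℂ) • phi p W j := by
  rw [reg_eq_sum_phi W hM (H84.irr_class χ)]
  simp only [chiL_ide]

variable (W) in
theorem deg_eq_sum (χ : IrrCharacter G) : charDegree (χ : G → ℂ) = ∑ j, W.d j * dec W χ j := by
  have := one_eq_sum_ide W (H84.irr_class χ)
  simp only [chiL_ide] at this
  rw [← H84.cast_deg] at this
  exact_mod_cast this

/-- projective indecomposable characters -/
noncomputable def Phi (W : Wedd (F M) G) (j : Fin W.n) : G → ℂ :=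
  ∑ χ : IrrCharacter G, (dec W χ j : ℂ) • (χ : G → ℂ)

theorem isCharacter_Phi (j : Fin W.n) : IsCharacter G (Phi W j) :=
  H6.isCharacter_sum _ fun χ _ => H6.isCharacter_natCast_smul _ (H84.irr_char χ)

theorem Phi_one (j : Fin W.n) :
    Phi W j 1 = ((∑ χ : IrrCharacter G, dec W χ j * charDegree (χ : G → ℂ) : ℕ) : ℂ) := by
  simp only [Phi, Finset.sum_apply, Pi.smul_apply, smul_eq_mul, Nat.cast_sum, Nat.cast_mul,
    H84.cast_deg]

theorem inner_Phi [Fintype G] (hθ : IsClassFunction G θ) (j : Fin W.n) :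
    classInner θ (Phi W j) = chiL θ (ide W j) := by
  conv_rhs => rw [H6.classFun_eq_sum_irr hθ]
  rw [Phi, H6.classInner_sum_right, chiL_sum_fun]
  refine Finset.sum_congr rfl fun χ _ => ?_
  rw [H6.classInner_smul_right, chiL_smul_fun, chiL_ide, map_natCast, mul_comm]

theorem reg_Phi (hM : IsPModular p M) (j : Fin W.n) : pRegularPart p (Phi W j) = Phi W j := by
  haveI := Fintype.ofFinite G
  have hc := H6.char_isClassFunction (isCharacter_Phi (W := W) j)
  refine H6.classFun_ext (H84.isClassFunction_reg hc) hc fun χ hχ => ?_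
  have hχc := H6.irr_isClassFunction hχ
  rw [H84.inner_reg_comm, ← H6.conj_classInner, inner_Phi (H84.isClassFunction_reg hχc),
    H85.chiL_idem_reg hM (ide_mem j) (ide_idem j) hχc, ← inner_Phi hχc, H6.conj_classInner]

theorem Phi_sing (hM : IsPModular p M) (j : Fin W.n) {g : G} (hg : p ∣ orderOf g) :
    Phi W j g = 0 := by
  rw [← reg_Phi hM, H84.reg_of_sing _ hg]

theorem inner_phi_Phi [Fintype G] (hM : IsPModular p M) (j k : Fin W.n) :
    classInner (phi p W j) (Phi W k) = if j = k then 1 else 0 := by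
  rw [inner_Phi (phi_class hM j), chiL_phi_ide hM]

theorem exists_dec_ne_zero (hM : IsPModular p M) (j : Fin W.n) : ∃ χ, dec W χ j ≠ 0 := by
  haveI := Fintype.ofFinite G
  by_contra h
  push Not at h
  have := inner_phi_Phi hM j j
  rw [if_pos rfl, Phi] at this
  simp [h, H6.classInner_zero_right] at this

variable (W) in
theorem exists_dec_ne_zero' (χ : IrrCharacter G) : ∃ j, dec W χ j ≠ 0 := by
  by_contra h
  push Not at h
  have := deg_eq_sum W χ
  simp only [h, mul_zero, Finset.sum_const_zero] at this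
  exact H84.deg_ne_zero χ this

theorem pi_injective (hM : IsPModular p M) (hG : ¬ p ∣ Nat.card G) : Function.Injective W.π := by
  classical
  haveI := charP hM
  haveI := Fintype.ofFinite G
  rw [injective_iff_map_eq_zero]
  intro x hx
  refine alg_ext fun g => ?_
  have h1 := H64.MR.chiL_reg_eq_zero p (ConjClasses.mk (1 : G))
    (W.nil (x * single g⁻¹ 1) (by rw [map_mul, hx, zero_mul]))
  rw [chiL_mul_single, Finset.sum_eq_single g (fun h _ hh => ?_) (by simp)] at h1
  · rw [mul_inv_cancel, H64.MR.reg_eq_self p (by simp), if_pos rfl, mul_one] at h1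
    exact h1
  · rw [H64.MR.reg_eq_self p ((Nat.Prime.coprime_iff_not_dvd hp.out).2
      fun h2 => hG (h2.trans (orderOf_dvd_natCard _))).symm, if_neg, mul_zero]
    intro h2
    exact hh (mul_inv_eq_one.1 (isConj_one_left.1 (ConjClasses.mk_eq_mk_iff_isConj.1 h2)))

theorem sum_d_sq (hM : IsPModular p M) (hG : ¬ p ∣ Nat.card G) :
    ∑ j, W.d j ^ 2 = Nat.card G := by
  haveI := Fintype.ofFinite G
  have e := LinearEquiv.ofBijective W.π.toLinearMap ⟨pi_injective hM hG, W.surj⟩
  have := e.finrank_eq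
  rw [Module.finrank_pi_fintype, Module.finrank_eq_card_basis (MonoidAlgebra.basis G (F M))] at this
  simp only [Module.finrank_matrix, Fintype.card_fin, Module.finrank_self, mul_one] at this
  rw [Nat.card_eq_fintype_card, this]
  simp only [sq]

theorem sum_dec_sq (hM : IsPModular p M) (hG : ¬ p ∣ Nat.card G) (j : Fin W.n) :
    ∑ χ : IrrCharacter G, dec W χ j ^ 2 = 1 := by
  have h1 : ∑ χ : IrrCharacter G, charDegree (χ : G → ℂ) ^ 2 = Nat.card G := by
    have := H6.sum_irr_one_sq (G := G)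
    simp only [← H84.cast_deg] at this
    exact_mod_cast this
  have h2 : ∀ k, 1 ≤ ∑ χ : IrrCharacter G, dec W χ k ^ 2 := fun k => by
    obtain ⟨χ, hχ⟩ := exists_dec_ne_zero hM k
    exact (Nat.one_le_iff_ne_zero.2 (pow_ne_zero 2 hχ)).trans
      (Finset.single_le_sum (f := fun χ => dec W χ k ^ 2) (fun _ _ => Nat.zero_le _)
        (Finset.mem_univ χ))
  have h3 : ∑ k, W.d k ^ 2 * ∑ χ : IrrCharacter G, dec W χ k ^ 2 ≤ ∑ k, W.d k ^ 2 := by
    rw [sum_d_sq hM hG, ← h1]
    simp only [Finset.mul_sum]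
    rw [Finset.sum_comm]
    refine Finset.sum_le_sum fun χ _ => ?_
    rw [deg_eq_sum W χ]
    simp only [← mul_pow]
    exact Finset.sum_sq_le_sq_sum_of_nonneg fun _ _ => Nat.zero_le _
  have h4 := (Finset.sum_eq_sum_iff_of_le (s := Finset.univ) (f := fun k => W.d k ^ 2)
    (g := fun k => W.d k ^ 2 * ∑ χ : IrrCharacter G, dec W χ k ^ 2)
    (fun k _ => Nat.le_mul_of_pos_right _ (h2 k))).1 (le_antisymm
      (Finset.sum_le_sum fun k _ => Nat.le_mul_of_pos_right _ (h2 k)) h3) j (Finset.mem_univ j)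
  exact (Nat.eq_of_mul_eq_mul_left (pow_pos (Nat.pos_of_ne_zero (W.d_ne j)) 2)
    ((mul_one _).trans h4)).symm

theorem exists_idem_of_coprime [Fintype G] (hM : IsPModular p M) (hG : ¬ p ∣ Nat.card G)
    (ψ : IrrCharacter G) : ∃ i ∈ OG M G, i * i = i ∧
      ∀ θ, IsClassFunction G θ → chiL θ i = classInner θ ψ := by
  classical
  obtain ⟨W⟩ := H64.MR.exists_wedd (F M) G
  obtain ⟨j, hj⟩ := exists_dec_ne_zero' W ψ
  refine ⟨ide W j, ide_mem j, ide_idem j, fun θ hθ => ?_⟩
  have h := sum_dec_sq hM hG j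
  rw [← Finset.add_sum_erase _ _ (Finset.mem_univ ψ)] at h
  have h1 : 1 ≤ dec W ψ j ^ 2 := Nat.one_le_iff_ne_zero.2 (pow_ne_zero 2 hj)
  have h2 : dec W ψ j = 1 := by
    have : dec W ψ j ^ 2 = 1 := by omega
    exact (pow_eq_one_iff.1 this).resolve_right two_ne_zero
  have h3 : ∀ χ, χ ≠ ψ → dec W χ j = 0 := fun χ hχ => by
    have : ∑ χ ∈ Finset.univ.erase ψ, dec W χ j ^ 2 = 0 := by omega
    exact pow_eq_zero_iff two_ne_zero |>.1
      (Finset.sum_eq_zero_iff.1 this χ (Finset.mem_erase.2 ⟨hχ, Finset.mem_univ _⟩))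
  rw [← inner_Phi hθ, Phi, Finset.sum_eq_single ψ (fun χ _ hχ => by simp [h3 χ hχ]) (by simp), h2]
  simp

theorem isCharacter_phi_res (hM : IsPModular p M) (j : Fin W.n) (H : Subgroup G)
    (hH : ¬ p ∣ Nat.card H) : IsCharacter H fun h : H => phi p W j h := by
  haveI := Fintype.ofFinite H
  have hc := H6.isClassFunction_restrict H (phi_class hM j)
  refine H6.isCharacter_of_inner hc fun ψ hψ => ?_
  obtain ⟨i, hi, hii, h⟩ := exists_idem_of_coprime hM hH ⟨ψ, hψ⟩
  obtain ⟨n, hn⟩ := chiL_phi_nat hM j ((emb_mem_OG H.subtype_injective).2 hi)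
    (by rw [← map_mul, hii])
  exact ⟨n, by rw [← hn, H85.chiL_emb, ← h _ hc]; rfl⟩

theorem isGen_phi_pReg (hM : IsPModular p M) (j : Fin W.n) :
    IsGeneralizedCharacter G fun g => phi p W j (H35.pReg p g) := by
  refine H84.isGen_of_nilpotent (H6.isClassFunction_iff_isConj.2 fun g h hc =>
    H6.classFun_of_isConj (phi_class hM j) (H35.isConj_pReg p hc)) fun E hE => ?_
  have h1 := H6.char_isGen (isCharacter_phi_res hM j ((pPrimeCore p E).map E.subtype) (by
    rw [Subgroup.card_map_of_injective E.subtype_injective]; exact H1.not_dvd_card_pPrimeCore))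
  have := H6.isGen_comp ((E.subtype.subgroupMap (pPrimeCore p E)).comp (H84.pRegHom p)) h1
  convert this using 3 with e
  exact H35.pReg_coe p e

theorem reg_phi_pReg (hM : IsPModular p M) (j : Fin W.n) :
    pRegularPart p (fun g => phi p W j (H35.pReg p g)) = phi p W j := by
  refine Eq.trans (H84.reg_eq_iff.2 fun g hg => ?_) (reg_phi hM j)
  rw [H35.pReg_eq_self hg]

/-- `j` belongs to the block `B` -/
def InB (W : Wedd (F M) G) (B : Set (IrrCharacter G)) (j : Fin W.n) : Prop := pr W (fB B) j = 1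

variable {B : Set (IrrCharacter G)}

theorem pr_fB_eq_zero (hB : IsPBlock M B) {j : Fin W.n} (h : ¬ InB W B j) : pr W (fB B) j = 0 := by
  by_contra h0
  apply h
  have hc : ∀ a : MA W, a * pr W (fB B) = pr W (fB B) * a := fun a => by
    obtain ⟨x, hx, rfl⟩ := pr_surj W a
    rw [← pr_mul hx (fB_mem_OG hB), ← pr_mul (fB_mem_OG hB) hx, (isCent_fB B).comm]
  have hi := (lf_self (W := W) (fB_mem_OG hB) (fB_idem B)).pidem
  obtain ⟨c, hc⟩ := Matrix.mem_range_scalar_of_commute_single (M := pr W (fB B) j) fun r s _ => by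
    have := congrFun (hc (mu W j r s 1)) j
    simpa only [mu, Pi.mul_apply, Pi.single_eq_same, Commute, SemiconjBy] using this
  have h1 := congrFun hi j
  rw [Pi.mul_apply, ← hc, ← map_mul] at h1
  haveI : Nonempty (Fin (W.d j)) := ⟨z0 W j⟩
  have h2 := Matrix.scalar_inj.1 h1
  have h3 : c ≠ 0 := by rintro rfl; exact h0 (by rw [← hc, map_zero])
  rw [InB, ← hc, (mul_eq_left₀ h3).1 h2, map_one]

theorem lf_fB_mul_ide (hB : IsPBlock M B) (j : Fin W.n) :
    Lf W (fB B * ide W j) (pr W (fB B) * bE W j) :=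
  ⟨mul_mem (fB_mem_OG hB) (ide_mem j), by
    rw [mul_assoc, ← mul_assoc (ide W j), (isCent_fB B).comm, mul_assoc, ide_idem, ← mul_assoc,
      fB_idem], by rw [pr_mul (fB_mem_OG hB) (ide_mem j), (lf_ide j).eq]⟩

theorem mul_bE (P : MA W) (j : Fin W.n) : P * bE W j = Pi.single j (P j * bE W j j) := by
  funext k
  by_cases h : k = j
  · subst h; simp
  · simp [bE, mu, Pi.single_eq_of_ne h]

theorem chiL_blockPart_ide_of_in [Fintype G] (hB : IsPBlock M B) {j : Fin W.n} (h : InB W B j)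
    (hθ : IsClassFunction G θ) : chiL (blockPart B θ) (ide W j) = chiL θ (ide W j) := by
  have h1 := lf_fB_mul_ide hB j
  have h2 := mul_bE (W := W) 1 j
  rw [one_mul, Pi.one_apply] at h2
  rw [mul_bE, h, ← h2] at h1
  rw [← H85.chiL_fB_mul B hθ, h1.chiL_eq (lf_ide j) hθ]

theorem chiL_blockPart_ide_of_not_in [Fintype G] (hB : IsPBlock M B) {j : Fin W.n}
    (h : ¬ InB W B j) (hθ : IsClassFunction G θ) : chiL (blockPart B θ) (ide W j) = 0 := by
  have h1 := lf_fB_mul_ide hB j
  rw [mul_bE, pr_fB_eq_zero hB h, zero_mul, Pi.single_zero] at h1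
  rw [← H85.chiL_fB_mul B hθ, h1.chiL_eq lf_zero hθ, map_zero]

theorem inB_of_dec (hB : IsPBlock M B) {χ : IrrCharacter G} (hχ : χ ∈ B) {j : Fin W.n}
    (h : dec W χ j ≠ 0) : InB W B j := by
  haveI := Fintype.ofFinite G
  by_contra hj
  have := chiL_blockPart_ide_of_not_in hB hj (H84.irr_class χ)
  rw [H84.blockPart_irr_of_mem hχ, chiL_ide] at this
  exact h (by exact_mod_cast this)

theorem mem_of_dec (hB : IsPBlock M B) {χ : IrrCharacter G} {j : Fin W.n} (hj : InB W B j)
    (h : dec W χ j ≠ 0) : χ ∈ B := by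
  haveI := Fintype.ofFinite G
  by_contra hχ
  have := chiL_blockPart_ide_of_in hB hj (H84.irr_class χ)
  rw [H84.blockPart_irr_of_not_mem hχ, chiL_ide, ← zero_smul ℂ (0 : G → ℂ), chiL_smul_fun,
    zero_mul] at this
  exact h (by exact_mod_cast this.symm)

open Classical in
/-- the indices in the block `B` -/
noncomputable def ibr (W : Wedd (F M) G) (B : Set (IrrCharacter G)) : Finset (Fin W.n) :=
  Finset.univ.filter (InB W B)

theorem mem_ibr {j : Fin W.n} : j ∈ ibr W B ↔ InB W B j := by simp [ibr]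

theorem dec_eq_zero_of_not_mem (hB : IsPBlock M B) {χ : IrrCharacter G} (hχ : χ ∈ B)
    {j : Fin W.n} (h : j ∉ ibr W B) : dec W χ j = 0 := by
  by_contra h0; exact h (mem_ibr.2 (inB_of_dec hB hχ h0))

theorem dec_eq_zero_of_not_mem' (hB : IsPBlock M B) {χ : IrrCharacter G} (hχ : χ ∉ B)
    {j : Fin W.n} (h : j ∈ ibr W B) : dec W χ j = 0 := by
  by_contra h0; exact hχ (mem_of_dec hB (mem_ibr.1 h) h0)

variable (W) in
theorem reg_blockPart_eq_sum_phi [Fintype G] (hM : IsPModular p M) (hB : IsPBlock M B)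
    (hθ : IsClassFunction G θ) :
    pRegularPart p (blockPart B θ) = ∑ j ∈ ibr W B, chiL θ (ide W j) • phi p W j := by
  rw [reg_eq_sum_phi W hM (H84.isClassFunction_blockPart B θ), ← Finset.sum_subset
    (Finset.subset_univ (ibr W B)) fun j _ hj => by
      rw [chiL_blockPart_ide_of_not_in hB (mt mem_ibr.2 hj) hθ, zero_smul]]
  exact Finset.sum_congr rfl fun j hj => by rw [chiL_blockPart_ide_of_in hB (mem_ibr.1 hj) hθ]

variable (W) in
theorem reg_irr_eq_sum_ibr (hM : IsPModular p M) (hB : IsPBlock M B) {χ : IrrCharacter G}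
    (hχ : χ ∈ B) : pRegularPart p (χ : G → ℂ) = ∑ j ∈ ibr W B, (dec W χ j : ℂ) • phi p W j := by
  rw [reg_irr_eq_sum W hM, ← Finset.sum_subset (Finset.subset_univ (ibr W B)) fun j _ hj => by
    rw [dec_eq_zero_of_not_mem hB hχ hj, Nat.cast_zero, zero_smul]]

variable (W) in
theorem deg_eq_sum_ibr (hB : IsPBlock M B) {χ : IrrCharacter G} (hχ : χ ∈ B) :
    charDegree (χ : G → ℂ) = ∑ j ∈ ibr W B, W.d j * dec W χ j := by
  rw [deg_eq_sum W, ← Finset.sum_subset (Finset.subset_univ (ibr W B)) fun j _ hj => by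
    rw [dec_eq_zero_of_not_mem hB hχ hj, mul_zero]]

theorem Phi_eq_sum_bset (hB : IsPBlock M B) {j : Fin W.n} (hj : j ∈ ibr W B) :
    Phi W j = ∑ χ ∈ H84.bset B, (dec W χ j : ℂ) • (χ : G → ℂ) := by
  rw [Phi, H84.sum_bset_eq_sum]
  intro χ hχ
  rw [dec_eq_zero_of_not_mem' hB hχ hj, Nat.cast_zero, zero_smul]

theorem phi_mem_lat [Fintype G] (hM : IsPModular p M) (hB : IsPBlock M B) {j : Fin W.n}
    (hj : j ∈ ibr W B) : phi p W j ∈ H85.lat p B := by
  have hg := isGen_phi_pReg hM j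
  have hc := H6.gen_isClassFunction hg
  have := H85.reg_blockPart_mem_lat (p := p) (b := B) hg
  rw [reg_blockPart_eq_sum_phi W hM hB hc] at this
  simp only [← H85.chiL_idem_reg hM (ide_mem _) (ide_idem _) hc, reg_phi_pReg hM,
    chiL_phi_ide hM, ite_smul, one_smul, zero_smul, Finset.sum_ite_eq, if_pos hj] at this
  exact this

variable (W) in
theorem regSpan_eq (hM : IsPModular p M) (hB : IsPBlock M B) :
    H84.regSpan p B = Submodule.span ℂ (Set.range fun j : ibr W B => phi p W j) := by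
  haveI := Fintype.ofFinite G
  refine le_antisymm (Submodule.span_le.2 ?_) (Submodule.span_le.2 ?_)
  · rintro _ ⟨χ, hχ, rfl⟩
    simp only [SetLike.mem_coe]
    rw [reg_irr_eq_sum_ibr W hM hB hχ]
    exact Submodule.sum_mem _ fun j hj => Submodule.smul_mem _ _
      (Submodule.subset_span ⟨⟨j, hj⟩, rfl⟩)
  · rintro _ ⟨j, rfl⟩
    exact H85.mem_regSpan_of_lat (phi_mem_lat hM hB j.2)

variable (W) in
theorem card_ibr (hM : IsPModular p M) (hB : IsPBlock M B) : (ibr W B).card = blockRank p B := by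
  rw [H84.blockRank_eq_finrank, regSpan_eq W hM hB, finrank_span_eq_card
    (b := fun j : ibr W B => phi p W j)
    ((linearIndependent_phi hM).comp _ Subtype.val_injective), Fintype.card_coe]

theorem exists_d_eq [Fintype G] (hM : IsPModular p M) (hB : IsPBlock M B) {j : Fin W.n}
    (hj : j ∈ ibr W B) : ∃ n : IrrCharacter G → ℤ,
      (W.d j : ℤ) = ∑ χ ∈ H84.bset B, n χ * charDegree (χ : G → ℂ) := by
  obtain ⟨n, hn⟩ := H85.mem_lat_iff.1 (phi_mem_lat hM hB hj)
  refine ⟨n, ?_⟩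
  have := congrFun hn 1
  rw [phi_one hM, Finset.sum_apply] at this
  simp only [Pi.smul_apply, H84.reg_one, smul_eq_mul, ← H84.cast_deg] at this
  exact_mod_cast this

theorem dvd_d (hM : IsPModular p M) (hB : IsPBlock M B) {j : Fin W.n} (hj : j ∈ ibr W B) {g : ℕ}
    (hg : ∀ χ ∈ B, g ∣ charDegree (χ : G → ℂ)) : g ∣ W.d j := by
  haveI := Fintype.ofFinite G
  obtain ⟨n, hn⟩ := exists_d_eq hM hB hj
  rw [← Int.natCast_dvd_natCast, hn]
  exact Finset.dvd_sum fun χ hχ =>
    (Int.natCast_dvd_natCast.2 (hg χ (H84.mem_bset.1 hχ))).mul_left _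

variable (W) in
theorem sum_deg_sq_eq (hB : IsPBlock M B) : ∑ χ ∈ H84.bset B, charDegree (χ : G → ℂ) ^ 2 =
    ∑ j ∈ ibr W B, W.d j * ∑ χ ∈ H84.bset B, dec W χ j * charDegree (χ : G → ℂ) := by
  simp only [Finset.mul_sum]
  rw [Finset.sum_comm]
  refine Finset.sum_congr rfl fun χ hχ => ?_
  conv_lhs => rw [sq]; arg 1; rw [deg_eq_sum_ibr W hB (H84.mem_bset.1 hχ)]
  rw [Finset.sum_mul]
  simp only [mul_assoc]

theorem Phi_one_bset (hB : IsPBlock M B) {j : Fin W.n} (hj : j ∈ ibr W B) :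
    Phi W j 1 = ((∑ χ ∈ H84.bset B, dec W χ j * charDegree (χ : G → ℂ) : ℕ) : ℂ) := by
  simp only [Phi_eq_sum_bset hB hj, Finset.sum_apply, Pi.smul_apply, smul_eq_mul, Nat.cast_sum,
    Nat.cast_mul, H84.cast_deg]

theorem pr_fB_eq (hB : IsPBlock M B) : pr W (fB B) = ∑ j ∈ ibr W B, Pi.single j 1 := by
  funext k
  rw [Finset.sum_apply]
  by_cases hk : k ∈ ibr W B
  · rw [Finset.sum_eq_single k (fun j _ hj => Pi.single_eq_of_ne' hj _) (fun h => absurd hk h),
      Pi.single_eq_same]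
    exact mem_ibr.1 hk
  · rw [pr_fB_eq_zero hB (mt mem_ibr.2 hk), Finset.sum_eq_zero]
    intro j hj
    exact Pi.single_eq_of_ne (by rintro rfl; exact hk hj) _

/-- the block idempotent lies in the ideal generated by the basic idempotents -/
theorem exists_fB_eq (hB : IsPBlock M B) :
    ∃ a b : (j : Fin W.n) → Fin (W.d j) → MonoidAlgebra ℂ G, (∀ j r, a j r ∈ OG M G) ∧
      (∀ j r, b j r ∈ OG M G) ∧ fB B = ∑ j ∈ ibr W B, ∑ r, a j r * ide W j * b j r := by
  choose a ha ha' using fun (j : Fin W.n) (r : Fin (W.d j)) => pr_surj W (mu W j r (z0 W j) 1)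
  choose b hb hb' using fun (j : Fin W.n) (r : Fin (W.d j)) => pr_surj W (mu W j (z0 W j) r 1)
  have hf := fB_mem_OG (M := M) hB
  have m1 : ∀ j r, a j r * ide W j * b j r ∈ OG M G := fun j r =>
    mul_mem (mul_mem (ha j r) (ide_mem j)) (hb j r)
  set S := ∑ j ∈ ibr W B, ∑ r, a j r * ide W j * b j r with hS
  have m2 : S ∈ OG M G := sum_mem fun j _ => sum_mem fun r _ => m1 j r
  have h1 : pr W S = pr W (fB B) := by
    rw [pr_fB_eq hB, hS, pr_sum _ fun j _ => sum_mem fun r _ => m1 j r]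
    refine Finset.sum_congr rfl fun j _ => ?_
    rw [pr_sum _ fun r _ => m1 j r, single_one_eq]
    refine Finset.sum_congr rfl fun r _ => ?_
    rw [pr_mul (mul_mem (ha j r) (ide_mem j)) (hb j r), pr_mul (ha j r) (ide_mem j), ha', hb',
      (lf_ide j).eq, bE, mu_mul_mu, mu_mul_mu, mul_one, mul_one]
  obtain ⟨w, hw, -, hw2, -⟩ := exists_inv_of_pr (W := W)
    (add_mem (mul_mem hf m2) (sub_mem (one_mem _) hf)) (by
      rw [pr_add (mul_mem hf m2) (sub_mem (one_mem _) hf), pr_mul hf m2, h1,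
        (lf_self (W := W) hf (fB_idem B)).pidem, pr_sub (one_mem _) hf, pr_one, add_sub_cancel])
  refine ⟨fun j r => w * fB B * a j r, b, fun j r => mul_mem (mul_mem hw hf) (ha j r), hb, ?_⟩
  have h2 : fB B = w * fB B * S := by
    have h3 : (fB B * S + (1 - fB B)) * fB B = fB B * S := by
      rw [add_mul, sub_mul, one_mul, fB_idem, sub_self, add_zero, mul_assoc,
        (isCent_fB B).comm S, ← mul_assoc, fB_idem]
    rw [mul_assoc, ← h3, ← mul_assoc, hw2, one_mul]
  refine h2.trans ?_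
  rw [hS, Finset.mul_sum]
  refine Finset.sum_congr rfl fun j _ => ?_
  rw [Finset.mul_sum]
  simp only [mul_assoc]

end lift

end H86
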