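import Mathlib
import Cfsg.Agent.Lib.H85.Contrib
import Cfsg.Agent.Lib.H85.Gram
import Cfsg.Agent.Lib.Blk86.Cov
import Cfsg.Agent.Lib.Blk86.Cyc

/-!
Major subsections, and the action of the linear characters of an abelian quotient on the
irreducible characters.
-/

set_option autoImplicit false
set_option linter.style.haveILetI false
set_option linter.unusedSectionVars false
attribute [local irreducible] H33.instFieldF

namespace H86

open Cfsg H33 MonoidAlgebra Function
open scoped ComplexConjugate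

section Alg

variable {F G : Type*} [Field F] [Group G] {p : ℕ} {H P Q : Subgroup G} {b e f : F[G]} [Finite G]
  [Fact p.Prime] [CharP F p]

/-- A subpair of a maximal pair whose group is central has the same defect group. -/
theorem Sub.isDef_of_le_Cen (h : Sub p H Q f P e) (hm : IsMaxPair p H b P e) (hb : IsBlk H b)
    (hPQ : P ≤ Cen Q) : IsDef p (H ⊓ Cen Q) f P := by
  have hl := h.left hm.toPair
  have hP : P ≤ H ⊓ Cen Q := le_inf hm.le hPQ
  have := (h.isDef_iff_card hm hb hl.Cen_le_St hl.blk).2 fun x _ _ => by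
    rw [inf_eq_left.2 hP]; exact Subgroup.card_le_of_le inf_le_left
  rwa [inf_eq_left.2 hP] at this

end Alg

section Major

variable {G : Type*} [Group G] [Fintype G] {p : ℕ} [Fact p.Prime] {M : Ideal AlgInt} [M.IsMaximal]
  {B : Set (IrrCharacter G)} {D C : Subgroup G} {u : G}

theorem exists_major (hM : IsPModular p M) (hB : IsPBlock M B) (hD : IsDefectGroup p M B D)
    (hu : u ∈ D) (hC : H84.IsCen u C) (hDC : D ≤ C) :
    ∃ b : Set (IrrCharacter C), IsInducedBlock M C b B ∧ IsDefectGroup p M b (D.subgroupOf C) ∧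
      blockDefect p b = blockDefect p B := by
  haveI := charP hM
  obtain rfl : C = Cen (Subgroup.zpowers u) := hC.eq.trans (H84.isCen_zpowers u).eq.symm
  have hb := H86.isBlk_eB hB
  obtain ⟨e, hm⟩ := ((H86.isDefectGroup_iff hB D).1 hD).exists_isMaxPair hb
  have hQ : Subgroup.zpowers u ≤ D := (Subgroup.zpowers_le_of_mem hu)
  obtain ⟨f, hf⟩ := hm.toPair.exists_sub hQ
  have hpo := hf.pairOf_left hb hm.toPairOf
  obtain ⟨b, hb', rfl⟩ := hpo.toPair.exists_eS
  have hd := hf.isDef_of_le_Cen hm hb hDC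
  rw [top_inf_eq] at hd
  have hind : IsInducedBlock M (Cen (Subgroup.zpowers u)) b B :=
    (isInducedBlock_iff_br_eS hM hpo.pgrp (hQ.trans hDC) le_rfl (Cen_le_Nor _) hb' hB).2 hpo.br_mul
  have hdb := (isDefectGroup_subgroupOf_iff hb' hDC).2 hd
  haveI := Fintype.ofFinite (Cen (Subgroup.zpowers u))
  exact ⟨b, hind, hdb, H85.defect_eq_of_subgroupOf hM hind hD hDC hdb⟩

/-- No character of a block vanishes on the section of a central element of a defect group. -/
theorem exists_ne_zero_of_major (hM : IsPModular p M) (hB : IsPBlock M B)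
    (hD : IsDefectGroup p M B D) (hu : u ∈ D) (hc : ∀ x ∈ D, Commute u x) {χ : IrrCharacter G}
    (hχ : χ ∈ B) : ∃ s : G, Commute u s ∧ ¬ p ∣ orderOf s ∧ (χ : G → ℂ) (u * s) ≠ 0 := by
  have hC := H84.isCen_singleton u
  obtain ⟨b, hind, -, hd⟩ := exists_major hM hB hD hu hC fun x hx => (hC x).2 (hc x hx)
  haveI := Fintype.ofFinite (Subgroup.centralizer ({u} : Set G))
  have h := H85.sub_ne_zero_of_major hM (H35.isPElt_of_mem (defect_isPGroup hD) hu) hC hind hd hχ
  by_contra hne
  push Not at hne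
  refine h ?_
  rw [H84.sub_congr (η := (0 : ℂ) • (0 : G → ℂ)) hM hind.1 fun s hs => by
    rw [hne s (hC.comm s) (by rwa [Subgroup.orderOf_coe])]; simp, H84.sub_smul, zero_smul]

end Major

section Lin

variable {G A : Type*} [Group G] [CommGroup A] {π : G →* A} {N : Subgroup G}

/-- The product of an irreducible character with a linear character. -/
def mulL [Finite G] (χ : IrrCharacter G) (l : G →* ℂˣ) : IrrCharacter G :=
  ⟨fun g => (χ : G → ℂ) g * (l g : ℂ), H6.isIrrCharacter_mul_hom χ.2 l⟩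

theorem mulL_apply [Finite G] (χ : IrrCharacter G) (l : G →* ℂˣ) (g : G) :
    (mulL χ l : G → ℂ) g = (χ : G → ℂ) g * (l g : ℂ) := rfl

theorem mulL_mulL [Finite G] (χ : IrrCharacter G) (l l' : G →* ℂˣ) :
    mulL (mulL χ l) l' = mulL χ (l * l') := Subtype.ext <| funext fun g => by
  simp [mulL_apply, mul_assoc]

theorem mulL_one [Finite G] (χ : IrrCharacter G) : mulL χ 1 = χ := Subtype.ext <| funext fun g => by
  simp [mulL_apply]

variable [Fintype G] [Fintype A] [Fintype N]

theorem sum_inner_mul_hom (hπ : Surjective π) (hN : π.ker = N) (φ ψ : G → ℂ) :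
    ∑ l : A →* ℂˣ, classInner (fun g => φ g * (l (π g) : ℂ)) ψ =
      classInner (fun n : N => φ n) (fun n : N => ψ n) := by
  classical
  have hc : (Nat.card G : ℂ) = Nat.card N * Fintype.card A := by
    rw [← Nat.card_eq_fintype_card, ← Nat.cast_mul, ← hN, ← π.ker.card_mul_index,
      Subgroup.index_ker, π.range_eq_top_of_surjective hπ, Subgroup.card_top]
  have hA : (Fintype.card A : ℂ) ≠ 0 := Nat.cast_ne_zero.2 Fintype.card_ne_zero
  simp only [classInner]
  rw [← Finset.mul_sum, Finset.sum_comm]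
  have h1 : ∀ g : G, ∑ l : A →* ℂˣ, φ g * (l (π g) : ℂ) * conj (ψ g) =
      Fintype.card A * if g ∈ N then φ g * conj (ψ g) else 0 := fun g => by
    rw [← Finset.sum_mul, ← Finset.mul_sum, H85.sum_dual, ← hN, MonoidHom.mem_ker]
    split_ifs <;> ring
  simp only [h1]
  rw [← Finset.mul_sum, ← Finset.sum_filter,
    Finset.sum_subtype (p := (· ∈ N)) _ (fun g => by simp) fun g => φ g * conj (ψ g), hc]
  field_simp

theorem inner_res_eq_card (hπ : Surjective π) (hN : π.ker = N) (χ ψ : IrrCharacter G) :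
    classInner (fun n : N => (χ : G → ℂ) n) (fun n : N => (ψ : G → ℂ) n) =
      Nat.card {l : A →* ℂˣ // mulL χ (l.comp π) = ψ} := by
  classical
  rw [← sum_inner_mul_hom hπ hN, Nat.card_eq_fintype_card, Fintype.card_subtype,
    Finset.card_filter, Nat.cast_sum]
  refine Finset.sum_congr rfl fun l _ => ?_
  have := H6.irr_inner' (mulL χ (l.comp π)) ψ
  rw [Nat.cast_ite, Nat.cast_one, Nat.cast_zero]
  convert this using 1
  rfl

theorem isIrr_res_of_free (hπ : Surjective π) (hN : π.ker = N) {χ : IrrCharacter G}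
    (h : ∀ l : A →* ℂˣ, mulL χ (l.comp π) = χ → l = 1) :
    IsIrrCharacter N fun n : N => (χ : G → ℂ) n := by
  refine H6.isIrr_of_char_of_inner_self (H6.isCharacter_comp N.subtype (H6.irr_isCharacter χ.2)) ?_
  rw [inner_res_eq_card hπ hN]
  have : Unique {l : A →* ℂˣ // mulL χ (l.comp π) = χ} :=
    ⟨⟨⟨1, by rw [MonoidHom.one_comp, mulL_one]⟩⟩, fun l => Subtype.ext (h _ l.2)⟩
  rw [Nat.card_unique, Nat.cast_one]

theorem card_res_eq_of_free (hπ : Surjective π) (hN : π.ker = N) {χ : IrrCharacter G}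
    (h : ∀ l : A →* ℂˣ, mulL χ (l.comp π) = χ → l = 1) :
    Nat.card {ψ : IrrCharacter G // ∀ n : N, (ψ : G → ℂ) n = (χ : G → ℂ) n} = N.index := by
  have h1 : N.index = Nat.card (A →* ℂˣ) := by
    rw [Nat.card_eq_fintype_card, H85.card_dual, ← hN, Subgroup.index_ker,
      π.range_eq_top_of_surjective hπ, Subgroup.card_top, Nat.card_eq_fintype_card]
  rw [h1]
  have h0 : ∀ (l : A →* ℂˣ) (n : N), (mulL χ (l.comp π) : G → ℂ) n = (χ : G → ℂ) n := fun l n => by
    have : π n = 1 := by rw [← MonoidHom.mem_ker, hN]; exact n.2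
    simp [mulL_apply, this]
  refine (Nat.card_eq_of_bijective (fun l => ⟨mulL χ (l.comp π), h0 l⟩) ⟨?_, ?_⟩).symm
  · intro l l' hl
    have h2 := congrArg (fun ψ => mulL ψ.1 (l'⁻¹.comp π)) hl
    simp only [mulL_mulL] at h2
    have h3 : l'.comp π * l'⁻¹.comp π = 1 := by ext; simp
    have h4 : l.comp π * l'⁻¹.comp π = (l * l'⁻¹).comp π := by ext; simp
    rw [h3, h4, mulL_one] at h2
    exact mul_inv_eq_one.1 (h _ h2)
  · rintro ⟨ψ, hψ⟩
    have h2 := inner_res_eq_card hπ hN χ ψ
    rw [funext hψ, H6.irr_inner_self (isIrr_res_of_free hπ hN h)] at h2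
    obtain ⟨l, hl⟩ : Nonempty {l : A →* ℂˣ // mulL χ (l.comp π) = ψ} :=
      (Nat.card_pos_iff.1 (Nat.pos_of_ne_zero fun h0 => by rw [h0] at h2; simp at h2)).1
    exact ⟨l, Subtype.ext hl⟩

end Lin

section Rank

variable {G : Type*} [Group G] [Fintype G] {p : ℕ} {N : Subgroup G}

/-- Sets of characters matched by restriction to a subgroup containing the `p`-regular elements
have the same rank. -/
theorem blockRank_eq_of_res (hN : ∀ g : G, ¬ p ∣ orderOf g → g ∈ N) {B : Set (IrrCharacter G)}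
    {b : Set (IrrCharacter N)} (h1 : ∀ χ ∈ B, ∃ θ ∈ b, ∀ n : N, (χ : G → ℂ) n = (θ : N → ℂ) n)
    (h2 : ∀ θ ∈ b, ∃ χ ∈ B, ∀ n : N, (χ : G → ℂ) n = (θ : N → ℂ) n) :
    blockRank p B = blockRank p b := by
  classical
  let E := Function.ExtendByZero.linearMap ℂ (Subtype.val : N → G)
  have hE : Injective E := Function.extend_injective Subtype.val_injective _
  have key : ∀ (χ : G → ℂ) (θ : N → ℂ), (∀ n : N, χ n = θ n) →
      E (pRegularPart p θ) = pRegularPart p χ := fun χ θ h => by
    funext g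
    by_cases hg : g ∈ N
    · have := Subtype.val_injective.extend_apply (pRegularPart p θ) (0 : G → ℂ) (⟨g, hg⟩ : N)
      refine this.trans ?_
      by_cases ho : p ∣ orderOf g
      · rw [H84.reg_of_sing _ ho, H84.reg_of_sing _ (by rwa [Subgroup.orderOf_mk])]
      · rw [H84.reg_of_reg _ ho, H84.reg_of_reg _ (by rwa [Subgroup.orderOf_mk]), ← h]
    · have := Function.extend_apply' (f := (Subtype.val : N → G)) (pRegularPart p θ) (0 : G → ℂ) g
        (fun ⟨n, hn⟩ => hg (hn ▸ n.2))
      refine this.trans ?_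
      simp only [pRegularPart]
      rw [if_neg fun h : IsPRegular p g => hg (hN g h)]; rfl
  suffices H84.regSpan p B = (H84.regSpan p b).map E by
    rw [H84.blockRank_eq_finrank, H84.blockRank_eq_finrank,
      (Submodule.equivMapOfInjective E hE _).finrank_eq, this]
  simp only [H84.regSpan]
  rw [Submodule.map_span, Set.image_image]
  congr 1
  ext f
  constructor
  · rintro ⟨χ, hχ, rfl⟩
    obtain ⟨θ, hθ, h⟩ := h1 χ hχ
    exact ⟨θ, hθ, key _ _ h⟩
  · rintro ⟨θ, hθ, rfl⟩
    obtain ⟨χ, hχ, h⟩ := h2 θ hθ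
    exact ⟨χ, hχ, (key _ _ h).symm⟩

end Rank

end H86
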