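import Mathlib
import Cfsg.Agent.Lib.H85.Sec
import Cfsg.Agent.Lib.H85.Gram
import Cfsg.Agent.Lib.H85.Contrib
import Cfsg.Agent.Lib.Block.Star
import Cfsg.Agent.Lib.Core.CoprimeNorm
import Cfsg.Agent.Lib.Core.GrpBasic
import Cfsg.Agent.Lib.Blk86.Major

/-! Watanabe's theorem on blocks with abelian defect groups. -/

set_option autoImplicit false
set_option linter.unusedSectionVars false
set_option linter.style.haveILetI false
attribute [local irreducible] H33.instFieldF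

namespace H86

open Cfsg H84 H35 H85 Finset MonoidAlgebra Subgroup Function
open H33 (F eB fB star SubInv SubRes ZZ mm blkSet)
open scoped ComplexConjugate H85.SubFin

section Top

variable {G : Type*} [Group G] [Fintype G] {p : ℕ} [hp : Fact p.Prime] {M : Ideal AlgInt}
  [M.IsMaximal] {B : Set (IrrCharacter G)} {P : Subgroup G} {e : (F M)[G]} {l : G → ℂ}

open Classical in
/-- A fusion-stable function on the defect group, read as a function on subsections. -/
noncomputable def etaL (p : ℕ) (P : Subgroup G) (e : (F M)[G]) (l : G → ℂ) (u : G)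
    (g : (F M)[G]) : ℂ :=
  if h : ∃ x : G, Sub p ⊤ (zpowers (x * u * x⁻¹)) (cj x g) P e then
    l (h.choose * u * h.choose⁻¹) else 0

theorem etaL_eq (hl : ∀ u v, Fus p P e u v → l v = l u) {u x : G} {g : (F M)[G]}
    (h : Sub p ⊤ (zpowers (x * u * x⁻¹)) (cj x g) P e) : etaL p P e l u g = l (x * u * x⁻¹) := by
  have h0 : ∃ x : G, Sub p ⊤ (zpowers (x * u * x⁻¹)) (cj x g) P e := ⟨x, h⟩
  rw [etaL, dif_pos h0]
  have h1 := h0.choose_spec
  set y := h0.choose
  refine hl _ _ ⟨y * x⁻¹, ⟨trivial, _, h, ?_⟩, by group⟩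
  rw [cs_zpowers, ← cj_mul]
  convert h1 using 2 <;> group

theorem etaL_of_not {u : G} {g : (F M)[G]}
    (h : ¬ ∃ x : G, Sub p ⊤ (zpowers (x * u * x⁻¹)) (cj x g) P e) : etaL p P e l u g = 0 := by
  rw [etaL, dif_neg h]

theorem subInv_etaL (hl : ∀ u v, Fus p P e u v → l v = l u) : SubInv p (etaL p P e l) := by
  intro x u f _ _
  by_cases h : ∃ y : G, Sub p ⊤ (zpowers (y * u * y⁻¹)) (cj y f) P e
  · obtain ⟨y, hy⟩ := h
    rw [etaL_eq hl hy, etaL_eq hl (x := y * x⁻¹) (by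
      rw [← cj_mul]; convert hy using 2 <;> group)]
    congr 1; group
  · rw [etaL_of_not h, etaL_of_not]
    rintro ⟨y, hy⟩
    refine h ⟨y * x, ?_⟩
    rw [cj_mul]; convert hy using 2; group

theorem etaL_loc (h : MP p M B P e) (hl : ∀ u v, Fus p P e u v → l v = l u) {u : G} (hu : u ∈ P) :
    etaL p P e l u (eS M (Cen (zpowers u)) (loc p M P e (zpowers u))) = l u := by
  rw [etaL_eq hl (x := 1) (by simpa [cj_one] using h.sub (zpowers_le.2 hu))]
  simp

theorem exists_sub_of_pairOf (h : MP p M B P e) {u : G} {f : (F M)[G]}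
    (hf : PairOf p ⊤ (eB M B) (zpowers u) f) :
    ∃ x : G, Sub p ⊤ (zpowers (x * u * x⁻¹)) (cj x f) P e := by
  haveI := H33.charP h.hM
  obtain ⟨x, -, hx⟩ := hf.exists_conj_sub h.max (isBlk_eB h.hB)
  exact ⟨x, by rwa [cs_zpowers] at hx⟩

theorem subRes_etaL (h : MP p M B P e) (hl : ∀ u v, Fus p P e u v → l v = l u)
    (hg : IsGeneralizedCharacter P fun v : P => l v) : SubRes p ZZ (etaL p P e l) := by
  haveI := H33.charP h.hM
  intro Q c hc
  by_cases hB : PairOf p ⊤ (eB M B) Q c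
  · obtain ⟨x, -, hx⟩ := hB.exists_conj_sub h.max (isBlk_eB h.hB)
    let φ : Q →* P := (inclusion hx.le).comp (csEquiv x (rfl : cs x Q = cs x Q)).toMonoidHom
    refine ⟨fun q => l (φ q), H33.inR_ZZ_iff.2 (H6.isGen_comp φ hg), fun u f hf => ?_⟩
    have := (hf.cj_mem (mem_top x)).trans hx
    rw [cs_zpowers] at this
    exact etaL_eq hl this
  · refine ⟨0, H33.InR.zero, fun u f hf => etaL_of_not ?_⟩
    rintro ⟨x, hx⟩
    have h1 := (hx.pairOf_left (isBlk_eB h.hB) h.max.toPairOf).cj_mem (isBlk_eB h.hB).inv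
      (mem_top x⁻¹)
    rw [cj_inv_cj, cs_zpowers, show x⁻¹ * (x * u * x⁻¹) * x⁻¹⁻¹ = u by group] at h1
    exact hB (hf.pairOf_right (isBlk_eB h.hB) h1)

theorem sub_star_etaL (h : MP p M B P e) (hl : ∀ u v, Fus p P e u v → l v = l u) {u : G}
    (hu : u ∈ P) {θ : G → ℂ} (hθ : IsClassFunction G θ) :
    sub p u _ (loc p M P e (zpowers u)) (star p (etaL p P e l) θ) =
      l u • sub p u _ (loc p M P e (zpowers u)) θ := by
  rw [H33.sub_star h.hM (h.isPElt hu) (isCen_zpowers u) (h.blk (zpowers_le.2 hu)) hθ,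
    etaL_loc h hl hu]

theorem isIrr_star_etaL (h : MP p M B P e) (hl : ∀ u v, Fus p P e u v → l v = l u)
    (hg : IsGeneralizedCharacter P fun v : P => l v) (hn : ∀ v ∈ P, l v * conj (l v) = 1)
    (h1 : l 1 = 1) {χ : IrrCharacter G} (hχ : χ ∈ B) :
    IsIrrCharacter G (star p (etaL p P e l) χ) := by
  classical
  haveI := H33.charP h.hM
  have hi := subInv_etaL hl
  have hcl := H6.irr_isClassFunction χ.2
  have hgen := H33.star_isGen h.hM hi (subRes_etaL h hl hg) (H6.irr_isGen χ.2)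
  refine H6.isIrr_of_gen_of_inner_self hgen ?_ ?_
  · have hG : (Nat.card G : ℂ) ≠ 0 := Nat.cast_ne_zero.2 Nat.card_pos.ne'
    refine mul_left_cancel₀ hG ?_
    rw [H33.card_mul_inner_eq_sum_mm h.hM (H6.gen_isClassFunction hgen) (H6.gen_isClassFunction hgen),
      ← H6.irr_inner_self χ.2, H33.card_mul_inner_eq_sum_mm h.hM hcl hcl]
    refine sum_congr rfl fun u hu => sum_congr rfl fun f hf => ?_
    have hf' := H33.mem_blkSet.1 hf
    rw [H33.mm_star_left h.hM hcl hi hf', H33.mm_star_right h.hM hcl hi hf']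
    by_cases hB : PairOf p ⊤ (eB M B) (zpowers u) f
    · obtain ⟨x, hx⟩ := exists_sub_of_pairOf h hB
      rw [etaL_eq hl hx, ← mul_assoc, hn _ (hx.le (mem_zpowers _)), one_mul]
    · rw [H33.mm_eq_zero_left fun g hg => H33.tlift_eq_zero_of_not_pairOf h.hM h.hB hχ
        (by rw [H33.zp, hg]; exact hf') (by rw [H33.zp, hg]; exact hB)]
      simp
  · rw [H33.star_apply_reg h.hM h.hB hχ not_dvd_orderOf_one, etaL_eq hl (x := 1)]
    · obtain ⟨n, -, hn⟩ := H6.irr_one_pos χ.2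
      simp [h1, hn]
    · rw [cj_one, mul_one, mul_inv_cancel, zpowers_one_eq_bot]
      exact (h.max.toPairOf.nsub_bot (isBlk_eB h.hB)).sub

theorem sum_reps_eq_zero (h : MP p M B P e) (hab : P ≤ Cen P)
    (hl : ∀ u v, Fus p P e u v → l v = l u)
    (hg : IsGeneralizedCharacter P fun v : P => l v) (hn : ∀ v ∈ P, l v * conj (l v) = 1)
    (h1 : l 1 = 1) (hne : ∃ v ∈ P, l v ≠ 1) {Y : Finset G} (hY : Reps p P e Y) :
    ∑ y ∈ Y, l y * blockRank p (loc p M P e (zpowers y)) = 0 := by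
  obtain ⟨v, hv, hne⟩ := hne
  have key : ∀ χ ∈ bset B, classInner (star p (etaL p P e l) χ) χ = 0 := by
    intro χ hχ
    rw [mem_bset] at hχ
    refine H6.irr_inner_ne (isIrr_star_etaL h hl hg hn h1 hχ) χ.2 fun heq => ?_
    have h2 := sub_star_etaL h hl hv (H6.irr_isClassFunction χ.2)
    rw [heq] at h2
    have h3 := sub_ne_zero_of_major h.hM (h.isPElt hv) (isCen_zpowers v) (h.induced_z hv)
      (h.defect_loc (zpowers_le.2 hv) (hab.trans (Cen_anti (zpowers_le.2 hv)))) hχ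
    have h4 : (l v - 1) • sub p v _ (loc p M P e (zpowers v)) χ = 0 := by
      rw [_root_.sub_smul, ← h2, one_smul, sub_self]
    exact h3 ((smul_eq_zero.1 h4).resolve_left (sub_ne_zero.2 hne))
  rw [← sum_eq_zero key]
  have h5 : ∀ χ ∈ bset B, classInner (star p (etaL p P e l) χ) χ = ∑ y ∈ Y, l y *
      classInner (sub p y _ (loc p M P e (zpowers y)) χ) (sub p y _ (loc p M P e (zpowers y)) χ) := by
    intro χ hχ
    rw [mem_bset] at hχ
    have hcl := H6.irr_isClassFunction χ.2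
    rw [h.inner_eq_sum hY hχ (H33.isClassFunction_star h.hM hcl (subInv_etaL hl))]
    refine sum_congr rfl fun y hy => ?_
    rw [sub_star_etaL h hl (hY.mem y hy) hcl, H7.classInner_smul_left]
  rw [sum_congr rfl h5, sum_comm]
  refine sum_congr rfl fun y hy => ?_
  rw [← mul_sum, sum_inner_sub_sub h.hM (h.isPElt (hY.mem y hy)) (isCen_zpowers y)
    (h.induced_z (hY.mem y hy))]

theorem fus_iff_of_ab (h : MP p M B P e) (hab : P ≤ Cen P) {u v : G} (hu : u ∈ P) :
    Fus p P e u v ↔ ∃ t ∈ St ⊤ P e, v = t * u * t⁻¹ := by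
  haveI := H33.charP h.hM
  refine ⟨?_, fun ⟨t, ht, hv⟩ => hv ▸ h.fus_conj hu ht⟩
  rintro ⟨g, hg, rfl⟩
  obtain ⟨y, hy, c, hc, rfl⟩ :=
    (h.sub (zpowers_le.2 hu)).exists_mul_of_ab h.max (isBlk_eB h.hB) hab hg
  refine ⟨y, hy, ?_⟩
  have := mem_Cen.1 hc.2 u (mem_zpowers u)
  calc y * c * u * (y * c)⁻¹ = y * (c * u) * c⁻¹ * y⁻¹ := by group
    _ = y * u * y⁻¹ := by rw [← this]; group

theorem card_mul_sum_reps [Fintype P] (h : MP p M B P e) (hab : P ≤ Cen P) {Y : Finset G}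
    (hY : Reps p P e Y) (a : G → ℂ) (ha : ∀ u v, Fus p P e u v → a v = a u) :
    (Nat.card (St ⊤ P e) : ℂ) * ∑ y ∈ Y, a y =
      ∑ v : P, (Nat.card (St ⊤ P e ⊓ Cen (zpowers (v : G)) : Subgroup G) : ℂ) * a v := by
  classical
  set T := St ⊤ P e with hT
  have hTN : T ≤ Nor P := St_le_Nor _ _ _
  have h1 : (Nat.card T : ℂ) * ∑ y ∈ Y, a y =
      ∑ x ∈ Y ×ˢ (univ : Finset T), a ((x.2 : G) * x.1 * (x.2 : G)⁻¹) := by
    rw [sum_product, mul_sum]
    refine sum_congr rfl fun y hy => ?_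
    rw [sum_congr rfl fun (t : T) _ => ha _ _ (h.fus_conj (hY.mem y hy) t.2)]
    simp [Nat.card_eq_fintype_card]
  have hmap : ∀ x ∈ Y ×ˢ (univ : Finset T),
      (x.2 : G) * x.1 * (x.2 : G)⁻¹ ∈ univ.filter (· ∈ P) := fun x hx =>
    mem_filter.2 ⟨mem_univ _, (mem_Nor.1 (hTN x.2.2) _).1 (hY.mem _ (mem_product.1 hx).1)⟩
  rw [h1, ← sum_fiberwise_of_maps_to hmap, sum_subtype (p := (· ∈ P)) _ (by simp)]
  refine sum_congr rfl fun v _ => ?_
  rw [sum_congr rfl (g := fun _ => a v) fun x hx => by rw [(mem_filter.1 hx).2], sum_const,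
    nsmul_eq_mul]
  congr 2
  obtain ⟨y, hy, hf⟩ := hY.ex v v.2
  obtain ⟨t, ht, htv⟩ := (fus_iff_of_ab h hab (hY.mem y hy)).1 hf
  rw [Nat.card_eq_fintype_card, ← card_univ]
  symm
  refine card_bij (fun s _ => (y, (⟨s * t, T.mul_mem s.2.1 ht⟩ : T))) ?_ ?_ ?_
  · intro s _
    refine mem_filter.2 ⟨mem_product.2 ⟨hy, mem_univ _⟩, ?_⟩
    have := mem_Cen.1 s.2.2 v (mem_zpowers _)
    calc (s : G) * t * y * ((s : G) * t)⁻¹ = s * (t * y * t⁻¹) * (s : G)⁻¹ := by group
      _ = v := by rw [← htv, ← this]; group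
  · intro s _ s' _ hss
    have := congrArg (fun x : G × T => (x.2 : G)) hss
    exact Subtype.ext (mul_right_cancel this)
  · rintro ⟨z, s⟩ hx
    obtain ⟨hx1, hx2⟩ := mem_filter.1 hx
    have hz := (mem_product.1 hx1).1
    dsimp only at hx2 hz
    have hzy : z = y := hY.uniq z hz y hy (h.fus_trans (hx2 ▸ h.fus_conj (hY.mem z hz) s.2) hf.symm)
    subst hzy
    refine ⟨⟨s * t⁻¹, T.mul_mem s.2 (T.inv_mem ht), ?_⟩, mem_univ _, ?_⟩
    · refine ((isCen_zpowers (v : G)) _).2 (Eq.symm ?_)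
      calc (s : G) * t⁻¹ * v = s * t⁻¹ * (t * z * t⁻¹) := by rw [← htv]
        _ = (s * z * (s : G)⁻¹) * (s * t⁻¹) := by group
        _ = v * (s * t⁻¹) := by rw [hx2]
    · simp

theorem trace_top [Fintype P] (h : MP p M B P e) (hab : P ≤ Cen P) (l : P →* ℂˣ)
    (hl : ∀ t ∈ St ⊤ P e, ∀ u v : P, (v : G) = t * u * t⁻¹ → l v = l u) [Decidable (l = 1)] :
    ∑ v : P, (Nat.card (St ⊤ P e ⊓ Cen (zpowers (v : G)) : Subgroup G) : ℂ) *
      ((l v : ℂ) * blockRank p (loc p M P e (zpowers (v : G)))) =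
      if l = 1 then (Nat.card (St ⊤ P e) : ℂ) * Nat.card B else 0 := by
  classical
  obtain ⟨Y, hY⟩ := h.exists_reps
  let l' : G → ℂ := fun g => if hg : g ∈ P then l ⟨g, hg⟩ else 0
  have h0 : ∀ v : P, l' v = l v := fun v => dif_pos v.2
  have hl' : ∀ u v, Fus p P e u v → l' v = l' u := fun u v huv => by
    obtain ⟨t, ht, htv⟩ := (fus_iff_of_ab h hab huv.left).1 huv
    rw [h0 ⟨u, huv.left⟩, h0 ⟨v, huv.right⟩, hl t ht ⟨u, huv.left⟩ ⟨v, huv.right⟩ htv]
  have key := card_mul_sum_reps h hab hY (fun y => l' y * blockRank p (loc p M P e (zpowers y)))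
    fun u v huv => by rw [hl' u v huv, h.blockRank_fus huv]
  simp only [h0] at key
  rw [← key]
  split_ifs with h1
  · rw [h.card_eq_sum hY, Nat.cast_sum]
    congr 1
    refine sum_congr rfl fun y hy => ?_
    rw [h0 ⟨y, hY.mem y hy⟩, h1]; simp
  · rw [sum_reps_eq_zero h hab hl' ?_ ?_ ?_ ?_ hY, mul_zero]
    · simp only [h0]; exact H6.char_isGen (H6.isCharacter_hom l)
    · intro v hv
      rw [h0 ⟨v, hv⟩, ← H6.char_inv (H6.isCharacter_hom l), ← Units.val_mul, ← map_mul]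
      simp
    · rw [show (1 : G) = ((1 : P) : G) from rfl, h0]; simp
    · by_contra hc
      push Not at hc
      exact h1 (MonoidHom.ext fun v => Units.ext (by rw [← h0, hc v v.2]; rfl))

end Top

section Aux

theorem coset_sum {D : Type*} [CommGroup D] [Fintype D] (A : Subgroup D) [Fintype A] (a : D → ℂ)
    (h : ∀ l : D →* ℂˣ, (∀ x ∈ A, l x = 1) → l ≠ 1 → ∑ v, (l v : ℂ) * a v = 0) (u : D) :
    ∑ w : A, a (u * w) = ∑ w : A, a w := by
  classical
  haveI := Fintype.ofFinite (D ⧸ A)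
  have key : ∀ z : D, (Fintype.card (D ⧸ A) : ℂ) * ∑ w : A, a (z * w) = ∑ v, a v := by
    intro z
    have h1 : ∑ ψ : D ⧸ A →* ℂˣ, ∑ v, (ψ ((z⁻¹ * v : D) : D ⧸ A) : ℂ) * a v = ∑ v, a v := by
      rw [sum_eq_single 1]
      · simp
      · intro ψ _ hψ
        have := h (ψ.comp (QuotientGroup.mk' A)) (fun x hx => by
          rw [MonoidHom.comp_apply, QuotientGroup.mk'_apply, (QuotientGroup.eq_one_iff x).2 hx,
            map_one]) fun h0 => hψ (MonoidHom.ext fun q => by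
              obtain ⟨x, rfl⟩ := QuotientGroup.mk_surjective q
              exact DFunLike.congr_fun h0 x)
        simp only [QuotientGroup.mk_mul, map_mul, Units.val_mul, mul_assoc, ← mul_sum]
        exact mul_eq_zero_of_right _ this
      · exact fun h => absurd (mem_univ _) h
    rw [← h1, sum_comm]
    simp only [← sum_mul, sum_dual, ite_mul, zero_mul, QuotientGroup.eq_one_iff]
    rw [← sum_filter, mul_sum]
    refine sum_bij (fun w _ => z * w) (fun w _ => by simp) (fun w _ w' _ h => ?_)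
      (fun v hv => ⟨⟨z⁻¹ * v, (mem_filter.1 hv).2⟩, mem_univ _, by simp⟩) fun _ _ => rfl
    exact Subtype.ext (mul_left_cancel h)
  have h0 : (Fintype.card (D ⧸ A) : ℂ) ≠ 0 := Nat.cast_ne_zero.2 Fintype.card_ne_zero
  refine mul_left_cancel₀ h0 ?_
  rw [key u, ← key 1]
  simp

open scoped IsMulCommutative in
theorem exists_norm_ker {G : Type*} [Group G] [Finite G] {p : ℕ} [Fact p.Prime] {P T : Subgroup G}
    (hP : IsPGroup p P) (hab : P ≤ Cen P) (hT : T ≤ Nor P) (hd : ¬ p ∣ (Cen P).relIndex T) :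
    ∃ A : Subgroup P, (∀ t ∈ T, ∀ u v : P, (v : G) = t * u * t⁻¹ → u⁻¹ * v ∈ A) ∧
      ∀ w ∈ A, T ≤ Cen (zpowers (w : G)) → w = 1 := by
  haveI : IsMulCommutative P := ⟨⟨fun a b => Subtype.ext (mem_Cen.1 (hab b.2) a a.2)⟩⟩
  let φ := H2.conjAut hT
  haveI := Fintype.ofFinite φ.range
  refine ⟨(H2.normHom φ.range.subtype).ker, fun t ht u v huv => ?_, fun w hw hT' => ?_⟩
  · have : v = φ.range.subtype ⟨φ ⟨t, ht⟩, _, rfl⟩ u := Subtype.ext huv
    rw [MonoidHom.mem_ker, map_mul, this, H2.normHom_apply_apply, map_inv, inv_mul_cancel]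
  · rw [MonoidHom.mem_ker, H2.normHom_of_fixed] at hw
    · have hc : Nat.card φ.range = (Cen P).relIndex T := by
        rw [← index_ker, relIndex]
        congr 1
        ext t
        rw [MonoidHom.mem_ker, mem_subgroupOf, mem_Cen]
        constructor
        · intro h q hq
          have := congrArg Subtype.val (DFunLike.congr_fun h (⟨q, hq⟩ : P))
          rw [H2.coe_conjAut_apply] at this
          exact (mul_inv_eq_iff_eq_mul.1 this).symm
        · intro h
          ext q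
          rw [H2.coe_conjAut_apply, ← h q q.2]
          simp
      obtain ⟨k, hk⟩ := hP w
      have := (pow_gcd_eq_one (a := w)).2 ⟨hk, hw⟩
      rwa [hc, (Nat.Coprime.pow_left k
        ((Nat.Prime.coprime_iff_not_dvd Fact.out).2 hd)).gcd_eq_one, pow_one] at this
    · rintro ⟨_, t, rfl⟩
      refine Subtype.ext ?_
      change (t : G) * w * (t : G)⁻¹ = w
      rw [← mem_Cen.1 (hT' t.2) w (mem_zpowers _)]
      simp

end Aux

section Rel

variable {G : Type*} [Group G] [Fintype G] {p : ℕ} [hp : Fact p.Prime] {M : Ideal AlgInt}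
  [M.IsMaximal] {P K : Subgroup G} {e : (F M)[G]}

theorem eq_image_of_emb {L : Type*} [Group L] [Finite L] {φ : L →* G} (hφ : Injective φ)
    {A : Subgroup L} {A' : Subgroup G} (hA : A.map φ = A') {b : Set (IrrCharacter A)}
    {b' : Set (IrrCharacter A')} (hb : IsPBlock M b) (hb' : IsPBlock M b')
    (h : emb φ (eS M A b) = eS M A' b') : ∃ ψ : A ≃* A', b' = trI ψ '' b := by
  let ψ : A ≃* A' := (A.equivMapOfInjective φ hφ).trans (MulEquiv.subgroupCongr hA)
  refine ⟨ψ, eS_inj hb' (isPBlock_image_trI ψ hb) ?_⟩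
  rw [← h, eS, eS, eB_image_trI, emb_comp, emb_comp]
  rfl

theorem eq_image_of_top {B : Set (IrrCharacter G)} {b : Set (IrrCharacter (⊤ : Subgroup G))}
    (hB : IsPBlock M B) (hb : IsPBlock M b) (h : eB M B = eS M ⊤ b) :
    B = trI Subgroup.topEquiv '' b := by
  refine eq_of_eB_eq (H33.fB_mem_OG hB) (H33.fB_mem_OG (isPBlock_image_trI _ hb)) ?_
  rw [h, eB_image_trI]
  rfl

open Classical in
/-- The block of `K` above a fixed maximal pair. -/
noncomputable def bk (p : ℕ) (P : Subgroup G) (e : (F M)[G]) (K : Subgroup G) :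
    Set (IrrCharacter K) :=
  if h : ∃ b, IsPBlock M b ∧ IsMaxPair p K (eS M K b) P e then h.choose else ∅

/-- `(P, e)` is a maximal pair, with `P` abelian, of a block of `K`. -/
structure WS (p : ℕ) (P : Subgroup G) (e : (F M)[G]) (K : Subgroup G) : Prop where
  hM : IsPModular p M
  ab : P ≤ Cen P
  ex : ∃ b, IsPBlock M b ∧ IsMaxPair p K (eS M K b) P e

theorem WS.blk (h : WS p P e K) : IsPBlock M (bk p P e K) := by
  rw [bk, dif_pos h.ex]; exact h.ex.choose_spec.1

theorem WS.max (h : WS p P e K) : IsMaxPair p K (eS M K (bk p P e K)) P e := by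
  rw [bk, dif_pos h.ex]; exact h.ex.choose_spec.2

theorem WS.eS_eq (h : WS p P e K) {f : (F M)[G]} (hf : IsBlk K f) (h' : PairOf p K f P e) :
    eS M K (bk p P e K) = f := by
  haveI := H33.charP h.hM
  exact h.max.toPairOf.blk_unique h' (isBlk_eS h.blk) hf

theorem WS.inf_sub (h : WS p P e K) {Q : Subgroup G} (hQ : Q ≤ P) :
    WS p P e (K ⊓ Cen Q) ∧ Sub p K Q (eS M _ (bk p P e (K ⊓ Cen Q))) P e := by
  haveI := H33.charP h.hM
  have hm := h.max
  have hPQ : P ≤ Cen Q := h.ab.trans (Cen_anti hQ)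
  obtain ⟨f, hf⟩ := hm.toPair.exists_sub hQ
  have hfb := (hf.left hm.toPair).blk
  have h1 := (hf.nsub hm.toPair (hPQ.trans (Cen_le_Nor Q))).pairOf (le_inf hm.le hPQ) le_rfl
    inf_le_left
  have h2 := h1.isMaxPair (hf.isDef_of_le_Cen hm (isBlk_eS h.blk) hPQ)
  obtain ⟨b, hb, hbf⟩ := hfb.exists_eS
  have h3 : WS p P e (K ⊓ Cen Q) := ⟨h.hM, h.ab, b, hb, hbf ▸ h2⟩
  exact ⟨h3, by rwa [h3.eS_eq hfb h1]⟩

theorem St_inf (K C : Subgroup G) : St (K ⊓ C) P e = St K P e ⊓ C := by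
  ext x
  simp only [mem_St, Subgroup.mem_inf]
  tauto

theorem WS.trace [Fintype P] (h : WS p P e K) (l : P →* ℂˣ)
    (hl : ∀ t ∈ St K P e, ∀ u v : P, (v : G) = t * u * t⁻¹ → l v = l u) [Decidable (l = 1)] :
    ∑ v : P, (Nat.card (St K P e ⊓ Cen (zpowers (v : G)) : Subgroup G) : ℂ) *
      ((l v : ℂ) * blockRank p (bk p P e (K ⊓ Cen (zpowers (v : G))))) =
      if l = 1 then (Nat.card (St K P e) : ℂ) * Nat.card (bk p P e K) else 0 := by
  classical
  haveI := H33.charP h.hM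
  have hm := h.max
  have hi := K.subtype_injective
  obtain ⟨e', he'⟩ := exists_emb_subtype (hm.blk.supp.mono inf_le_left)
  have hP : (P.subgroupOf K).map K.subtype = P := map_subgroupOf_eq_of_le hm.le
  have hK := top_map_subtype K
  have hmp : MP p M (bk p P e K) (P.subgroupOf K) e' := by
    refine ⟨h.hM, h.blk, PairOf.isMaxPair ?_ ?_⟩
    · rw [← pairOf_emb hi, hK, hP, he']; exact hm.toPairOf
    · rw [← isDef_emb hi, hK, hP]; exact hm.isDef (isBlk_eS h.blk)
  have hab : P.subgroupOf K ≤ Cen (P.subgroupOf K) := fun x hx => by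
    rw [← mem_Cen_map hi, hP]; exact h.ab hx
  have hSt : St ⊤ (P.subgroupOf K) e' = (St K P e).subgroupOf K := by
    ext x
    rw [mem_subgroupOf, mem_St, mem_St, ← mem_Nor_iff_cs, ← mem_Nor_iff_cs, ← mem_Nor_map hi, hP,
      ← he', ← (emb_injective (R := F M) hi).eq_iff, ← cj_emb]
    simp
  let ε := subgroupOfEquivOfLe hm.le
  haveI := Fintype.ofFinite (P.subgroupOf K)
  have key := trace_top hmp hab (l.comp ε.toMonoidHom) fun t ht u v huv =>
    hl t (by rw [hSt] at ht; exact ht) (ε u) (ε v) (congrArg Subtype.val huv)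
  have h1 : l.comp ε.toMonoidHom = 1 ↔ l = 1 := by
    refine ⟨fun h0 => MonoidHom.ext fun x => ?_, fun h0 => by rw [h0]; rfl⟩
    simpa using DFunLike.congr_fun h0 (ε.symm x)
  rw [hSt, Nat.card_congr (subgroupOfEquivOfLe (St_le K P e)).toEquiv] at key
  rw [if_congr h1.symm rfl rfl, ← key]
  refine (Fintype.sum_equiv ε.toEquiv _ _ fun v => ?_).symm
  have hz : (zpowers (v : K)).map K.subtype = zpowers ((ε v : P) : G) := by
    rw [MonoidHom.map_zpowers]; rfl
  have hC : (Cen (zpowers (v : K))).map K.subtype = K ⊓ Cen (zpowers ((ε v : P) : G)) := by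
    rw [← top_inf_eq (Cen (zpowers (v : K))), map_inf_Cen hi, hK, hz]
  have hv : zpowers (v : K) ≤ P.subgroupOf K := zpowers_le.2 v.2
  obtain ⟨h2, h3⟩ := h.inf_sub (zpowers_le.2 (ε v).2)
  have h4 := (hmp.sub hv).emb hi
  rw [hK, hz, hP, he'] at h4
  obtain ⟨ψ, hψ⟩ := eq_image_of_emb hi hC (hmp.blk hv) h2.blk (h4.unique h3 hm.toPair)
  change _ = (Nat.card (St K P e ⊓ Cen (zpowers ((ε v : P) : G)) : Subgroup G) : ℂ) *
    ((l (ε v) : ℂ) * blockRank p (bk p P e (K ⊓ Cen (zpowers ((ε v : P) : G)))))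
  rw [hψ, blockRank_trI, ← card_map_of_injective hi, map_inf _ _ _ hi, hC,
    map_subgroupOf_eq_of_le (St_le K P e), ← inf_assoc, inf_eq_left.2 (St_le K P e)]
  rfl

theorem Cen_zpowers_mul_inf {u w : G} (h : Commute u w) :
    Cen (zpowers (u * w)) ⊓ Cen (zpowers u) = Cen (zpowers w) ⊓ Cen (zpowers u) := by
  ext x
  rw [Subgroup.mem_inf, Subgroup.mem_inf, isCen_zpowers, isCen_zpowers, isCen_zpowers]
  refine ⟨fun h => ⟨?_, h.2⟩, fun h => ⟨h.2.mul_left h.1, h.2⟩⟩
  simpa using h.2.inv_left.mul_left h.1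

open scoped IsMulCommutative in
theorem WS.rank_eq (h : WS p P e K) {u : G} (hu : u ∈ P) (hT : St K P e ≤ Cen (zpowers u)) :
    blockRank p (bk p P e K) = blockRank p (bk p P e (K ⊓ Cen (zpowers u))) := by
  classical
  haveI := H33.charP h.hM
  haveI := good h.hM G
  haveI := Fintype.ofFinite P
  induction hn : Nat.card K using Nat.strong_induction_on generalizing K with
  | _ n ih =>
  have hd := h.max.not_dvd (isBlk_eS h.blk)
  rw [sup_eq_right.2 (le_inf h.max.le h.ab), ← inf_relIndex_right, inf_right_comm,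
    inf_eq_right.2 (St_le K P e), inf_comm, inf_relIndex_right] at hd
  obtain ⟨A, hA1, hA2⟩ := exists_norm_ker h.max.pgrp h.ab (St_le_Nor K P e) hd
  haveI : IsMulCommutative P := ⟨⟨fun a b => Subtype.ext (mem_Cen.1 (h.ab b.2) a a.2)⟩⟩
  haveI := Fintype.ofFinite A
  let a : P → ℂ := fun v => (Nat.card (St K P e ⊓ Cen (zpowers (v : G)) : Subgroup G) : ℂ) *
    blockRank p (bk p P e (K ⊓ Cen (zpowers (v : G))))
  have key := coset_sum A a (fun l hl h1 => by
    have := h.trace l fun t ht u v huv => by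
      have := hl _ (hA1 t ht u v huv)
      rw [map_mul, map_inv, inv_mul_eq_one] at this
      exact this.symm
    rw [if_neg h1] at this
    rw [← this]
    exact sum_congr rfl fun v _ => by simp only [a]; ring) ⟨u, hu⟩
  have step : ∀ v : P, ¬ St K P e ≤ Cen (zpowers (v : G)) →
      blockRank p (bk p P e (K ⊓ Cen (zpowers (v : G)))) =
        blockRank p (bk p P e (K ⊓ (Cen (zpowers (v : G)) ⊓ Cen (zpowers u)))) := by
    intro v hv
    rw [← inf_assoc]
    refine ih _ ?_ (h.inf_sub (zpowers_le.2 v.2)).1 (by rw [St_inf]; exact inf_le_left.trans hT) rfl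
    rw [← hn]
    exact card_lt_of_lt (inf_lt_left.2 fun hK => hv ((St_le K P e).trans hK))
  have h2 : ∀ w : A, w ≠ 1 → a (⟨u, hu⟩ * w) = a w := by
    intro w hw
    have hc := Cen_zpowers_mul_inf (u := u) (w := ((w : P) : G)) (mem_Cen.1 (h.ab w.1.2) u hu)
    have h3 : St K P e ⊓ Cen (zpowers (u * ((w : P) : G))) =
        St K P e ⊓ Cen (zpowers ((w : P) : G)) := by
      rw [← inf_eq_left.2 hT, inf_assoc, inf_comm (Cen (zpowers u)), hc, inf_comm (Cen _),
        ← inf_assoc]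
    have h4 : ¬ St K P e ≤ Cen (zpowers ((w : P) : G)) := fun h0 =>
      hw (Subtype.ext (hA2 _ w.2 h0))
    have h5 : ¬ St K P e ≤ Cen (zpowers (u * ((w : P) : G))) := fun h0 =>
      h4 (by rw [← inf_eq_left, ← h3, inf_eq_left]; exact h0)
    have h6 : blockRank p (bk p P e (K ⊓ Cen (zpowers (u * ((w : P) : G))))) =
        blockRank p (bk p P e (K ⊓ (Cen (zpowers (u * ((w : P) : G))) ⊓ Cen (zpowers u)))) :=
      step ((⟨u, hu⟩ : P) * (w : P)) h5
    rw [hc, ← step _ h4] at h6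
    change (Nat.card (St K P e ⊓ Cen (zpowers (u * ((w : P) : G))) : Subgroup G) : ℂ) *
      blockRank p (bk p P e (K ⊓ Cen (zpowers (u * ((w : P) : G))))) = _
    rw [h3, h6]
  rw [← add_sum_erase _ _ (mem_univ (1 : A)), ← add_sum_erase _ _ (mem_univ (1 : A)),
    sum_congr rfl fun w hw => h2 w (ne_of_mem_erase hw), add_left_inj] at key
  have h7 : a (⟨u, hu⟩ * (1 : A)) = (Nat.card (St K P e ⊓ Cen (zpowers (u * 1)) : Subgroup G) : ℂ) *
    blockRank p (bk p P e (K ⊓ Cen (zpowers (u * 1)))) := rfl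
  have h8 : a (1 : A) = (Nat.card (St K P e ⊓ Cen (zpowers (1 : G)) : Subgroup G) : ℂ) *
    blockRank p (bk p P e (K ⊓ Cen (zpowers (1 : G)))) := rfl
  rw [h7, h8, mul_one, zpowers_one_eq_bot, Cen_bot, inf_top_eq, inf_top_eq,
    inf_eq_left.2 hT] at key
  exact_mod_cast (mul_left_cancel₀ (Nat.cast_ne_zero.2 Nat.card_pos.ne') key).symm

theorem WS.card_eq (h : WS p P e K) {u : G} (hu : u ∈ P) (hT : St K P e ≤ Cen (zpowers u)) :
    Nat.card (bk p P e K) = Nat.card (bk p P e (K ⊓ Cen (zpowers u))) := by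
  classical
  haveI := Fintype.ofFinite P
  have h' := (h.inf_sub (zpowers_le.2 hu)).1
  have h1 := h.trace 1 fun _ _ _ _ _ => rfl
  have h2 := h'.trace 1 fun _ _ _ _ _ => rfl
  rw [if_pos rfl] at h1 h2
  rw [St_inf, inf_eq_left.2 hT] at h2
  have h3 : (Nat.card (St K P e) : ℂ) * Nat.card (bk p P e K) =
      (Nat.card (St K P e) : ℂ) * Nat.card (bk p P e (K ⊓ Cen (zpowers u))) := by
    rw [← h1, ← h2]
    refine sum_congr rfl fun v _ => ?_
    rw [(h.inf_sub (zpowers_le.2 v.2)).1.rank_eq hu (by rw [St_inf]; exact inf_le_left.trans hT),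
      inf_right_comm]
  exact_mod_cast mul_left_cancel₀ (Nat.cast_ne_zero.2 Nat.card_pos.ne') h3

end Rel

end H86
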