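import Mathlib
import Cfsg.Agent.Lib.Blk86.IBr
import Cfsg.Agent.Lib.Blk86.Wat
import Cfsg.Agent.Lib.H85.NilBP
import Cfsg.Agent.Lib.Block.HeightBF

/-! Blocks all of whose characters have the same degree (Okuyama-Tsushima). -/

set_option autoImplicit false
set_option linter.unusedSectionVars false
set_option linter.style.haveILetI false

namespace H86

open Cfsg H33 MonoidAlgebra
open H64.MR (Wedd)
open H84 (bset mem_bset)
open scoped ComplexConjugate

attribute [local irreducible] H33.instFieldF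

section rankOne

variable {G : Type*} [Group G] [Finite G]

theorem chiL_idem_mul_idem {i : MonoidAlgebra ℂ G} (hii : i * i = i) {χ : G → ℂ}
    (hχ : IsCharacter G χ) (h1 : chiL χ i = 1) (x y : MonoidAlgebra ℂ G) :
    chiL χ (i * x * i * y) = chiL χ (i * x) * chiL χ (i * y) := by
  obtain ⟨n, ρ, rfl⟩ := hχ
  simp only [chiL_character, map_mul] at h1 ⊢
  have hE : IsIdempotentElem (ρ.asAlgebraHom i) := by rw [IsIdempotentElem, ← map_mul, hii]
  generalize ρ.asAlgebraHom i = E at *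
  generalize ρ.asAlgebraHom x = X
  generalize ρ.asAlgebraHom y = Y
  have h2 := (LinearMap.IsIdempotentElem.isProj_range _ hE).trace
  rw [h1] at h2
  obtain ⟨v, -, hv⟩ := finrank_eq_one_iff'.1 (show Module.finrank ℂ (LinearMap.range E) = 1 by
    exact_mod_cast h2.symm)
  obtain ⟨c, hc⟩ := hv ⟨E (X v), LinearMap.mem_range_self _ _⟩
  have h3 : E * X * E = c • E := by
    refine LinearMap.ext fun w => ?_
    obtain ⟨a, ha⟩ := hv ⟨E w, LinearMap.mem_range_self _ _⟩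
    have ha' : a • (v : Fin n → ℂ) = E w := congrArg Subtype.val ha
    have hc' : c • (v : Fin n → ℂ) = E (X v) := congrArg Subtype.val hc
    rw [Module.End.mul_apply, Module.End.mul_apply, LinearMap.smul_apply, ← ha', map_smul, map_smul,
      ← hc', smul_comm]
  have h4 : LinearMap.trace ℂ _ (E * X) = c := by
    have := congrArg (LinearMap.trace ℂ _) h3
    rwa [LinearMap.trace_mul_comm, ← mul_assoc, hE.eq, map_smul, h1, smul_eq_mul, mul_one] at this
  rw [h3, h4, smul_mul_assoc, map_smul, smul_eq_mul]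

theorem ext_chiL {x y : MonoidAlgebra ℂ G}
    (h : ∀ (χ : IrrCharacter G) (z : MonoidAlgebra ℂ G),
      chiL (χ : G → ℂ) (x * z) = chiL (χ : G → ℂ) (y * z)) : x = y := by
  refine alg_ext fun g => ?_
  have h1 : ∀ w : MonoidAlgebra ℂ G, (w * single g⁻¹ 1).coeff 1 = w.coeff g := fun w => by
    simp [coeff_mul_single_apply]
  rw [← h1 x, ← h1 y, coeff_one_eq_sum, coeff_one_eq_sum]
  simp only [h]

variable {B : Set (IrrCharacter G)}

theorem isCent_sum_eChi (c : IrrCharacter G → ℂ) : IsCent (∑ χ ∈ bset B, c χ • eChi χ) :=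
  isCent_sum _ fun χ _ => (isCent_eChi χ).smul _

open Classical in
theorem omega_sum_eChi (c : IrrCharacter G → ℂ) (ψ : IrrCharacter G) :
    omega (ψ : G → ℂ) (∑ χ ∈ bset B, c χ • eChi χ) = if ψ ∈ B then c ψ else 0 := by
  simp only [map_sum, map_smul, omega_eChi, smul_eq_mul, mul_ite, mul_one, mul_zero,
    Finset.sum_ite_eq, mem_bset]

theorem idem_mul_mul_idem {i : MonoidAlgebra ℂ G} (hii : i * i = i) (hfi : fB B * i = i)
    (h1 : ∀ χ ∈ B, chiL (χ : G → ℂ) i = 1) (x : MonoidAlgebra ℂ G) :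
    i * x * i = (∑ χ ∈ bset B, chiL (χ : G → ℂ) (i * x) • eChi χ) * i := by
  refine ext_chiL fun χ z => ?_
  rw [mul_assoc (Finset.sum _ _) i z, chiL_cent_mul χ (isCent_sum_eChi _), omega_sum_eChi]
  split_ifs with h
  · rw [chiL_idem_mul_idem hii (H84.irr_char χ) (h1 χ h)]
  · rw [zero_mul, ← chiL_fB_mul_of_not_mem h (i * x * i * z), ← mul_assoc, ← mul_assoc,
      ← mul_assoc, hfi]

end rankOne

section

variable {G : Type*} [Group G] [Finite G] {M : Ideal AlgInt} [M.IsMaximal] {W : Wedd (F M) G}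
  {p : ℕ} [hp : Fact p.Prime] {B : Set (IrrCharacter G)}

theorem Lf.eq_zero {i : MonoidAlgebra ℂ G} (h : Lf W i 0) : i = 0 :=
  eq_zero_of_idem_of_redA_eq_zero h.mem h.idem (eq_zero_of_idem_of_isNilpotent
    (by rw [← redA_mul h.mem h.mem, h.idem]) (W.nil _ h.eq))

theorem fB_mul_ide (hB : IsPBlock M B) {j : Fin W.n} (hj : j ∈ ibr W B) :
    fB B * ide W j = ide W j := by
  have h1 := lf_fB_mul_ide hB j
  have h2 := mul_bE (W := W) 1 j
  rw [one_mul, Pi.one_apply] at h2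
  rw [mul_bE, mem_ibr.1 hj, ← h2] at h1
  have h3 : Lf W (ide W j - fB B * ide W j) 0 := ⟨sub_mem (ide_mem j) h1.mem, by
    rw [sub_mul, mul_sub, mul_sub, h1.idem, ide_idem, ← mul_assoc, (isCent_fB B).comm, mul_assoc,
      ide_idem, sub_self, sub_zero], by
    rw [pr_sub (ide_mem j) h1.mem, h1.eq, (lf_ide j).eq, sub_self]⟩
  exact (sub_eq_zero.1 h3.eq_zero).symm

theorem sum_eChi_mem (hB : IsPBlock M B) {j : Fin W.n} (hj : ibr W B = {j})
    (h1 : ∀ χ ∈ B, dec W χ j = 1) (g : G) :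
    ∑ χ ∈ bset B, (χ : G → ℂ) g • eChi χ ∈ OG M G := by
  obtain ⟨a, b, ha, hb, hf⟩ := exists_fB_eq (W := W) hB
  rw [hj, Finset.sum_singleton] at hf
  have hfi := fB_mul_ide hB (hj ▸ Finset.mem_singleton_self j)
  have h2 : ∀ χ ∈ B, chiL (χ : G → ℂ) (ide W j) = 1 := fun χ hχ => by
    rw [chiL_ide, h1 χ hχ, Nat.cast_one]
  set z := ∑ χ ∈ bset B, (χ : G → ℂ) g • eChi χ with hz
  have h3 : z * ide W j = ∑ r, ide W j * (b j r * single g 1 * a j r) * ide W j := by
    simp only [idem_mul_mul_idem (ide_idem j) hfi h2]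
    rw [← Finset.sum_mul, Finset.sum_comm, hz]
    congr 1
    refine Finset.sum_congr rfl fun χ hχ => ?_
    rw [← Finset.sum_smul]
    congr 1
    have := chiL_fB_mul_of_mem (mem_bset.1 hχ) (single g 1)
    rw [chiL_single, one_mul, hf, Finset.sum_mul, map_sum] at this
    rw [← this]
    refine Finset.sum_congr rfl fun r _ => ?_
    rw [← mul_assoc, chiL_mul_comm (H84.irr_class χ) _ (a j r)]
    simp only [mul_assoc]
  have h4 : z * ide W j ∈ OG M G := h3 ▸ sum_mem fun r _ => mul_mem (mul_mem (ide_mem j)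
    (mul_mem (mul_mem (hb j r) (single_one_mem_OG g)) (ha j r))) (ide_mem j)
  have hc : IsCent z := isCent_sum_eChi _
  have h5 : z = z * fB B := by
    refine hc.ext_omega (hc.mul (isCent_fB B)) fun χ => ?_
    rw [omega_cent_mul χ hc, omega_fB, hz, omega_sum_eChi]
    split_ifs <;> simp
  rw [h5, hf, Finset.mul_sum]
  refine sum_mem fun r _ => ?_
  rw [← mul_assoc, ← mul_assoc, ← hc.comm, mul_assoc (a j r)]
  exact mul_mem (mul_mem (ha j r) h4) (hb j r)

theorem sum_mul_conj_div_mem (hM : IsPModular p M) (hB : IsPBlock M B) {d : ℕ}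
    (hd : ∀ χ ∈ B, charDegree (χ : G → ℂ) = d) {g : G}
    (h : ∑ χ ∈ bset B, (χ : G → ℂ) g • eChi χ ∈ OG M G) (x : G) :
    ((p : ℂ) ^ blockDefect p B)⁻¹ * ∑ χ ∈ bset B, (χ : G → ℂ) g * conj ((χ : G → ℂ) x) ∈ O M := by
  obtain ⟨χ₀, hχ₀, h0⟩ := H84.exists_minval (p := p) (H84.block_nonempty hB)
  have hd0 : d ≠ 0 := hd χ₀ hχ₀ ▸ H84.deg_ne_zero χ₀
  have h1 := h x
  rw [coeff_sum_apply] at h1
  have h2 : ((Nat.card G : ℕ) : ℂ) / ((d * p ^ blockDefect p B : ℕ) : ℂ) ∈ O M := by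
    rw [natCast_div_mem_O_iff hM Nat.card_pos.ne' (mul_ne_zero hd0 (pow_ne_zero _ hp.out.ne_zero)),
      Nat.factorization_mul hd0 (pow_ne_zero _ hp.out.ne_zero), Finsupp.add_apply,
      hp.out.factorization_pow, Finsupp.single_eq_same, ← hd χ₀ hχ₀, h0,
      H84.minval_add_defect ⟨χ₀, hχ₀⟩]
  convert mul_mem h2 h1 using 1
  rw [Finset.mul_sum, Finset.mul_sum]
  refine Finset.sum_congr rfl fun χ hχ => ?_
  rw [coeff_smul_apply', coeff_eChi, ← H84.cast_deg, hd χ (mem_bset.1 hχ)]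
  have : (d : ℂ) ≠ 0 := Nat.cast_ne_zero.2 hd0
  have : (Nat.card G : ℂ) ≠ 0 := H6.card_ne_zero
  have : (p : ℂ) ≠ 0 := H84.cast_p_ne_zero
  push_cast
  field_simp

theorem ibr_nonempty (hB : IsPBlock M B) : (ibr W B).Nonempty := by
  obtain ⟨χ, hχ⟩ := H84.block_nonempty hB
  obtain ⟨j, hj⟩ := exists_dec_ne_zero' W χ
  exact ⟨j, mem_ibr.2 (inB_of_dec hB hχ hj)⟩

theorem chiL_Phi_ide (j k : Fin W.n) :
    chiL (Phi W j) (ide W k) = ((∑ χ : IrrCharacter G, dec W χ j * dec W χ k : ℕ) : ℂ) := by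
  simp only [Phi, chiL_sum_fun, chiL_smul_fun, chiL_ide, Nat.cast_sum, Nat.cast_mul]

theorem Phi_eq_sum_phi (hM : IsPModular p M) (hB : IsPBlock M B) {j : Fin W.n}
    (hj : j ∈ ibr W B) : Phi W j =
      ∑ k ∈ ibr W B, ((∑ χ ∈ bset B, dec W χ j * dec W χ k : ℕ) : ℂ) • phi p W k := by
  conv_lhs => rw [← reg_Phi hM, Phi_eq_sum_bset hB hj, H84.reg_sum]
  simp only [Nat.cast_sum, Finset.sum_smul]
  rw [Finset.sum_comm]
  refine Finset.sum_congr rfl fun χ hχ => ?_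
  rw [H84.reg_smul, reg_irr_eq_sum_ibr W hM hB (mem_bset.1 hχ), Finset.smul_sum]
  simp only [smul_smul, Nat.cast_mul]

/-- if the Cartan invariants are divisible by the order of the defect group then `l(B) = 1` -/
theorem rank_eq_one_of_cartan (hM : IsPModular p M) (hB : IsPBlock M B)
    (h : ∀ s t : G, ¬ p ∣ orderOf s → ¬ p ∣ orderOf t → ((p : ℂ) ^ blockDefect p B)⁻¹ *
      ∑ χ ∈ bset B, (χ : G → ℂ) s * conj ((χ : G → ℂ) t) ∈ O M) : blockRank p B = 1 := by
  haveI := Fintype.ofFinite G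
  obtain ⟨W⟩ := H64.MR.exists_wedd (F M) G
  have hp0 : (p : ℂ) ^ blockDefect p B ≠ 0 := pow_ne_zero _ H84.cast_p_ne_zero
  let c : Fin W.n → Fin W.n → ℂ := fun j k => ((p : ℂ) ^ blockDefect p B)⁻¹ *
    ((∑ χ ∈ bset B, dec W χ j * dec W χ k : ℕ) : ℂ)
  have hc : ∀ j k, c j k ∈ O M := fun j k => by
    have h1 : c j k = ∑ s, ∑ t, (ide W j).coeff s * (ide W k).coeff t *
        (((p : ℂ) ^ blockDefect p B)⁻¹ * ∑ χ ∈ bset B, pRegularPart p (χ : G → ℂ) s *
          pRegularPart p (χ : G → ℂ) t) := by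
      simp only [c, Nat.cast_sum, Nat.cast_mul, ← chiL_ide, ← H85.chiL_idem_reg hM (ide_mem _)
        (ide_idem _) (H84.irr_class _)]
      simp only [chiL_apply, Finset.sum_mul_sum]
      simp only [Finset.mul_sum]
      rw [Finset.sum_comm]
      refine Finset.sum_congr rfl fun s _ => ?_
      rw [Finset.sum_comm]
      refine Finset.sum_congr rfl fun t _ => Finset.sum_congr rfl fun χ _ => ?_
      ring
    rw [h1]
    refine sum_mem fun s _ => sum_mem fun t _ => mul_mem (mul_mem (ide_mem j s) (ide_mem k t)) ?_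
    by_cases hs : p ∣ orderOf s
    · simp only [H84.reg_of_sing _ hs, zero_mul, Finset.sum_const_zero, mul_zero, zero_mem]
    by_cases ht : p ∣ orderOf t
    · simp only [H84.reg_of_sing _ ht, mul_zero, Finset.sum_const_zero, zero_mem]
    have := h s t⁻¹ hs (by rwa [orderOf_inv])
    simpa only [H84.reg_of_reg _ hs, H84.reg_of_reg _ ht, irr_inv, Complex.conj_conj] using this
  obtain ⟨κ, -, hκ⟩ := H85.exists_red_qf hM hB
  have key : ∀ i ∈ ibr W B, ∀ j ∈ ibr W B, (if i = j then 1 else 0 : F M) =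
      κ * red M (H85.ndeg p B (phi p W i)) *
        ∑ k ∈ ibr W B, red M (c j k) * red M (H85.ndeg p B (phi p W k)) := fun i hi j hj => by
    have h1 := inner_phi_Phi hM i j
    rw [Phi_eq_sum_phi hM hB hj, H6.classInner_sum_right] at h1
    have h2 : ∑ k ∈ ibr W B, c j k * H85.qf p B (phi p W i) (phi p W k) =
        if i = j then 1 else 0 := by
      rw [← h1]
      refine Finset.sum_congr rfl fun k _ => ?_
      rw [H6.classInner_smul_right, map_natCast, H85.qf_apply]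
      simp only [c]
      field_simp
    have h3 := congrArg (red M) h2
    rw [red_sum _ fun k hk => mul_mem (hc j k)
      (H85.qf_mem_O (phi_mem_lat hM hB hi) (phi_mem_lat hM hB hk))] at h3
    rw [Finset.mul_sum, show (if i = j then 1 else 0 : F M) = red M (if i = j then 1 else 0) by
      split_ifs <;> simp, ← h3]
    refine Finset.sum_congr rfl fun k hk => ?_
    rw [red_mul (hc j k) (H85.qf_mem_O (phi_mem_lat hM hB hi) (phi_mem_lat hM hB hk)),
      hκ _ (phi_mem_lat hM hB hi) _ (phi_mem_lat hM hB hk)]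
    ring
  rw [← card_ibr W hM hB]
  refine le_antisymm (Finset.card_le_one.2 fun i hi j hj => ?_) (ibr_nonempty hB).card_pos
  by_contra hij
  have h1 := key i hi i hi
  have h2 := key j hj j hj
  have h3 := key i hi j hj
  rw [if_pos rfl] at h1 h2
  rw [if_neg hij] at h3
  rcases mul_eq_zero.1 h3.symm with h4 | h4
  · rw [h4, zero_mul] at h1; exact one_ne_zero h1
  · rw [h4, mul_zero] at h2; exact one_ne_zero h2

theorem exists_ibr_of_deg (hM : IsPModular p M) (hB : IsPBlock M B) {d : ℕ}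
    (hd : ∀ χ ∈ B, charDegree (χ : G → ℂ) = d) :
    ∃ j, ibr W B = {j} ∧ ∀ χ ∈ B, dec W χ j = 1 := by
  classical
  haveI := Fintype.ofFinite G
  have h1 : ∀ χ ∈ B, ∃ j ∈ ibr W B, dec W χ j = 1 ∧ ∀ k, k ≠ j → dec W χ k = 0 := fun χ hχ => by
    obtain ⟨j, hj⟩ := exists_dec_ne_zero' W χ
    have hjB := mem_ibr.2 (inB_of_dec hB hχ hj)
    have hle : ∀ k ∈ ibr W B, d ≤ W.d k := fun k hk =>
      Nat.le_of_dvd (Nat.pos_of_ne_zero (W.d_ne k)) (dvd_d hM hB hk fun ψ hψ => (hd ψ hψ).symm.dvd)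
    have h2 := deg_eq_sum W χ
    rw [hd χ hχ, ← Finset.add_sum_erase _ _ (Finset.mem_univ j)] at h2
    have h3 := hle j hjB
    have h4 : W.d j ≤ W.d j * dec W χ j := Nat.le_mul_of_pos_right _ (Nat.pos_of_ne_zero hj)
    refine ⟨j, hjB, Nat.eq_of_mul_eq_mul_left (Nat.pos_of_ne_zero (W.d_ne j)) (by omega),
      fun k hk => ?_⟩
    have h5 : ∑ k ∈ Finset.univ.erase j, W.d k * dec W χ k = 0 := by omega
    exact (mul_eq_zero.1 (Finset.sum_eq_zero_iff.1 h5 k
      (Finset.mem_erase.2 ⟨hk, Finset.mem_univ _⟩))).resolve_left (W.d_ne k)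
  haveI : Nonempty (Fin W.n) := ⟨(ibr_nonempty (W := W) hB).choose⟩
  choose! J hJ hJ1 hJ0 using h1
  have h2 : ∀ χ ∈ B, pRegularPart p (χ : G → ℂ) = phi p W (J χ) := fun χ hχ => by
    rw [reg_irr_eq_sum W hM, Finset.sum_eq_single (J χ) (fun k _ hk => by simp [hJ0 χ hχ k hk])
      (by simp), hJ1 χ hχ, Nat.cast_one, one_smul]
  have h3 : ∀ χ ∈ B, ∀ ψ ∈ B, J χ = J ψ := fun χ hχ ψ hψ => by
    by_contra hne
    have h4 := inner_phi_Phi hM (J χ) (J ψ)
    rw [if_neg hne, Phi_eq_sum_phi hM hB (hJ ψ hψ), Finset.sum_eq_single (J ψ) (fun k _ hk => by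
      rw [Finset.sum_eq_zero, Nat.cast_zero, zero_smul]
      intro ξ hξ
      by_cases h : J ψ = J ξ
      · rw [hJ0 ξ (mem_bset.1 hξ) k (h ▸ hk), mul_zero]
      · rw [hJ0 ξ (mem_bset.1 hξ) _ h, zero_mul]) (fun h => absurd (hJ ψ hψ) h),
      H6.classInner_smul_right, map_natCast] at h4
    refine H84.inner_reg_ne_zero_of_height hM hB hχ hψ ?_ ?_
    · obtain ⟨χ₀, hχ₀, h0⟩ := H84.exists_minval (p := p) ⟨χ, hχ⟩
      rw [H84.blockHeight_eq, hd ψ hψ, ← hd χ₀ hχ₀, h0, Nat.sub_self]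
    · rw [← H84.inner_reg_reg, h2 χ hχ, h2 ψ hψ]
      refine (mul_eq_zero.1 h4).resolve_left (Nat.cast_ne_zero.2 fun h => ?_)
      have := Finset.sum_eq_zero_iff.1 h ψ (mem_bset.2 hψ)
      rw [hJ1 ψ hψ] at this
      exact one_ne_zero this
  obtain ⟨χ₀, hχ₀⟩ := H84.block_nonempty hB
  refine ⟨J χ₀, Finset.eq_singleton_iff_unique_mem.2 ⟨hJ χ₀ hχ₀, fun k hk => ?_⟩,
    fun χ hχ => h3 χ hχ χ₀ hχ₀ ▸ hJ1 χ hχ⟩
  obtain ⟨χ, hχ⟩ := exists_dec_ne_zero hM k
  have hχB := mem_of_dec hB (mem_ibr.1 hk) hχ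
  by_contra hne
  exact hχ (hJ0 χ hχB k (h3 χ hχB χ₀ hχ₀ ▸ hne))

theorem sum_mul_conj_of_deg (hM : IsPModular p M) (hB : IsPBlock M B) {d : ℕ}
    (hd : ∀ χ ∈ B, charDegree (χ : G → ℂ) = d) (g x : G) :
    ((p : ℂ) ^ blockDefect p B)⁻¹ * ∑ χ ∈ bset B, (χ : G → ℂ) g * conj ((χ : G → ℂ) x) ∈ O M := by
  obtain ⟨W⟩ := H64.MR.exists_wedd (F M) G
  obtain ⟨j, hj, h1⟩ := exists_ibr_of_deg (W := W) hM hB hd
  exact sum_mul_conj_div_mem hM hB hd (sum_eChi_mem hB hj h1 g) x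

theorem pow_dvd_card_of_deg (hM : IsPModular p M) (hB : IsPBlock M B) {d : ℕ}
    (hd : ∀ χ ∈ B, charDegree (χ : G → ℂ) = d) : p ^ blockDefect p B ∣ Nat.card B := by
  haveI := Fintype.ofFinite G
  obtain ⟨χ₀, hχ₀, h0⟩ := H84.exists_minval (p := p) (H84.block_nonempty hB)
  have hd0 : d ≠ 0 := hd χ₀ hχ₀ ▸ H84.deg_ne_zero χ₀
  have h1 := H84.factorization_sum_deg_sq hM hB
  rw [Finset.sum_congr rfl fun χ hχ => by rw [hd χ (mem_bset.1 hχ)], Finset.sum_const,
    H84.card_bset, smul_eq_mul] at h1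
  haveI : Nonempty B := ⟨⟨χ₀, hχ₀⟩⟩
  rw [Nat.factorization_mul Nat.card_pos.ne' (pow_ne_zero _ hd0), Finsupp.add_apply,
    Nat.factorization_pow, Finsupp.smul_apply, smul_eq_mul, ← hd χ₀ hχ₀, h0] at h1
  have h2 := H84.minval_add_defect (p := p) ⟨χ₀, hχ₀⟩
  exact (hp.out.pow_dvd_iff_le_factorization Nat.card_pos.ne').2 (by omega)

theorem conj_blockCoeff (B : Set (IrrCharacter G)) (g : G) :
    conj (blockCoeff B g) = blockCoeff B g⁻¹ := by
  simp only [H84.blockCoeff_eq, map_mul, map_inv₀, map_natCast, map_sum, H84.conj_irr_one, irr_inv]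

end

section

open H85 Subgroup
open scoped H85.SubFin

variable {G : Type*} [Group G] [Fintype G] {M : Ideal AlgInt} [M.IsMaximal]
  {p : ℕ} [hp : Fact p.Prime] {B : Set (IrrCharacter G)} {P : Subgroup G}
  {e : MonoidAlgebra (F M) G}

theorem rank_loc_of_deg (h : MP p M B P e) {d : ℕ} (hd : ∀ χ ∈ B, charDegree (χ : G → ℂ) = d)
    {u : G} (hu : u ∈ P) (hc : P ≤ Cen (zpowers u)) :
    blockRank p (loc p M P e (zpowers u)) = 1 := by
  have hz := zpowers_le.2 hu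
  have hb := h.blk hz
  refine rank_eq_one_of_cartan h.hM hb fun s t hs ht => ?_
  rw [← H84.sum_sub_mul_conj h.hM (h.isPElt hu) (H84.isCen_zpowers u) (h.induced_z hu) t hs,
    h.defect_loc hz hc]
  have h1 : ∀ χ : IrrCharacter G, ∀ s : Cen (zpowers u), ¬ p ∣ orderOf s →
      H84.sub p u _ (loc p M P e (zpowers u)) χ s =
        ∑ c, blockCoeff (loc p M P e (zpowers u)) c * (χ : G → ℂ) (u * (c * s : Cen (zpowers u))) :=
    fun χ s hs => by
      rw [H84.sub_def, H84.reg_of_reg _ hs, H84.blockPart_apply_eq_sum_coeff _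
        ((H84.isCen_zpowers u).isClassFunction_sec (H84.irr_class χ))]
      rfl
  simp only [h1 _ s hs, h1 _ t ht, map_sum, map_mul, Finset.sum_mul_sum, conj_blockCoeff]
  rw [Finset.sum_comm, Finset.mul_sum]
  refine sum_mem fun a _ => ?_
  rw [Finset.sum_comm, Finset.mul_sum]
  refine sum_mem fun b _ => ?_
  convert mul_mem (mul_mem (blockCoeff_mem_O hb a) (blockCoeff_mem_O hb b⁻¹))
    (sum_mul_conj_of_deg h.hM h.hB hd (u * (a * s : Cen (zpowers u)))
      (u * (b * t : Cen (zpowers u)))) using 1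
  simp only [Finset.mul_sum]
  exact Finset.sum_congr rfl fun χ _ => by ring

theorem St_le_of_deg (h : MP p M B P e) (hab : P ≤ Cen P) {d : ℕ}
    (hd : ∀ χ ∈ B, charDegree (χ : G → ℂ) = d) : St ⊤ P e ≤ Cen P := by
  classical
  obtain ⟨Y, hY⟩ := h.exists_reps
  have h1 := h.card_eq_sum hY
  rw [Finset.sum_congr rfl fun y hy => rank_loc_of_deg h hd (hY.mem y hy)
    (hab.trans (Cen_anti (zpowers_le.2 (hY.mem y hy)))), Finset.sum_const, smul_eq_mul,
    mul_one] at h1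
  have h2 := pow_dvd_card_of_deg h.hM h.hB hd
  haveI : Nonempty B := (H84.block_nonempty h.hB).to_subtype
  rw [← h.card_eq] at h2
  have h3 : Y = (P : Set G).toFinset := Finset.eq_of_subset_of_card_le
    (fun y hy => Set.mem_toFinset.2 (hY.mem y hy)) (by
      rw [← h1, Set.toFinset_card, ← Nat.card_eq_fintype_card]
      exact Nat.le_of_dvd Nat.card_pos h2)
  intro t ht
  rw [mem_Cen_iff_conj]
  intro u hu
  have h4 := h.fus_conj hu ht
  exact (hY.uniq u (h3 ▸ Set.mem_toFinset.2 hu) _ (h3 ▸ Set.mem_toFinset.2 h4.right) h4).symm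

theorem isNilpotentBlock_of_deg (hM : IsPModular p M) (hB : IsPBlock M B)
    (hD : IsDefectGroup p M B P) (hab : P ≤ Cen P) {d : ℕ}
    (hd : ∀ χ ∈ B, charDegree (χ : G → ℂ) = d) : IsNilpotentBlock p M B := by
  haveI := charP hM
  haveI := good hM G
  obtain ⟨e, h⟩ := exists_mp hM hB hD
  exact (isNilpotentBlock_iff hB).2 ((isNil_iff_of_ab h.max (isBlk_eB hB) hab).2
    (St_le_of_deg h hab hd))

theorem exists_deg_of_nilpotent (hM : IsPModular p M) (hB : IsPBlock M B)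
    (hn : IsNilpotentBlock p M B) : ∃ d : ℕ, ∀ χ ∈ B, blockHeight p B (χ : G → ℂ) = 0 →
      charDegree (χ : G → ℂ) = d := by
  obtain ⟨P, hP⟩ := exists_defectGroup p hB
  obtain ⟨e, h⟩ := exists_mp hM hB hP
  have hc := h.ctrl_of_nil hn
  obtain ⟨χ₀, hχ₀, h0⟩ := H84.exists_height_zero (p := p) (H84.block_nonempty hB)
  refine ⟨charDegree (χ₀ : G → ℂ), fun χ hχ h1 => ?_⟩
  have := congrFun ((h.brc_eq_of_ctrl hc hχ h1).symm.trans (h.brc_eq_of_ctrl hc hχ₀ h0)) 1
  rw [H84.reg_one, H84.reg_one, ← H84.cast_deg, ← H84.cast_deg] at this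
  exact_mod_cast this

end

end H86
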