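import Mathlib
import Cfsg.Agent.Lib.Blk86.EqDeg
import Cfsg.Agent.Lib.Blk86.Quot
import Cfsg.Agent.Lib.Block.Inert
import Cfsg.Agent.Lib.Core.Frattini
import Cfsg.Agent.Lib.Core.Coprime
import Cfsg.Agent.S0972

/-! Blocks with a normal defect group. -/

set_option autoImplicit false
set_option linter.unusedSectionVars false
set_option linter.style.haveILetI false

namespace H86

open Cfsg H33 MonoidAlgebra

section Alg

variable {F G K : Type*} [Field F] [Group G] [Group K] {p : ℕ} {H P Q : Subgroup G}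
  {b e e' f : F[G]} [Finite G] [Finite K] [Fact p.Prime] [CharP F p]

theorem Sub.exists_cj_of_normal (hN : H ≤ Nor P) (hP : Pair p H P e) (hP' : Pair p H P e')
    (h : Sub p H Q f P e) (h' : Sub p H Q f P e') : ∃ c ∈ H ⊓ Cen Q, e' = H86.cj c e := by
  have hN' : H ⊓ Cen Q ≤ Nor (H ⊓ Cen P) :=
    (inf_le_left.trans (le_inf le_rfl hN)).trans (inf_Nor_le_Nor_inf_Cen H P)
  have hd := orbSum_mem_Zc (H ⊓ Cen Q) (H ⊓ Cen P) e
  have hs : Supp (Cen P) (orbSum (H ⊓ Cen Q) (H ⊓ Cen P) e) := hd.1.mono inf_le_right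
  have hi : Inv P (orbSum (H ⊓ Cen Q) (H ⊓ Cen P) e) := hs.inv_of_Cen
  have hbr : br P (orbSum (H ⊓ Cen Q) (H ⊓ Cen P) e) = _ := hs.res_eq
  have h1 := (h.br_mul_iff (orbSum_idem _ _ _) (hd.1.mono inf_le_left) hi
    (inv_orbSum hN' hP.blk)).2 (by rw [hbr, orbSum_mul_self hN' hP.blk])
  have h2 := (h'.br_mul_iff (orbSum_idem _ _ _) (hd.1.mono inf_le_left) hi
    (inv_orbSum hN' hP.blk)).1 h1
  rw [hbr] at h2
  exact exists_cj_of_orbSum_mul_ne_zero hN' hP.blk hP'.blk (by rw [h2]; exact hP'.blk.ne)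

theorem isNil_of_normal (hm : IsMaxPair p H b P e) (hb : IsBlk H b) (hN : H ≤ Nor P)
    (h : PQuot p (Cen P) (St H P e)) : IsNil p H b := by
  intro Q f hQ x hx hxN hc ho
  obtain ⟨y, hy, h1⟩ := hQ.exists_conj_sub hm hb
  have h2 : y * x * y⁻¹ ∈ St H (cs y Q) (cj y f) := by
    rw [← cs_St_mem hy, conj_mem_cs]
    exact mem_St.2 ⟨hx, mem_Nor_iff_cs.1 hxN, hc⟩
  generalize hz : y * x * y⁻¹ = z at h2
  obtain ⟨hzH, hz1, hz2⟩ := mem_St.1 h2
  have h3 := h1.cj_mem hzH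
  have h4 := hm.toPair.cj_mem hzH
  rw [hz1, hz2, mem_Nor_iff_cs.1 (hN hzH)] at h3
  rw [mem_Nor_iff_cs.1 (hN hzH)] at h4
  obtain ⟨c, hc1, hc2⟩ := h1.exists_cj_of_normal hN hm.toPair h4 h3
  have ht : c⁻¹ * z ∈ St H P e := by
    have : c⁻¹ * z ∈ H := H.mul_mem (H.inv_mem hc1.1) hzH
    exact mem_St.2 ⟨this, mem_Nor_iff_cs.1 (hN this), by rw [cj_mul, hc2, cj_inv_cj]⟩
  obtain ⟨k, hk⟩ := exists_pow_mem_of_pReg_mem
    (h _ (H35.pReg_mem p ht) (H35.not_dvd_orderOf_pReg p _))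
  have h5 : Act (cs y Q) z (c⁻¹ * z) := by
    intro q hq
    have := mem_Cen_iff_conj.1 ((Cen _).inv_mem hc1.2) (z * q * z⁻¹) (by
      rw [← hz1]; exact conj_mem_cs.2 hq)
    rw [← this]; group
  have := h5.mem_Cen_of_pow (St_le_Nor _ _ _ h2) (by rwa [← hz, H35.orderOf_conj])
    (Cen_anti h1.le hk)
  rwa [← hz, ← cs_Cen, conj_mem_cs] at this

theorem pQuot_comap_Cen_of_frattini {φ : G →* K} (hP : IsPGroup p P) [P.Normal]
    (hk : φ.ker ≤ (frattini P).map P.subtype) : PQuot p (Cen P) ((Cen (P.map φ)).comap φ) := by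
  intro x hx ho
  refine H2.le_centralizer_of_commutator_le_frattini (A := Subgroup.zpowers x) (K := P)
    (by rw [Subgroup.normalizer_eq_top]; exact le_top) ?_ ?_ (Subgroup.mem_zpowers x)
  · obtain ⟨k, hk⟩ := IsPGroup.iff_card.1 (hP.to_subgroup (frattini P))
    rw [hk, Nat.card_zpowers]
    exact ((Nat.Prime.coprime_iff_not_dvd Fact.out).2 ho).symm.pow_right k
  · refine le_trans (Subgroup.commutator_le.2 fun u hu y hy => ?_) hk
    have : φ y ∈ Cen (P.map φ) := Subgroup.zpowers_le.2 hx hy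
    rw [MonoidHom.mem_ker, map_commutatorElement, commutatorElement_eq_one_iff_mul_comm]
    exact (mem_Cen.1 this _ ⟨u, hu, rfl⟩)

theorem isNil_of_quot_normal [Good p F G] [Good p F K] {φ : G →* K} (hφ : Function.Surjective φ)
    [P.Normal] (hk : φ.ker ≤ (frattini P).map P.subtype) (hb : IsBlk ⊤ b) (hD : IsDef p ⊤ b P)
    {b' e' : F[K]} (hb' : IsBlk ⊤ b') (hbb : emb φ b * b' = b')
    (hm : PairOf p ⊤ b' (P.map φ) e') (hS : St ⊤ (P.map φ) e' ≤ Cen (P.map φ)) :
    IsNil p ⊤ b := by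
  have hkP : φ.ker ≤ P := hk.trans (Subgroup.map_subtype_le _)
  have hZ : IsPGroup p φ.ker := hD.pgrp.to_le hkP
  have hq := pQuot_comap_Cen_of_frattini hD.pgrp hk
  have hN : ∀ g, g ∈ Nor P := fun g => by
    rw [Nor, Subgroup.normalizer_eq_top]; trivial
  have hN' : ∀ g, g ∈ Nor (P.map φ) := fun g => by
    obtain ⟨g, rfl⟩ := hφ g
    exact map_mem_Nor_map (hN g)
  set C := (Cen (P.map φ)).comap φ with hC
  have hCle : Cen P ≤ C := fun x hx => map_mem_Cen_map hx
  have hNC : C ≤ Nor (Cen P) := fun g _ => Nor_le_Nor_Cen P (hN g)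
  obtain ⟨c, hc, rfl⟩ := IsBlk.exists_quot (H := C) hZ (fun x hx ho => Cen_anti hkP (hq x hx ho))
    (z := e') (by rw [hC, Subgroup.map_comap_eq_self_of_surjective hφ]; simpa using hm.blk)
  obtain ⟨e, he, -, rfl⟩ := hq.exists_orbSum hCle hNC hc
  have hbr := br_eq_self hD.pgrp le_top (fun g _ => hN g) hb.mem hb.idem
  have hbr' := br_eq_self hm.pgrp le_top (fun g _ => hN' g) hb'.mem hb'.idem
  have h1 : b * e = e := by
    refine (he.prim b ⟨hbr ▸ supp_res _ _, hb.inv.anti le_top⟩ hb.idem).resolve_right fun h0 => ?_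
    have h2 := mul_orbSum_of_inv hNC he (hb.inv.anti le_top) (c := 0) (by rw [h0, zero_smul])
    have h3 := hm.br_mul
    rw [hbr'] at h3
    apply hm.blk.ne
    rw [← h3, ← hbb, mul_assoc, h3, ← map_mul, h2, zero_smul, map_zero]
  have hp : PairOf p ⊤ b P e := ⟨⟨le_top, hD.pgrp, by simpa using he⟩, by rw [hbr, h1]⟩
  refine isNil_of_normal (hp.isMaxPair hD) hb (fun g _ => hN g) fun t ht ho => hq t ?_ ho
  refine hS (mem_St.2 ⟨trivial, mem_Nor_iff_cs.1 (hN' _), ?_⟩)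
  rw [cj_emb, cj_orbSum_eq hNC he hc (mem_Nor_comap (Nor_le_Nor_Cen _ (hN' _))) (mem_St.1 ht).2.2]

end Alg

section Char

attribute [local irreducible] H33.instFieldF

variable {G : Type*} [Group G] [Finite G] {M : Ideal AlgInt} [M.IsMaximal]
  {p : ℕ} [hp : Fact p.Prime] {B : Set (IrrCharacter G)} {P : Subgroup G}

theorem height_infl_eq_zero (hM : IsPModular p M) (hB : IsPBlock M B)
    (hD : IsDefectGroup p M B P) {N : Subgroup G} [N.Normal] (hNP : N ≤ P)
    {Bb : Set (IrrCharacter (G ⧸ N))} (hBb : IsPBlock M Bb)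
    (hD' : IsDefectGroup p M Bb (P.map (QuotientGroup.mk' N))) {χ : IrrCharacter (G ⧸ N)}
    (h0 : blockHeight p Bb (χ : G ⧸ N → ℂ) = 0) :
    blockHeight p B (H35.infl N χ : G → ℂ) = 0 := by
  have h1 := H84.minval_add_defect (p := p) (H84.block_nonempty hB)
  have h2 := H84.minval_add_defect (p := p) (H84.block_nonempty hBb)
  have h3 := defect_card hM hB hD
  have h4 := defect_card hM hBb hD'
  have h5 : Nat.card P = Nat.card (P.map (QuotientGroup.mk' N)) * Nat.card N := by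
    have := Subgroup.card_eq_card_quotient_mul_card_subgroup
      ((QuotientGroup.mk' N).domRestrict P).ker
    rw [Nat.card_congr (QuotientGroup.quotientKerEquivRange _).toEquiv, 
      MonoidHom.domRestrict_range, MonoidHom.ker_domRestrict, QuotientGroup.ker_mk',
      Nat.card_congr (Subgroup.subgroupOfEquivOfLe hNP).toEquiv] at this
    exact this
  have h6 := Subgroup.card_eq_card_quotient_mul_card_subgroup N
  have h7 := congrArg (fun n => n.factorization p) h5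
  have h8 := congrArg (fun n => n.factorization p) h6
  simp only [Nat.factorization_mul Nat.card_pos.ne' Nat.card_pos.ne', Finsupp.add_apply] at h7 h8
  rw [h3, h4, hp.out.factorization_pow, hp.out.factorization_pow, Finsupp.single_eq_same,
    Finsupp.single_eq_same] at h7
  rw [H84.blockHeight_eq] at h0 ⊢
  rw [H35.charDegree_infl]
  omega

theorem isNilpotentBlock_of_normal (hM : IsPModular p M) (hB : IsPBlock M B)
    (hD : IsDefectGroup p M B P) [P.Normal] {d : ℕ}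
    (hd : ∀ χ ∈ B, blockHeight p B (χ : G → ℂ) = 0 → charDegree (χ : G → ℂ) = d) :
    IsNilpotentBlock p M B := by
  haveI := charP hM
  haveI := good hM G
  haveI := good hM (G ⧸ ⁅P, P⁆)
  haveI := Fintype.ofFinite (G ⧸ ⁅P, P⁆)
  have hP := defect_isPGroup hD
  have hle : ⁅P, P⁆ ≤ P := Subgroup.commutator_le_left P P
  obtain ⟨Bb, hBb, hsub, hD'⟩ := H35.exists_quot_block hM (hP.to_le hle) hB hD
  haveI : (P.map (QuotientGroup.mk' ⁅P, P⁆)).Normal :=
    Subgroup.Normal.map inferInstance _ (QuotientGroup.mk'_surjective _)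
  have hab : ∀ a ∈ P.map (QuotientGroup.mk' ⁅P, P⁆), ∀ c ∈ P.map (QuotientGroup.mk' ⁅P, P⁆),
      a * c = c * a := by
    rintro _ ⟨a, ha, rfl⟩ _ ⟨c, hc, rfl⟩
    rw [← commutatorElement_eq_one_iff_mul_comm, ← map_commutatorElement, QuotientGroup.mk'_apply,
      QuotientGroup.eq_one_iff]
    exact Subgroup.commutator_mem_commutator ha hc
  have hab' : P.map (QuotientGroup.mk' ⁅P, P⁆) ≤ Cen (P.map (QuotientGroup.mk' ⁅P, P⁆)) :=
    fun a ha => mem_Cen.2 fun c hc => hab c hc a ha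
  have h0 := (Cfsg.Agent.S0972.result p M hM Bb hBb _ hD').1 hab
  obtain ⟨e', h⟩ := H85.exists_mp hM hBb hD'
  obtain ⟨χ, hχ⟩ := H84.block_nonempty hBb
  refine (isNilpotentBlock_iff hB).2 (isNil_of_quot_normal (QuotientGroup.mk'_surjective ⁅P, P⁆) ?_
    (isBlk_eB hB) ((isDefectGroup_iff hB P).1 hD) (isBlk_eB hBb)
    ((H35.infl_mem_iff hB hBb hχ).1 (hsub χ hχ)) h.max.toPairOf
    (St_le_of_deg h hab' (d := d) fun ψ hψ =>
      hd _ (hsub ψ hψ) (height_infl_eq_zero hM hB hD hle hBb hD' (h0 ψ hψ))))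
  rw [QuotientGroup.ker_mk', ← Subgroup.map_subtype_commutator]
  exact Subgroup.map_mono (H1.commutator_le_frattini hP)

end Char

end H86
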