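import Mathlib
import Cfsg.Agent.Lib.Deg.Cliff
import Cfsg.Agent.Lib.Deg.FS4
import Cfsg.Agent.Lib.Core.PCore
import Cfsg.Agent.Lib.Core.MinNormal
import Cfsg.Agent.Lib.Core.CoprimeBasic

/-!
Groups all of whose real irreducible characters have degree prime to `p` (Isaacs-Navarro).
-/

set_option autoImplicit false
set_option linter.style.haveILetI false
set_option linter.unusedSectionVars false

namespace H86

open Cfsg Subgroup

variable {G : Type*} [Group G]

/-- The subgroup generated by the `q`-elements. -/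
def genP (q : ℕ) (G : Type*) [Group G] : Subgroup G :=
  closure {g : G | ∃ k : ℕ, orderOf g = q ^ k}

instance genP_normal (q : ℕ) : (genP q G).Normal := by
  refine ⟨fun x hx g => ?_⟩
  have : (genP q G).map (MulAut.conj g).toMonoidHom ≤ genP q G := by
    rw [genP, MonoidHom.map_closure]
    refine closure_mono ?_
    rintro _ ⟨y, ⟨k, hk⟩, rfl⟩
    exact ⟨k, by rw [← hk]; exact orderOf_injective _ (MulAut.conj g).injective y⟩
  exact this ⟨x, hx, rfl⟩

theorem mem_genP {q : ℕ} [hq : Fact q.Prime] {x : G} {k : ℕ} (h : x ^ q ^ k = 1) : x ∈ genP q G := by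
  obtain ⟨j, -, hj⟩ := (Nat.dvd_prime_pow hq.out).1 (orderOf_dvd_of_pow_eq_one h)
  exact subset_closure ⟨j, hj⟩

theorem genP_le {q : ℕ} {H : Subgroup G} (h : ∀ x : G, (∃ k, x ^ q ^ k = 1) → x ∈ H) :
    genP q G ≤ H :=
  (closure_le _).2 fun x ⟨k, hk⟩ => h x ⟨k, by rw [← hk, pow_orderOf_eq_one]⟩

variable [Finite G]

theorem exists_pElt_lift {G' : Type*} [Group G'] {q : ℕ} [hq : Fact q.Prime] (f : G →* G') {x : G}
    {k : ℕ} (h : f x ^ q ^ k = 1) : ∃ y ∈ zpowers x, (∃ j, y ^ q ^ j = 1) ∧ f y = f x := by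
  obtain ⟨j, m, hm, hjm⟩ := Nat.exists_eq_pow_mul_and_not_dvd (orderOf_pos x).ne' q hq.out.ne_one
  have hc : m.Coprime (q ^ k) := ((Nat.Prime.coprime_iff_not_dvd hq.out).2 hm).symm.pow_right k
  obtain ⟨a, ha⟩ := exists_pow_eq_self_of_coprime (x := f x) (n := m)
    (hc.coprime_dvd_right (orderOf_dvd_of_pow_eq_one h))
  refine ⟨(x ^ m) ^ a, pow_mem (pow_mem (mem_zpowers x) _) _, ⟨j, ?_⟩, by rw [map_pow, map_pow, ha]⟩
  rw [← pow_mul, ← pow_mul, ← orderOf_dvd_iff_pow_eq_one, hjm]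
  exact ⟨a, by ring⟩

theorem map_genP {G' : Type*} [Group G'] {q : ℕ} [hq : Fact q.Prime] {f : G →* G'}
    (hf : Function.Surjective f) : (genP q G).map f = genP q G' := by
  refine le_antisymm (map_le_iff_le_comap.2 (genP_le fun x ⟨k, hk⟩ => mem_comap.2
    (mem_genP (k := k) (by rw [← map_pow, hk, map_one])))) (genP_le fun x ⟨k, hk⟩ => ?_)
  obtain ⟨x, rfl⟩ := hf x
  obtain ⟨y, -, ⟨j, hj⟩, hy⟩ := exists_pElt_lift f hk
  exact ⟨y, mem_genP hj, hy⟩

theorem not_dvd_index_genP (q : ℕ) [hq : Fact q.Prime] : ¬ q ∣ (genP q G).index := by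
  obtain ⟨P⟩ := (inferInstance : Nonempty (Sylow q G))
  have : (P : Subgroup G) ≤ genP q G := fun x hx => by
    obtain ⟨k, hk⟩ := P.isPGroup' ⟨x, hx⟩
    exact mem_genP (k := k) (congrArg Subtype.val hk)
  exact fun h => P.not_dvd_index (h.trans (index_dvd_of_le this))

theorem odd_index_genP : Odd (genP 2 G).index :=
  Nat.not_even_iff_odd.1 fun h => not_dvd_index_genP 2 h.two_dvd

/-- All real irreducible characters contain `M` in the kernel. -/
def RealKer (M : Subgroup G) : Prop :=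
  ∀ χ : IrrCharacter G, H87.IsReal (χ : G → ℂ) → M ≤ H6.charKer (χ : G → ℂ)

theorem RealKer.card_sqrt {M : Subgroup G} (h : RealKer M) (g : G) {m : G} (hm : m ∈ M) :
    Nat.card {s : G // s * s = g * m} = Nat.card {s : G // s * s = g} := by
  haveI := Fintype.ofFinite G
  have : (Nat.card {s : G // s * s = g * m} : ℂ) = Nat.card {s : G // s * s = g} := by
    rw [H87.card_sqrt_eq_sum, H87.card_sqrt_eq_sum]
    refine Finset.sum_congr rfl fun χ _ => ?_
    by_cases hr : H87.IsReal (χ : G → ℂ)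
    · rw [H87.char_mul_right_of_eq_one (H6.irr_isCharacter χ.2)
        ((H6.mem_charKer (H6.irr_isCharacter χ.2)).1 (h χ hr hm))]
    · rw [H87.nu_eq_zero_of_not_isReal χ.2 hr, zero_mul, zero_mul]
  exact_mod_cast this

theorem RealKer.card_sqrt_coset {M : Subgroup G} (h : RealKer M) (g : G) :
    Nat.card {s : G // g⁻¹ * (s * s) ∈ M} = Nat.card M * Nat.card {s : G // s * s = g} := by
  haveI := Fintype.ofFinite M
  have e : {s : G // g⁻¹ * (s * s) ∈ M} ≃ Σ m : M, {s : G // s * s = g * m} :=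
    { toFun := fun s => ⟨⟨_, s.2⟩, s.1, by simp⟩
      invFun := fun x => ⟨x.2.1, by rw [x.2.2]; simp⟩
      left_inv := fun _ => rfl
      right_inv := by
        rintro ⟨⟨m, hm⟩, s, hs⟩
        have : m = g⁻¹ * (s * s) := by rw [hs]; simp
        subst this
        rfl }
  rw [Nat.card_congr e, Nat.card_sigma, Finset.sum_congr rfl fun m _ => h.card_sqrt g m.2]
  simp

theorem RealKer.comm_of_sq {M : Subgroup G} [hM : M.Normal] (h : RealKer M)
    (hodd : Odd (Nat.card M)) {s : G} {k : ℕ} (hk : s ^ 2 ^ k = 1)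
    (hs : s * s ∈ centralizer (M : Set G)) : s ∈ centralizer (M : Set G) := by
  set g := s * s with hg
  have hgk : g ^ 2 ^ k = 1 := by rw [hg, ← pow_two, ← pow_mul, mul_comm, pow_mul, hk, one_pow]
  let F : M × {y : G // y * y = g} → {y : G // g⁻¹ * (y * y) ∈ M} := fun x =>
    ⟨x.2.1 * x.1.1, by
      have : g⁻¹ * (x.2.1 * x.1.1 * (x.2.1 * x.1.1)) = x.2.1⁻¹ * x.1.1 * x.2.1 * x.1.1 := by
        have h0 : g⁻¹ = (x.2.1 * x.2.1)⁻¹ := congrArg (·⁻¹) x.2.2.symm
        rw [h0]; group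
      rw [this]
      exact mul_mem (hM.conj_mem' _ x.1.2 _) x.1.2⟩
  have hF : Function.Surjective F := by
    rintro ⟨a, ha⟩
    obtain ⟨n, hn1, hn2⟩ := Nat.chineseRemainder
      ((Nat.coprime_two_left.2 hodd).pow_left (k + 1)) 1 0
    obtain ⟨c, hc⟩ : ∃ c, n = 2 ^ (k + 1) * c + 1 := by
      have h1 : 1 < 2 ^ (k + 1) := Nat.one_lt_two_pow (by omega)
      refine ⟨n / 2 ^ (k + 1), ?_⟩
      have := hn1
      rw [Nat.ModEq, Nat.mod_eq_of_lt h1] at this
      have h2 := Nat.div_add_mod n (2 ^ (k + 1))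
      omega
    obtain ⟨d, hd⟩ := (Nat.modEq_zero_iff_dvd.1 hn2)
    have hcomm : Commute g (g⁻¹ * (a * a)) := (mem_centralizer_iff.1 hs _ ha).symm
    have haa : a * a = g * (g⁻¹ * (a * a)) := by group
    have h1 : a ^ n * a ^ n = g := by
      rw [← (Commute.refl a).mul_pow, haa, hcomm.mul_pow]
      have : (g⁻¹ * (a * a)) ^ n = 1 := by
        have h2 : (g⁻¹ * (a * a)) ^ Nat.card M = 1 :=
          congrArg Subtype.val (pow_card_eq_one' (G := M) (x := ⟨_, ha⟩))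
        rw [hd, pow_mul, h2, one_pow]
      rw [this, mul_one, hc, pow_succ, pow_succ, mul_assoc, pow_mul, hgk, one_pow, one_mul]
    have h2 : (a ^ n)⁻¹ * a ∈ M := by
      have : a ^ (2 ^ (k + 1) * c) = (g⁻¹ * (a * a)) ^ (2 ^ k * c) := by
        rw [pow_succ', mul_assoc, pow_mul, pow_two]
        nth_rw 1 [haa]
        rw [hcomm.mul_pow, pow_mul g, hgk, one_pow, one_mul]
      rw [hc, pow_succ', this, mul_inv_rev, inv_mul_cancel_right]
      exact inv_mem (pow_mem ha _)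
    exact ⟨(⟨_, h2⟩, ⟨_, h1⟩), Subtype.ext (by simp [F])⟩
  have hinj : Function.Injective F := by
    haveI := Fintype.ofFinite (M × {y : G // y * y = g})
    haveI := Fintype.ofFinite {y : G // g⁻¹ * (y * y) ∈ M}
    refine ((Fintype.bijective_iff_surjective_and_card F).2 ⟨hF, ?_⟩).1
    rw [← Nat.card_eq_fintype_card, ← Nat.card_eq_fintype_card, Nat.card_prod, h.card_sqrt_coset]
  rw [mem_centralizer_iff]
  intro m hm
  have h1 : m⁻¹ * s * m * (m⁻¹ * s * m) = g := by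
    have := mem_centralizer_iff.1 hs m hm
    calc _ = m⁻¹ * (g * m) := by rw [hg]; group
      _ = g := by rw [← this]; group
  have h2 : s⁻¹ * m⁻¹ * s * m ∈ M := mul_mem (hM.conj_mem' _ (inv_mem hm) _) hm
  have h3 := hinj (a₁ := (1, ⟨_, h1⟩)) (a₂ := (⟨_, h2⟩, ⟨s, rfl⟩)) (Subtype.ext (by simp [F]; group))
  have h4 : m⁻¹ * s * m = s := congrArg (fun x => x.2.1) h3
  rw [← h4]
  nth_rw 2 [h4]
  group

theorem RealKer.comm_of_two {M : Subgroup G} [hM : M.Normal] (h : RealKer M)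
    (hodd : Odd (Nat.card M)) (k : ℕ) : ∀ s : G, s ^ 2 ^ k = 1 → s ∈ centralizer (M : Set G) := by
  induction k with
  | zero => intro s hs; rw [pow_zero, pow_one] at hs; rw [hs]; exact one_mem _
  | succ k ih =>
    intro s hs
    exact h.comm_of_sq hodd hs (ih _ (by rw [← pow_two, ← pow_mul, ← pow_succ', hs]))

theorem RealKer.genP_le {M : Subgroup G} [hM : M.Normal] (h : RealKer M)
    (hodd : Odd (Nat.card M)) : genP 2 G ≤ centralizer (M : Set G) :=
  H86.genP_le fun s ⟨k, hk⟩ => h.comm_of_two hodd k s hk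

theorem RealKer.mem_of_sq {M H : Subgroup G} [hM : M.Normal] (h : RealKer M) (hs : M ⊔ H = ⊤)
    (hi : M ⊓ H = ⊥) {t : G} (ht : t * t = 1) : t ∈ H := by
  by_contra hn
  let F : M × {y : H // y * y = 1} → {y : G // (1 : G)⁻¹ * (y * y) ∈ M} := fun x =>
    ⟨x.2.1 * x.1.1, by
      have h0 : (x.2.1 : G) * x.2.1 = 1 := congrArg Subtype.val x.2.2
      have : (1 : G)⁻¹ * (x.2.1 * x.1.1 * (x.2.1 * x.1.1)) =
          ((x.2.1 : G) * x.2.1) * ((x.2.1 : G)⁻¹ * x.1.1 * x.2.1 * x.1.1) := by group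
      rw [this, h0, one_mul]
      exact mul_mem (hM.conj_mem' _ x.1.2 _) x.1.2⟩
  have hF : Function.Surjective F := by
    rintro ⟨a, ha⟩
    have ha' : a ∈ H ⊔ M := by rw [sup_comm, hs]; trivial
    obtain ⟨y, hy, m, hm, rfl⟩ := (H2.mem_sup_iff_of_le_normalizer' le_normalizer_of_normal).1 ha'
    have h1 : y * y ∈ M ⊓ H := by
      refine mem_inf.2 ⟨?_, mul_mem hy hy⟩
      have : y * y = (1 : G)⁻¹ * (y * m * (y * m)) * (y⁻¹ * m * y * m)⁻¹ := by group
      rw [this]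
      exact mul_mem ha (inv_mem (mul_mem (hM.conj_mem' _ hm _) hm))
    rw [hi] at h1
    exact ⟨(⟨m, hm⟩, ⟨⟨y, hy⟩, Subtype.ext h1⟩), rfl⟩
  have h1 := Nat.card_le_card_of_surjective F hF
  rw [h.card_sqrt_coset, Nat.card_prod] at h1
  have h2 := Nat.le_of_mul_le_mul_left h1 Nat.card_pos
  let E : {y : H // y * y = 1} → {y : G // y * y = 1} := fun y => ⟨y.1, congrArg Subtype.val y.2⟩
  have hE : Function.Injective E := fun a b e =>
    Subtype.ext (Subtype.ext (congrArg (fun z : {y : G // y * y = 1} => z.1) e))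
  obtain ⟨y, hy⟩ := (hE.bijective_of_nat_card_le h2).2 ⟨t, ht⟩
  have h3 : (y.1 : G) = t := congrArg Subtype.val hy
  exact hn (h3 ▸ y.1.2)

/-- Real irreducible characters have degree prime to `p`. -/
def RealP (p : ℕ) (G : Type*) [Group G] : Prop :=
  ∀ χ : IrrCharacter G, (∀ g : G, ((χ : G → ℂ) g).im = 0) → ¬ p ∣ charDegree (χ : G → ℂ)

theorem RealP.quot {p : ℕ} (h : RealP p G) (N : Subgroup G) [N.Normal] : RealP p (G ⧸ N) :=
  fun χ hχ hd => h ⟨_, H87.isIrr_infl N χ.2⟩ (fun g => hχ g) hd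

theorem le_charKer_of_not_dvd {p : ℕ} [Fact p.Prime] {χ : G → ℂ} (hχ : IsIrrCharacter G χ)
    (hd : ¬ p ∣ charDegree χ) {W L M : Subgroup G} [M.Normal] [(L.subgroupOf W).Normal]
    (hL : ∀ a ∈ L, ∀ b ∈ L, a * b = b * a) (hW : ∃ k, L.relIndex W = p ^ k) (hM : M ≤ ⁅W, W⁆) :
    M ≤ H6.charKer χ := by
  haveI := Fintype.ofFinite W
  obtain ⟨ψ, hψ, hne, hnd⟩ := H87.exists_constituent_not_dvd
    (H6.isCharacter_restrict W (H6.irr_isCharacter hχ)) (d := p) (by rwa [H87.deg_res])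
  obtain ⟨k, hk⟩ := hW
  have h1 := H87.deg_dvd_index_of_comm (L.subgroupOf W)
    (fun a ha b hb => Subtype.ext (hL a ha b hb)) hψ
  rw [← relIndex, hk] at h1
  have h2 : charDegree ψ = 1 :=
    Nat.eq_one_of_dvd_coprimes (((Nat.Prime.coprime_iff_not_dvd Fact.out).2 hnd).pow_left k) h1
      dvd_rfl
  refine H87.le_charKer_of_constituent hχ (H6.irr_isCharacter hψ) hne M
    (hM.trans (commutator_le_self W)) fun x hx => ?_
  refine (H6.mem_charKer (H6.irr_isCharacter hψ)).1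
    (H87.commutator_le_charKer_of_deg_one (H6.irr_isCharacter hψ) h2 ?_)
  have := hM hx
  rw [← map_subtype_commutator] at this
  obtain ⟨y, hy, e⟩ := this
  exact (Subtype.ext e : y = x) ▸ hy

theorem mem_pCore_of_realP_aux {p : ℕ} [hp : Fact p.Prime] (n : ℕ) :
    ∀ (G : Type*) [Group G] [Finite G], Nat.card G = n → Group.IsSolvable (genP p G) → RealP p G →
      ∀ (U : Subgroup G) [U.Normal], genP 2 G ≤ U → (∀ u ∈ U, ∃ k, u ^ p ^ k ∈ genP 2 G) →
      ∀ x ∈ U, (∃ k, x ^ p ^ k = 1) → x ∈ pCore p G := by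
  induction n using Nat.strong_induction_on with
  | _ n ih =>
  intro G _ _ hn hs hr U _ hKU hU x hx hxp
  have step : ∀ (N : Subgroup G) [N.Normal], N ≠ ⊥ → ∀ y ∈ U, (∃ k, y ^ p ^ k ∈ N) →
      (y : G ⧸ N) ∈ pCore p (G ⧸ N) := by
    intro N _ hN y hy ⟨k, hk⟩
    have hsurj := QuotientGroup.mk'_surjective N
    haveI : (U.map (QuotientGroup.mk' N)).Normal := Normal.map inferInstance _ hsurj
    refine ih _ (hn ▸ H1.card_quotient_lt hN) (G ⧸ N) rfl ?_ (hr.quot N)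
      (U.map (QuotientGroup.mk' N)) ?_ ?_ _ ⟨y, hy, rfl⟩
      ⟨k, by rw [← QuotientGroup.mk_pow, QuotientGroup.eq_one_iff]; exact hk⟩
    · rw [← map_genP hsurj]
      exact solvable_of_surjective (MonoidHom.subgroupMap_surjective _ _)
    · rw [← map_genP hsurj]; exact map_mono hKU
    · rintro _ ⟨u, hu, rfl⟩
      obtain ⟨j, hj⟩ := hU u hu
      exact ⟨j, by rw [← map_genP hsurj, ← map_pow]; exact ⟨_, hj, rfl⟩⟩
  by_cases hO : pCore p G = ⊥
  swap
  · have := step _ hO x hx (hxp.imp fun k hk => by rw [hk]; exact one_mem _)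
    rw [H1.pCore_quotient_pCore, mem_bot, QuotientGroup.eq_one_iff] at this
    exact this
  by_contra hxO
  have hx1 : x ≠ 1 := fun e => hxO (e ▸ one_mem _)
  obtain ⟨kx, hkx⟩ := hxp
  obtain ⟨L, hLmin, hLle, hLc, q, hq, hqL, hLq, hLp⟩ := H3.exists_normal_elementary_le
    (genP p G ⊓ U) (fun e => hx1 (mem_bot.1 (e ▸ mem_inf.2 ⟨mem_genP hkx, hx⟩)))
    (H2.isSolvable_of_le inf_le_left hs)
  haveI := hLmin.normal
  haveI : Fact q.Prime := ⟨hq⟩
  have hLU : L ≤ U := hLle.trans inf_le_right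
  have hqp : q ≠ p := by
    rintro rfl
    exact hLmin.ne_bot (le_bot_iff.1 (hO ▸ H1.le_pCore hLp))
  have hLab : ∀ a ∈ L, ∀ b ∈ L, a * b = b * a := fun a ha b hb =>
    congrArg Subtype.val (hLc.1.1 (⟨a, ha⟩ : L) ⟨b, hb⟩)
  set W : Subgroup G := (pCore p (G ⧸ L)).comap (QuotientGroup.mk' L) ⊓ U with hW
  haveI : W.Normal := inferInstance
  have hLW : L ≤ W := le_inf (fun y hy => mem_comap.2
    (by rw [QuotientGroup.mk'_apply, (QuotientGroup.eq_one_iff y).2 hy]; exact one_mem _)) hLU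
  have hxW : x ∈ W := ⟨step L hLmin.ne_bot x hx ⟨kx, hkx ▸ one_mem _⟩, hx⟩
  have hWp : ∃ k, L.relIndex W = p ^ k := by
    rw [← H1.card_map_mk'_eq_relIndex]
    refine IsPGroup.iff_card.1 (H1.isPGroup_pCore.to_le ?_)
    rintro _ ⟨y, hy, rfl⟩
    exact hy.1
  obtain ⟨R₀⟩ := (inferInstance : Nonempty (Sylow p W))
  set R : Subgroup G := (R₀ : Subgroup W).map W.subtype with hR
  have hRp : IsPGroup p R := R₀.isPGroup'.map _
  have hRW : R ≤ W := map_subtype_le _
  have hLR : L ⊓ R = ⊥ := (IsPGroup.disjoint_of_ne q p hqp _ _ hLp hRp).eq_bot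
  have hWLR : W ≤ L ⊔ R := by
    obtain ⟨k, hk⟩ := hWp
    have h1 : L.subgroupOf W ⊔ (R₀ : Subgroup W) = ⊤ := by
      rw [← index_eq_one]
      refine Nat.eq_one_of_dvd_coprimes
        (((Nat.Prime.coprime_iff_not_dvd hp.out).2 R₀.not_dvd_index).pow_left k) ?_
        (index_dvd_of_le le_sup_right)
      rw [← hk]
      exact index_dvd_of_le le_sup_left
    intro w hw
    have h2 : (⟨w, hw⟩ : W) ∈ L.subgroupOf W ⊔ (R₀ : Subgroup W) := h1 ▸ mem_top _
    have h3 := mem_map_of_mem W.subtype h2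
    rw [Subgroup.map_sup, subgroupOf_map_subtype] at h3
    exact (sup_le_sup_right inf_le_left R : L ⊓ W ⊔ R ≤ L ⊔ R) h3
  set H := normalizer (R : Set G) with hH
  have hLH : L ⊔ H = ⊤ := by
    rw [eq_top_iff, ← Sylow.normalizer_sup_eq_top R₀]
    exact sup_le le_sup_right (hWLR.trans (sup_le_sup_left le_normalizer _))
  have hnL : ¬ L ≤ H := fun h => by
    have h1 : H = ⊤ := by rw [← hLH, sup_eq_right.2 h]
    haveI : R.Normal := normalizer_eq_top_iff.1 h1
    have h2 : R = ⊥ := le_bot_iff.1 (hO ▸ H1.le_pCore hRp)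
    rw [h2, sup_bot_eq] at hWLR
    have h3 : x ∈ L ⊓ zpowers x := ⟨hWLR hxW, mem_zpowers x⟩
    have h4 : IsPGroup p (zpowers x) := by
      obtain ⟨j, -, hj⟩ := (Nat.dvd_prime_pow hp.out).1 (orderOf_dvd_of_pow_eq_one hkx)
      exact IsPGroup.of_card (by rw [Nat.card_zpowers, hj])
    rw [(IsPGroup.disjoint_of_ne q p hqp _ _ hLp h4).eq_bot] at h3
    exact hx1 h3
  have hi : L ⊓ H = ⊥ := by
    refine (hLmin.eq_bot_or_eq _ ?_ inf_le_left).resolve_right fun e => hnL (e ▸ inf_le_right)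
    rw [← normalizer_eq_top_iff, eq_top_iff, ← hLH]
    refine sup_le (fun a ha => mem_normalizer_iff.2 fun b => ⟨fun hb => ?_, fun hb => ?_⟩)
      (H2.le_normalizer_inf le_normalizer_of_normal le_normalizer)
    · rw [hLab a ha b hb.1, mul_inv_cancel_right]; exact hb
    · have h1 : b ∈ L := by
        have := mul_mem (mul_mem (inv_mem ha) hb.1) ha
        simpa [mul_assoc] using this
      rwa [hLab a ha b h1, mul_inv_cancel_right] at hb
  have hLWW : L ≤ ⁅W, W⁆ := by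
    refine (hLmin.inf_eq_bot_or_le _).resolve_left fun e => hnL ?_
    refine le_trans ?_ (centralizer_le_normalizer _)
    rw [← commutator_eq_bot_iff_le_centralizer, eq_bot_iff, ← e]
    exact le_inf (commutator_le_left _ _) (commutator_mono hLW hRW)
  have hker : RealKer L := fun χ hχ => le_charKer_of_not_dvd χ.2 (hr χ hχ) hLab hWp hLWW
  by_cases hq2 : q = 2
  · subst hq2
    exact hnL fun a ha => hker.mem_of_sq hLH hi (by rw [← pow_two]; exact hLq a ha)
  have hodd : Odd (Nat.card L) := by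
    obtain ⟨j, hj⟩ := IsPGroup.iff_card.1 hLp
    rw [hj]; exact (hq.odd_of_ne_two hq2).pow
  have hKL := hker.genP_le hodd
  have hKH : genP 2 G ≤ H := genP_le fun s ⟨k, hk⟩ => by
    have hs' : s ∈ L ⊔ H := hLH ▸ mem_top s
    obtain ⟨a, ha, h, hh, rfl⟩ := (H2.mem_sup_iff_of_le_normalizer le_normalizer_of_normal).1 hs'
    have h1 : Commute a h := by
      have := mem_centralizer_iff.1 (hKL (mem_genP hk)) a ha
      rw [mul_assoc] at this
      exact mul_left_cancel this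
    rw [h1.mul_pow] at hk
    have h2 : a ^ 2 ^ k ∈ L ⊓ H := mem_inf.2 ⟨pow_mem ha _, by
      rw [eq_inv_of_mul_eq_one_left hk]; exact inv_mem (pow_mem hh _)⟩
    rw [hi, mem_bot] at h2
    have h3 : a = 1 := by
      rw [← orderOf_eq_one_iff]
      exact Nat.eq_one_of_dvd_coprimes ((Nat.coprime_two_left.2 hodd).pow_left k)
        (orderOf_dvd_of_pow_eq_one h2) (H1.orderOf_dvd_card_of_mem ha)
    rw [h3, one_mul]; exact hh
  refine hnL (le_trans (fun a ha => ?_) hKH)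
  obtain ⟨j, hj⟩ := hU a (hLU ha)
  obtain ⟨m, hm⟩ := exists_pow_eq_self_of_coprime (x := a) (n := p ^ j)
    ((((Nat.coprime_primes hp.out hq).2 hqp.symm).pow_left j).coprime_dvd_right
      (orderOf_dvd_of_pow_eq_one (hLq a ha)))
  exact hm ▸ pow_mem hj m

theorem mem_pCore_of_realP {p : ℕ} [hp : Fact p.Prime] (hs : Group.IsSolvable (genP p G))
    (hr : RealP p G) (U : Subgroup G) [U.Normal] (hKU : genP 2 G ≤ U)
    (hU : ∀ u ∈ U, ∃ k, u ^ p ^ k ∈ genP 2 G) {x : G} (hx : x ∈ U) (hxp : ∃ k, x ^ p ^ k = 1) :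
    x ∈ pCore p G :=
  mem_pCore_of_realP_aux _ G rfl hs hr U hKU hU x hx hxp

theorem sylow_normal_of_realP {p : ℕ} [hp : Fact p.Prime] (hs : Group.IsSolvable (genP p G))
    (hr : RealP p G) (U : Subgroup G) [U.Normal] (hKU : genP 2 G ≤ U)
    (hU : ∀ u ∈ U, ∃ k, u ^ p ^ k ∈ genP 2 G) (Q : Sylow p U) : (Q : Subgroup U).Normal := by
  have h1 : (Q : Subgroup U) ≤ (pCore p G).subgroupOf U := fun x hx => by
    obtain ⟨k, hk⟩ := Q.isPGroup' ⟨x, hx⟩
    exact mem_pCore_of_realP hs hr U hKU hU x.2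
      ⟨k, congrArg (fun y : Q => ((y : U) : G)) hk⟩
  rw [← Q.is_maximal' (H1.isPGroup_pCore.comap_subtype) h1]
  infer_instance

end H86
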