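import Mathlib
import Cfsg.Agent.Lib.Blk86.Real
import Cfsg.Agent.Lib.Glaub.Relative

/-!
Real characters of `p'`-degree: the correspondence with the Sylow normalizer.
-/

set_option autoImplicit false
set_option linter.style.haveILetI false
set_option linter.unusedSectionVars false

namespace H86

open Cfsg Subgroup ComplexConjugate

variable {G : Type*} [Group G] [Finite G]

section odd

variable {N : Subgroup G} [hN : N.Normal]

theorem isReal_of_over (hodd : Odd N.index) {χ : G → ℂ} (hχ : IsIrrCharacter G χ)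
    (hr : H87.IsReal χ) {θ : N → ℂ} (hθ : IsIrrCharacter N θ) (h : H87.Over N χ θ) :
    H87.IsReal θ := by
  haveI := Fintype.ofFinite G
  haveI := Fintype.ofFinite N
  have h1 : H87.Over N χ (fun n => conj (θ n)) := by
    rw [H87.over_iff] at h ⊢
    have e : (fun n : N => χ n) = fun n : N => conj (χ n) :=
      funext fun n => (H87.isReal_iff_conj.1 hr n).symm
    rw [e, H6.classInner_conj_conj]
    exact fun e => h (H6.classInner_eq_zero_comm.1 e)
  obtain ⟨g, hg⟩ := h.exists_conj h1 hχ hθ (H6.isIrrCharacter_conj hθ)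
  have h2 : g * g ∈ H7.inertia θ := by
    rw [H7.mem_inertia, H7.conjChar_mul, ← hg, H7.conjChar_conj, ← hg]
    funext n
    exact Complex.conj_conj _
  obtain ⟨k, hk⟩ := hodd
  have h3 : g ^ N.index ∈ H7.inertia θ :=
    H7.le_inertia (H6.irr_isClassFunction hθ) (N.pow_index_mem g)
  rw [hk, pow_succ, pow_mul, pow_two] at h3
  have h4 := ((H7.inertia θ).mul_mem_cancel_left (pow_mem h2 k)).1 h3
  rw [H87.isReal_iff_conj_eq, hg, H7.mem_inertia.1 h4]

theorem exists_real_over (hodd : Odd N.index) {θ : N → ℂ} (hθ : IsIrrCharacter N θ)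
    (hr : H87.IsReal θ) : ∃ χ : IrrCharacter G, H87.Over N χ θ ∧ H87.IsReal (χ : G → ℂ) := by
  classical
  haveI := Fintype.ofFinite G
  obtain ⟨χ, hχ⟩ := Finset.card_eq_one.1 (H87.card_real_over_of_odd hodd hθ hr)
  have := Finset.mem_singleton_self χ
  rw [← hχ, Finset.mem_filter] at this
  exact ⟨χ, this.2⟩

theorem real_over_unique (hodd : Odd N.index) {θ : N → ℂ} (hθ : IsIrrCharacter N θ)
    {χ ψ : IrrCharacter G} (h1 : H87.Over N χ θ) (h2 : H87.Over N ψ θ)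
    (hχ : H87.IsReal (χ : G → ℂ)) (hψ : H87.IsReal (ψ : G → ℂ)) : χ = ψ := by
  classical
  haveI := Fintype.ofFinite G
  exact Finset.card_le_one.1
    (H87.card_real_over_of_odd hodd hθ (isReal_of_over hodd χ.2 hχ hθ h1)).le
    χ (Finset.mem_filter.2 ⟨Finset.mem_univ _, h1, hχ⟩)
    ψ (Finset.mem_filter.2 ⟨Finset.mem_univ _, h2, hψ⟩)

theorem deg_real_over (hodd : Odd N.index) {θ : N → ℂ} (hθ : IsIrrCharacter N θ)
    {χ : IrrCharacter G} (h : H87.Over N χ θ) (hχ : H87.IsReal (χ : G → ℂ)) :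
    charDegree (χ : G → ℂ) = (H7.inertia θ).index * charDegree θ := by
  classical
  haveI := Fintype.ofFinite G
  haveI := Fintype.ofFinite N
  have h1 := H87.nu_indFun_of_odd hodd θ
  rw [H87.nu_eq_sum_inner (H7.isClassFunction_indFun N _), Finset.sum_eq_single χ,
    H7.inner_indFun_eq_inner_res N (H6.irr_isGen hθ) (H6.irr_isGen χ.2)] at h1
  · obtain ⟨e, he⟩ := H6.char_inner_nat (H6.isCharacter_restrict N (H6.irr_isCharacter χ.2))
      (H6.irr_isCharacter hθ)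
    have h2 := H7.clifford_degree χ.2 hθ (H87.over_iff.1 h)
    rw [he] at h1 h2
    have h3 : (e : ℂ) ^ 2 = 1 := by
      have a1 : H87.nu (χ : G → ℂ) ^ 2 = 1 := by
        rcases H87.nu_of_isReal χ.2 hχ with a | a <;> rw [a] <;> norm_num
      have a2 : H87.nu θ ^ 2 = 1 := by
        rcases H87.nu_of_isReal hθ (isReal_of_over hodd χ.2 hχ hθ h) with a | a <;> rw [a] <;>
          norm_num
      rw [← h1, mul_pow, a1, mul_one] at a2
      exact a2
    have h4 : e = 1 := by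
      have : e ^ 2 = 1 := by exact_mod_cast h3
      exact (Nat.pow_eq_one.1 this).resolve_right (by norm_num)
    rw [h4, ← H87.irr_deg_cast χ.2, ← H87.irr_deg_cast hθ] at h2
    rw [Nat.cast_one, one_mul] at h2
    exact_mod_cast h2
  · intro ψ _ hne
    by_cases hr' : H87.IsReal (ψ : G → ℂ)
    · rw [mul_eq_zero]; left
      by_contra h'
      exact hne (real_over_unique hodd hθ
        (H87.over_of_inner_indFun (H6.irr_isClassFunction ψ.2) h') h hr' hχ)
    · rw [H87.nu_eq_zero_of_not_isReal ψ.2 hr', mul_zero]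
  · simp

end odd

section sylow

variable {p : ℕ} [hp : Fact p.Prime]

theorem exists_conj_sylow_le (P : Sylow p G) {T : Subgroup G} (hT : ¬ p ∣ T.index) :
    ∃ g : G, ∀ x ∈ (P : Subgroup G), g * x * g⁻¹ ∈ T := by
  obtain ⟨S⟩ := (inferInstance : Nonempty (Sylow p T))
  have hS : IsPGroup p ((S : Subgroup T).map T.subtype) := S.isPGroup'.map _
  have hi : ¬ p ∣ ((S : Subgroup T).map T.subtype).index := by
    rw [index_map_subtype]
    exact fun h => (hp.out.dvd_mul.1 h).elim S.not_dvd_index hT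
  obtain ⟨g, hg⟩ := MulAction.exists_smul_eq G P (hS.toSylow hi)
  refine ⟨g, fun x hx => map_subtype_le (S : Subgroup T) ?_⟩
  have : g * x * g⁻¹ ∈ ((g • P : Sylow p G) : Subgroup G) := H1.conj_mem_conj_smul hx
  rw [hg] at this
  exact this

theorem exists_mul_mem_normalizer (P : Sylow p G) {T : Subgroup G} (h1 : (P : Subgroup G) ≤ T)
    {g : G} (h2 : ∀ x ∈ (P : Subgroup G), g * x * g⁻¹ ∈ T) :
    ∃ t ∈ T, t * g ∈ normalizer ((P : Subgroup G) : Set G) := by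
  have h3 : ((g • P : Sylow p G) : Subgroup G) ≤ T := by
    rintro _ ⟨x, hx, rfl⟩
    exact h2 x hx
  obtain ⟨t, ht⟩ := MulAction.exists_smul_eq T ((g • P).subtype h3) (P.subtype h1)
  rw [Sylow.smul_subtype] at ht
  refine ⟨t, t.2, Sylow.smul_eq_iff_mem_normalizer.1 ?_⟩
  rw [mul_smul]
  exact Sylow.subtype_injective ht

theorem index_modEq_relIndex (P : Sylow p G) {T : Subgroup G} (h1 : (P : Subgroup G) ≤ T) :
    T.index ≡ T.relIndex (normalizer ((P : Subgroup G) : Set G)) [MOD p] := by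
  set N := normalizer ((P : Subgroup G) : Set G) with hN
  have a1 : N.index ≡ 1 [MOD p] := by
    have := card_sylow_modEq_one p G
    rwa [P.card_eq_index_normalizer] at this
  have a2 : N.relIndex T ≡ 1 [MOD p] := by
    have := card_sylow_modEq_one p T
    rw [(P.subtype h1).card_eq_index_normalizer] at this
    have e : normalizer ((P.subtype h1 : Sylow p T) : Set T) = N.subgroupOf T :=
      (subgroupOf_normalizer_eq h1).symm
    rwa [e] at this
  have a3 : N.relIndex T * T.index = T.relIndex N * N.index := by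
    rw [← inf_relIndex_right N T, relIndex_mul_index inf_le_right, ← inf_relIndex_right T N,
      relIndex_mul_index inf_le_right, inf_comm]
  calc T.index = 1 * T.index := (one_mul _).symm
    _ ≡ N.relIndex T * T.index [MOD p] := a2.symm.mul_right _
    _ = T.relIndex N * N.index := a3
    _ ≡ T.relIndex N * 1 [MOD p] := a1.mul_left _
    _ = _ := mul_one _

theorem not_dvd_relIndex_of_normal (P : Sylow p G) (K : Subgroup G) [K.Normal] :
    ¬ p ∣ (P : Subgroup G).relIndex K := by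
  have a1 := H1.card_sup_mul_card_inf_of_normal (P : Subgroup G) K
  rw [← H1.card_mul_relIndex_of_le (le_sup_left : (P : Subgroup G) ≤ (P : Subgroup G) ⊔ K),
    ← H1.card_inf_mul_relIndex (P : Subgroup G) K, mul_assoc, mul_comm (relIndex _ _)] at a1
  have a2 := Nat.eq_of_mul_eq_mul_left Nat.card_pos (Nat.eq_of_mul_eq_mul_left Nat.card_pos a1)
  rw [← a2]
  exact fun h => P.not_dvd_index (h.trans (relIndex_dvd_index_of_le le_sup_left))

end sylow

section corr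

variable {p : ℕ} [hp : Fact p.Prime]

/-- The correspondence between invariant characters of `K` and of `K ⊓ N_G(P)`. -/
structure CorrData (P : Sylow p G) (K : Subgroup G) [K.Normal]
    (C : IrrCharacter K →
      IrrCharacter (K.subgroupOf (normalizer ((P : Subgroup G) : Set G))) → Prop) : Prop where
  left_inv : ∀ θ ξ, C θ ξ → (P : Subgroup G) ≤ H7.inertia θ.1
  right_inv : ∀ θ ξ, C θ ξ → (P : Subgroup G).subgroupOf _ ≤ H7.inertia ξ.1
  ex_right : ∀ θ, (P : Subgroup G) ≤ H7.inertia θ.1 → ∃ ξ, C θ ξ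
  ex_left : ∀ ξ, (P : Subgroup G).subgroupOf _ ≤ H7.inertia ξ.1 → ∃ θ, C θ ξ
  uniq_right : ∀ θ ξ ζ, C θ ξ → C θ ζ → ξ = ζ
  uniq_left : ∀ θ η ξ, C θ ξ → C η ξ → θ = η
  cnj : ∀ θ ξ (n : normalizer ((P : Subgroup G) : Set G)), C θ ξ →
    C ⟨_, H7.isIrr_conjChar (n : G) θ.2⟩ ⟨_, H7.isIrr_conjChar n ξ.2⟩
  bar : ∀ θ ξ, C θ ξ → C ⟨_, H6.isIrrCharacter_conj θ.2⟩ ⟨_, H6.isIrrCharacter_conj ξ.2⟩
  deg : ∀ θ ξ, C θ ξ → (charDegree ξ.1 : ZMod p) = charDegree θ.1 ∨
    (charDegree ξ.1 : ZMod p) = - charDegree θ.1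

theorem exists_corrData (P : Sylow p G) (K : Subgroup G) [K.Normal]
    (hQ : ((P : Subgroup G) ⊓ K).Normal) : ∃ C, CorrData P K C := by
  classical
  set N := normalizer ((P : Subgroup G) : Set G) with hN
  have hPN : (P : Subgroup G) ≤ N := le_normalizer
  haveI := Fintype.ofFinite K
  haveI := Fintype.ofFinite (K.subgroupOf N)
  letI : MulDistribMulAction P K := MulDistribMulAction.compHom K
    ((MulAut.conjNormal : G →* MulAut K).comp (P : Subgroup G).subtype)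
  letI : MulDistribMulAction P (K.subgroupOf N) := MulDistribMulAction.compHom (K.subgroupOf N)
    ((MulAut.conjNormal : N →* MulAut (K.subgroupOf N)).comp (inclusion hPN))
  haveI : ((P : Subgroup G).subgroupOf K).Normal := by
    rw [← inf_subgroupOf_right]; infer_instance
  have h : H88.RelSetup p P ((P : Subgroup G).subgroupOf K) (H7.subgroupOfHom K N) := by
    refine ⟨P.isPGroup', P.isPGroup'.comap_subtype, ?_, ?_, ?_, fun _ _ => rfl, fun k => ⟨?_, ?_⟩⟩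
    · exact not_dvd_relIndex_of_normal P K
    · intro a k hk
      exact mul_mem (mul_mem a.2 hk) (inv_mem a.2)
    · intro a b e
      exact Subtype.ext (Subtype.ext (congrArg (fun z : K => (z : G)) e))
    · rintro ⟨d, rfl⟩ a
      have : ((d : N) : G) * (a : G)⁻¹ * ((d : N) : G)⁻¹ ∈ (P : Subgroup G) :=
        (mem_normalizer_iff.1 (d : N).2 _).1 (inv_mem a.2)
      have h2 := mul_mem a.2 this
      simp only [← mul_assoc] at h2
      exact h2
    · intro hk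
      refine ⟨⟨⟨k, mem_normalizer_fintype fun x hx => ?_⟩, k.2⟩, rfl⟩
      have h1 : x⁻¹ * (k : G) * x⁻¹⁻¹ * (k : G)⁻¹ ∈ (P : Subgroup G) := hk ⟨x⁻¹, inv_mem hx⟩
      have h2 := mul_mem (show x ∈ (P : Subgroup G) from hx) h1
      rw [show x * (x⁻¹ * (k : G) * x⁻¹⁻¹ * (k : G)⁻¹) = k * x * (k : G)⁻¹ by group] at h2
      exact h2
  have iK : ∀ θ : K → ℂ, H88.Inv P θ ↔ (P : Subgroup G) ≤ H7.inertia θ := fun θ =>
    ⟨fun h x hx => H7.mem_inertia'.2 fun n => h ⟨x, hx⟩ n, fun h a n => H7.mem_inertia'.1 (h a.2) n⟩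
  have iD : ∀ ξ : K.subgroupOf N → ℂ, H88.Inv P ξ ↔
      (P : Subgroup G).subgroupOf N ≤ H7.inertia ξ := fun ξ =>
    ⟨fun h x hx => H7.mem_inertia'.2 fun n => h ⟨x, hx⟩ n,
      fun h a n => H7.mem_inertia'.1 (h (show inclusion hPN a ∈ _ from a.2)) n⟩
  refine ⟨fun θ ξ => (P : Subgroup G) ≤ H7.inertia θ.1 ∧
    (P : Subgroup G).subgroupOf N ≤ H7.inertia ξ.1 ∧
    ¬ p ∣ H88.mult (fun d => θ.1 (H7.subgroupOfHom K N d)) ξ.1, fun _ _ h => h.1,
    fun _ _ h => h.2.1, fun θ hθ => ?_, fun ξ hξ => ?_, fun θ ξ ζ h1 h2 => ?_,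
    fun θ η ξ h1 h2 => ?_, fun θ ξ n h1 => ⟨?_, ?_, ?_⟩, fun θ ξ h1 => ⟨?_, ?_, ?_⟩,
    fun θ ξ h1 => ?_⟩
  · obtain ⟨ξ, a, b⟩ := h.exists_corr_right θ ((iK _).2 hθ)
    exact ⟨ξ, hθ, (iD _).1 a, b⟩
  · obtain ⟨θ, a, b⟩ := h.exists_corr_left ξ ((iD _).2 hξ)
    exact ⟨θ, (iK _).1 a, hξ, b⟩
  · exact h.corr_unique_right θ ((iK _).2 h1.1) ξ ζ ((iD _).2 h1.2.1) ((iD _).2 h2.2.1) h1.2.2
      h2.2.2
  · exact h.corr_unique_left θ η ((iK _).2 h1.1) ((iK _).2 h2.1) ξ ((iD _).2 h1.2.1) h1.2.2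
      h2.2.2
  · exact fun x hx => H7.mem_inertia_conjChar.2 (h1.1 ((mem_normalizer_iff.1 n.2 _).1 hx))
  · exact fun x hx => H7.mem_inertia_conjChar.2
      (h1.2.1 (mem_subgroupOf.2 ((mem_normalizer_iff.1 n.2 _).1 hx)))
  · have : H88.mult (fun d => H7.conjChar (n : G) θ.1 (H7.subgroupOfHom K N d))
        (H7.conjChar n ξ.1) = H88.mult (fun d => θ.1 (H7.subgroupOfHom K N d)) ξ.1 := by
      unfold H88.mult
      rw [← H7.classInner_conjChar n (fun d => θ.1 (H7.subgroupOfHom K N d)) ξ.1]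
      rfl
    exact fun e => h1.2.2 (this ▸ e)
  · intro x hx
    rw [H7.mem_inertia]
    exact (H7.conjChar_conj x θ.1).trans (by rw [H7.mem_inertia.1 (h1.1 hx)])
  · intro x hx
    rw [H7.mem_inertia]
    exact (H7.conjChar_conj x ξ.1).trans (by rw [H7.mem_inertia.1 (h1.2.1 hx)])
  · have : H88.mult (fun d => conj (θ.1 (H7.subgroupOfHom K N d))) (fun d => conj (ξ.1 d)) =
        H88.mult (fun d => θ.1 (H7.subgroupOfHom K N d)) ξ.1 := by
      rw [H88.mult_comm (H6.isCharacter_comp _ (H6.irr_isCharacter θ.2)) (H6.irr_isCharacter ξ.2)]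
      unfold H88.mult
      rw [H6.classInner_conj_conj]
    exact fun e => h1.2.2 (this ▸ e)
  · have a1 := h.degree θ ((iK _).2 h1.1) ξ ((iD _).2 h1.2.1) h1.2.2
    have a2 := h.corr_sq θ ((iK _).2 h1.1) ξ ((iD _).2 h1.2.1) h1.2.2
    rw [← H87.irr_deg_cast θ.2, ← H87.irr_deg_cast ξ.2, ← Nat.cast_mul] at a1
    have a3 := (ZMod.natCast_eq_natCast_iff _ _ _).2 a1.modEq
    rw [a3, Nat.cast_mul]
    rcases a2 with a2 | a2
    · left
      have := (ZMod.intCast_eq_intCast_iff _ _ _).2 a2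
      rw [Int.cast_natCast, Int.cast_one] at this
      rw [this, one_mul]
    · right
      have := (ZMod.intCast_eq_intCast_iff _ _ _).2 a2
      rw [Int.cast_natCast, Int.cast_neg, Int.cast_one] at this
      rw [this]; ring

theorem exists_real_bij (P : Sylow p G) (K : Subgroup G) [K.Normal] (hodd : Odd K.index)
    (hQ : ((P : Subgroup G) ⊓ K).Normal) (hr : RealP p G) :
    ∃ f : {χ : IrrCharacter G // ∀ g : G, ((χ : G → ℂ) g).im = 0} →
      {ξ : IrrCharacter (normalizer ((P : Subgroup G) : Set G)) //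
        (∀ n, (ξ.1 n).im = 0) ∧ ¬ p ∣ charDegree ξ.1},
      Function.Bijective f ∧ ∀ χ, ((charDegree (f χ).1.1 : ZMod p) = charDegree χ.1.1 ∨
        (charDegree (f χ).1.1 : ZMod p) = - charDegree χ.1.1) := by
  obtain ⟨C, hC⟩ := exists_corrData P K hQ
  let N := normalizer ((P : Subgroup G) : Set G)
  have hPN : (P : Subgroup G) ≤ N := le_normalizer
  haveI := Fintype.ofFinite G
  haveI := Fintype.ofFinite K
  haveI := Fintype.ofFinite N
  haveI := Fintype.ofFinite (K.subgroupOf N)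
  have hoddD : Odd (K.subgroupOf N).index :=
    hodd.of_dvd_nat (relIndex_dvd_index_of_normal K N)
  let R : IrrCharacter G → IrrCharacter N → Prop := fun χ ψ =>
    ∃ θ ξ, C θ ξ ∧ H87.Over K χ.1 θ.1 ∧ H87.Over (K.subgroupOf N) ψ.1 ξ.1
  have real_r : ∀ θ ξ, C θ ξ → H87.IsReal θ.1 → H87.IsReal ξ.1 := fun θ ξ h hθ => by
    have h1 := hC.bar θ ξ h
    rw [show (⟨_, H6.isIrrCharacter_conj θ.2⟩ : IrrCharacter K) = θ from
      Subtype.ext (H87.isReal_iff_conj_eq.1 hθ)] at h1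
    exact H87.isReal_iff_conj_eq.2 (congrArg Subtype.val (hC.uniq_right _ _ _ h1 h))
  have real_l : ∀ θ ξ, C θ ξ → H87.IsReal ξ.1 → H87.IsReal θ.1 := fun θ ξ h hξ => by
    have h1 := hC.bar θ ξ h
    rw [show (⟨_, H6.isIrrCharacter_conj ξ.2⟩ : IrrCharacter (K.subgroupOf N)) = ξ from
      Subtype.ext (H87.isReal_iff_conj_eq.1 hξ)] at h1
    exact H87.isReal_iff_conj_eq.2 (congrArg Subtype.val (hC.uniq_left _ _ _ h1 h))
  have hdeg : ∀ χ ψ, R χ ψ → H87.IsReal χ.1 → H87.IsReal ψ.1 →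
      ((charDegree ψ.1 : ZMod p) = charDegree χ.1 ∨
        (charDegree ψ.1 : ZMod p) = - charDegree χ.1) := by
    rintro χ ψ ⟨θ, ξ, h, h1, h2⟩ hχ hψ
    have e : H7.inertia ξ.1 = (H7.inertia θ.1).subgroupOf N := by
      ext n
      rw [mem_subgroupOf, H7.mem_inertia, H7.mem_inertia]
      have h3 := hC.cnj θ ξ n h
      constructor
      · intro e
        rw [show (⟨_, H7.isIrr_conjChar n ξ.2⟩ : IrrCharacter (K.subgroupOf N)) = ξ from
          Subtype.ext e] at h3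
        exact congrArg Subtype.val (hC.uniq_left _ _ _ h3 h)
      · intro e
        rw [show (⟨_, H7.isIrr_conjChar (n : G) θ.2⟩ : IrrCharacter K) = θ from
          Subtype.ext e] at h3
        exact congrArg Subtype.val (hC.uniq_right _ _ _ h3 h)
    have a1 := (ZMod.natCast_eq_natCast_iff _ _ _).2 (index_modEq_relIndex P (hC.left_inv _ _ h))
    rw [deg_real_over hodd θ.2 h1 hχ, deg_real_over hoddD ξ.2 h2 hψ, e, Nat.cast_mul,
      Nat.cast_mul, a1]
    rcases hC.deg θ ξ h with a | a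
    · left; rw [a]; rfl
    · right; rw [a, mul_neg]; rfl
  have ex_r : ∀ χ : IrrCharacter G, H87.IsReal χ.1 → ∃ ψ, R χ ψ ∧ H87.IsReal ψ.1 := by
    intro χ hχ
    obtain ⟨θ, hθ, h1⟩ := H87.exists_under χ.2 K
    obtain ⟨g, hg⟩ := exists_conj_sylow_le P (T := H7.inertia θ) fun h =>
      hr χ hχ (h.trans ((dvd_mul_right _ _).trans (h1.index_inertia_mul_dvd χ.2 hθ)))
    have h2 := h1.conjChar (H6.irr_isClassFunction χ.2) g
    obtain ⟨ξ, h3⟩ := hC.ex_right ⟨_, H7.isIrr_conjChar g hθ⟩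
      fun x hx => H7.mem_inertia_conjChar.2 (hg x hx)
    obtain ⟨ψ, h4, h5⟩ := exists_real_over hoddD ξ.2
      (real_r _ _ h3 (isReal_of_over hodd χ.2 hχ (H7.isIrr_conjChar g hθ) h2))
    exact ⟨ψ, ⟨_, ξ, h3, h2, h4⟩, h5⟩
  have ex_l : ∀ ψ : IrrCharacter N, H87.IsReal ψ.1 → ¬ p ∣ charDegree ψ.1 →
      ∃ χ, R χ ψ ∧ H87.IsReal χ.1 := by
    intro ψ hψ hd
    obtain ⟨ξ, hξ, h1⟩ := H87.exists_under ψ.2 (K.subgroupOf N)
    obtain ⟨g, hg⟩ := exists_conj_sylow_le (P.subtype hPN) (T := H7.inertia ξ) fun h =>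
      hd (h.trans ((dvd_mul_right _ _).trans (h1.index_inertia_mul_dvd ψ.2 hξ)))
    have h2 := h1.conjChar (H6.irr_isClassFunction ψ.2) g
    obtain ⟨θ, h3⟩ := hC.ex_left ⟨_, H7.isIrr_conjChar g hξ⟩
      fun x hx => H7.mem_inertia_conjChar.2 (hg x hx)
    obtain ⟨χ, h4, h5⟩ := exists_real_over hodd θ.2
      (real_l _ _ h3 (isReal_of_over hoddD ψ.2 hψ (H7.isIrr_conjChar g hξ) h2))
    exact ⟨χ, ⟨θ, _, h3, h4, h2⟩, h5⟩
  have un_r : ∀ χ ψ ψ', R χ ψ → R χ ψ' → H87.IsReal ψ.1 → H87.IsReal ψ'.1 → ψ = ψ' := by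
    rintro χ ψ ψ' ⟨θ, ξ, h, h1, h2⟩ ⟨θ', ξ', h', h1', h2'⟩ hψ hψ'
    obtain ⟨g, hg⟩ := h1.exists_conj h1' χ.2 θ.2 θ'.2
    obtain ⟨t, ht, htg⟩ := exists_mul_mem_normalizer P (hC.left_inv _ _ h) (g := g)
      fun x hx => H7.mem_inertia_conjChar.1 (hg ▸ hC.left_inv _ _ h' hx)
    have h3 := hC.cnj θ ξ ⟨_, htg⟩ h
    rw [show (⟨_, H7.isIrr_conjChar ((⟨_, htg⟩ : N) : G) θ.2⟩ : IrrCharacter K) = θ' from
      Subtype.ext (by rw [hg]; exact (H7.conjChar_mul t g θ.1).trans (by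
        rw [H7.mem_inertia.1 ht]))] at h3
    have h4 := hC.uniq_right _ _ _ h3 h'
    have h5 := h2.conjChar (H6.irr_isClassFunction ψ.2) ⟨_, htg⟩
    rw [← h4] at h2'
    exact real_over_unique hoddD (H7.isIrr_conjChar _ ξ.2) h5 h2' hψ hψ'
  have un_l : ∀ χ χ' ψ, R χ ψ → R χ' ψ → H87.IsReal χ.1 → H87.IsReal χ'.1 → χ = χ' := by
    rintro χ χ' ψ ⟨θ, ξ, h, h1, h2⟩ ⟨θ', ξ', h', h1', h2'⟩ hχ hχ'
    obtain ⟨n, hn⟩ := h2.exists_conj h2' ψ.2 ξ.2 ξ'.2
    have h3 := hC.cnj θ ξ n h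
    rw [show (⟨_, H7.isIrr_conjChar n ξ.2⟩ : IrrCharacter (K.subgroupOf N)) = ξ' from
      Subtype.ext hn.symm] at h3
    have h4 := hC.uniq_left _ _ _ h3 h'
    have h5 := h1.conjChar (H6.irr_isClassFunction χ.2) (n : G)
    rw [← h4] at h1'
    exact real_over_unique hodd (H7.isIrr_conjChar _ θ.2) h5 h1' hχ hχ'
  choose f hf1 hf2 using ex_r
  have hnd : ∀ χ : {χ : IrrCharacter G // ∀ g : G, ((χ : G → ℂ) g).im = 0},
      ¬ p ∣ charDegree (f χ.1 χ.2).1 := fun χ h => by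
    have h1 := (ZMod.natCast_eq_zero_iff _ _).2 h
    refine hr χ.1 χ.2 ((ZMod.natCast_eq_zero_iff _ _).1 ?_)
    rcases hdeg _ _ (hf1 χ.1 χ.2) χ.2 (hf2 χ.1 χ.2) with a | a
    · rw [← a, h1]
    · rw [← neg_eq_zero, ← a, h1]
  refine ⟨fun χ => ⟨f χ.1 χ.2, hf2 _ _, hnd χ⟩, ⟨fun χ χ' e => ?_, fun ψ => ?_⟩,
    fun χ => hdeg _ _ (hf1 χ.1 χ.2) χ.2 (hf2 χ.1 χ.2)⟩
  · have e' : f χ.1 χ.2 = f χ'.1 χ'.2 := congrArg Subtype.val e
    exact Subtype.ext (un_l _ _ _ (hf1 χ.1 χ.2) (e' ▸ hf1 χ'.1 χ'.2) χ.2 χ'.2)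
  · obtain ⟨χ, h1, h2⟩ := ex_l ψ.1 ψ.2.1 ψ.2.2
    exact ⟨⟨χ, h2⟩, Subtype.ext (un_r _ _ _ (hf1 χ h2) h1 (hf2 χ h2) ψ.2.1)⟩

theorem inf_genP_eq (P : Sylow p G) (hs : Group.IsSolvable (genP p G)) (hr : RealP p G) :
    (P : Subgroup G) ⊓ genP 2 G = pCore p G ⊓ genP 2 G := by
  refine le_antisymm (fun x hx => ⟨?_, hx.2⟩) (inf_le_inf_right _ (H1.pCore_le_sylow P))
  obtain ⟨k, hk⟩ := P.isPGroup' ⟨x, hx.1⟩
  exact mem_pCore_of_realP hs hr (genP 2 G) le_rfl (fun u hu => ⟨0, by simpa using hu⟩) hx.2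
    ⟨k, congrArg Subtype.val hk⟩

theorem inf_genP_normal (P : Sylow p G) (hs : Group.IsSolvable (genP p G)) (hr : RealP p G) :
    ((P : Subgroup G) ⊓ genP 2 G).Normal := by
  rw [inf_genP_eq P hs hr]; infer_instance

theorem exists_conj_mem_normalizer_of_inf (P : Sylow p G) (K : Subgroup G) [K.Normal]
    (hodd : Odd K.index) (hQ : (P : Subgroup G) ⊓ K = ⊥) (hr : RealP p G) {x : G}
    (hx : IsConj x x⁻¹) : ∃ y ∈ normalizer ((P : Subgroup G) : Set G), IsConj x y := by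
  obtain ⟨f, hf, -⟩ := exists_real_bij P K hodd (by rw [hQ]; infer_instance) hr
  let N := normalizer ((P : Subgroup G) : Set G)
  haveI := Fintype.ofFinite G
  haveI := Fintype.ofFinite N
  have hcen : ∀ y : N, IsConj y y⁻¹ → (y : G) ∈ centralizer ((P : Subgroup G) : Set G) := by
    intro y hy
    have h1 : (y : G) ∈ K := by
      rw [← QuotientGroup.eq_one_iff]
      exact H87.eq_one_of_isConj_inv_of_odd hodd
        (((QuotientGroup.mk' K).comp N.subtype).map_isConj hy)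
    refine mem_centralizer_iff.2 fun a ha => ?_
    have h2 : a * y * a⁻¹ * (y : G)⁻¹ ∈ (P : Subgroup G) ⊓ K := by
      refine mem_inf.2 ⟨?_, mul_mem (Normal.conj_mem inferInstance _ h1 a) (inv_mem h1)⟩
      have := mul_mem ha ((mem_normalizer_iff.1 y.2 _).1 (inv_mem ha))
      simpa only [mul_assoc] using this
    rw [hQ, mem_bot, mul_inv_eq_one, mul_inv_eq_iff_eq_mul] at h2
    exact h2
  let F : {C : ConjClasses N // ∀ g : N, ConjClasses.mk g = C → IsConj g g⁻¹} →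
      {C : ConjClasses G // ∀ g : G, ConjClasses.mk g = C → IsConj g g⁻¹} := fun C =>
    ⟨ConjClasses.map N.subtype C.1, by
      obtain ⟨C, hC⟩ := C
      obtain ⟨y, rfl⟩ := ConjClasses.mk_surjective C
      intro g hg
      have h1 : IsConj g (y : G) := ConjClasses.mk_eq_mk_iff_isConj.1 hg
      have h2 : IsConj (y : G) (y : G)⁻¹ := N.subtype.map_isConj (hC y rfl)
      obtain ⟨c, hc⟩ := isConj_iff.1 h1
      exact h1.trans (h2.trans (isConj_iff.2 ⟨c⁻¹, by rw [← hc]; group⟩))⟩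
  have hF : Function.Injective F := by
    rintro ⟨C, hC⟩ ⟨D, hD⟩ e
    obtain ⟨y, rfl⟩ := ConjClasses.mk_surjective C
    obtain ⟨z, rfl⟩ := ConjClasses.mk_surjective D
    have h1 : IsConj (y : G) (z : G) := ConjClasses.mk_eq_mk_iff_isConj.1 (congrArg Subtype.val e)
    obtain ⟨c, hc⟩ := isConj_iff.1 h1
    have hc' : c⁻¹⁻¹ * (y : G) * c⁻¹ = z := by rw [inv_inv, hc]
    obtain ⟨n, hn, hn'⟩ := P.conj_eq_normalizer_conj_of_mem_centralizer y c⁻¹ (hcen y (hC y rfl))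
      (hc' ▸ hcen z (hD z rfl))
    refine Subtype.ext (ConjClasses.mk_eq_mk_iff_isConj.2 (isConj_iff.2 ⟨(⟨n, hn⟩ : N)⁻¹, ?_⟩))
    exact Subtype.ext (by rw [← hc', hn']; simp)
  have hcard : Nat.card {C : ConjClasses G // ∀ g : G, ConjClasses.mk g = C → IsConj g g⁻¹} ≤
      Nat.card {C : ConjClasses N // ∀ g : N, ConjClasses.mk g = C → IsConj g g⁻¹} := by
    rw [← H87.card_real_irr_eq, ← H87.card_real_irr_eq]
    exact Nat.card_le_card_of_injective (fun χ => ⟨(f χ).1, (f χ).2.1⟩) fun a b e =>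
      hf.1 (Subtype.ext (congrArg
        (fun z : {χ : IrrCharacter N // H87.IsReal (χ : N → ℂ)} => z.1) e))
  obtain ⟨⟨C, hC⟩, e⟩ := (hF.bijective_of_nat_card_le hcard).2 ⟨ConjClasses.mk x, fun g hg => by
    have h1 : IsConj g x := ConjClasses.mk_eq_mk_iff_isConj.1 hg
    obtain ⟨c, hc⟩ := isConj_iff.1 h1
    exact h1.trans (hx.trans (isConj_iff.2 ⟨c⁻¹, by rw [← hc]; group⟩))⟩
  obtain ⟨y, rfl⟩ := ConjClasses.mk_surjective C
  exact ⟨y, y.2, (ConjClasses.mk_eq_mk_iff_isConj.1 (congrArg Subtype.val e)).symm⟩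

theorem exists_conj_mem_normalizer (P : Sylow p G) (K : Subgroup G) [K.Normal]
    (hodd : Odd K.index) (hQ : ((P : Subgroup G) ⊓ K).Normal) (hr : RealP p G) {x : G}
    (hx : IsConj x x⁻¹) : ∃ y ∈ normalizer ((P : Subgroup G) : Set G), IsConj x y := by
  set Q := (P : Subgroup G) ⊓ K with hQd
  have hs := QuotientGroup.mk'_surjective Q
  haveI : (K.map (QuotientGroup.mk' Q)).Normal := Normal.map inferInstance _ hs
  have hP : ((P : Subgroup G).map (QuotientGroup.mk' Q)).comap (QuotientGroup.mk' Q) = P := by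
    rw [comap_map_eq, QuotientGroup.ker_mk', sup_eq_left.2 inf_le_left]
  have hK : (K.map (QuotientGroup.mk' Q)).comap (QuotientGroup.mk' Q) = K := by
    rw [comap_map_eq, QuotientGroup.ker_mk', sup_eq_left.2 inf_le_right]
  obtain ⟨y, hy, hxy⟩ := exists_conj_mem_normalizer_of_inf (P.mapSurjective hs)
    (K.map (QuotientGroup.mk' Q)) (hodd.of_dvd_nat (index_map_dvd _ hs)) (by
      apply comap_injective hs
      rw [comap_inf, Sylow.coe_mapSurjective, hP, hK, MonoidHom.comap_bot, QuotientGroup.ker_mk'])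
    (hr.quot Q) ((QuotientGroup.mk' Q).map_isConj hx)
  obtain ⟨c, hc⟩ := isConj_iff.1 hxy
  obtain ⟨c, rfl⟩ := hs c
  refine ⟨c * x * c⁻¹, ?_, isConj_iff.2 ⟨c, rfl⟩⟩
  rw [← hP, ← comap_normalizer_eq_of_surjective _ hs, mem_comap, map_mul, map_mul, map_inv, hc]
  exact hy

end corr

end H86
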