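import Mathlib

/-!
Field lemmas for Schmidt groups: invariant alternating biadditive maps on a finite field.
-/

set_option autoImplicit false
set_option linter.unusedSectionVars false

namespace H86
namespace Sm

open Polynomial

variable {p q : ℕ} [hp : Fact p.Prime] [hq : Fact q.Prime]

/-- The field data: `F` of order `p ^ a`, `a` the order of `p` mod `q`, `ζ` of order `q`. -/
structure Fd (p q a : ℕ) (F : Type*) [Field F] (ζ : F) : Prop where
  card : Nat.card F = p ^ a
  ord : a = orderOf (p : ZMod q)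
  ne : p ≠ q
  ne1 : ζ ≠ 1
  pw : ζ ^ q = 1

variable {a : ℕ} {F : Type*} [Field F] [Finite F] {ζ : F}

theorem Fd.prim (h : Fd p q a F ζ) : IsPrimitiveRoot ζ q := by
  have := IsPrimitiveRoot.orderOf ζ
  rwa [orderOf_eq_prime h.pw h.ne1] at this

theorem Fd.ne0 (h : Fd p q a F ζ) : ζ ≠ 0 := h.prim.ne_zero hq.out.ne_zero

theorem Fd.other (h : Fd p q a F ζ) {μ : F} (h1 : μ ≠ 1) (h2 : μ ^ q = 1) : Fd p q a F μ :=
  ⟨h.card, h.ord, h.ne, h1, h2⟩

theorem Fd.irr (h : Fd p q a F ζ) (M : AddSubgroup F) (hM : ∀ x ∈ M, ζ * x ∈ M)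
    (h0 : ∃ x ∈ M, x ≠ 0) : M = ⊤ := by
  classical
  have := Fintype.ofFinite M
  let f : Function.End M := fun x => ⟨ζ * x, hM _ x.2⟩
  have hf : ∀ n : ℕ, ∀ x : M, (((f ^ n) x : M) : F) = ζ ^ n * x := by
    intro n
    induction n with
    | zero => intro x; simp; rfl
    | succ n ih =>
      intro x
      rw [pow_succ]
      show (((f ^ n) (f x) : M) : F) = _
      rw [ih]; show ζ ^ n * (ζ * x) = _; ring
  have hf1 : f ^ q ^ 1 = 1 := by
    funext x; apply Subtype.ext; rw [pow_one, hf, h.pw, one_mul]; rfl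
  have hc := Equiv.Perm.card_fixedPoints_modEq hf1
  have hone : Fintype.card f.fixedPoints = 1 := by
    rw [Fintype.card_eq_one_iff]
    refine ⟨⟨0, ?_⟩, ?_⟩
    · apply Subtype.ext; show ζ * 0 = 0; simp
    · rintro ⟨x, hx⟩
      apply Subtype.ext; apply Subtype.ext
      have h1 : ζ * (x : F) = x := congrArg Subtype.val hx
      have h2 : (ζ - 1) * (x : F) = 0 := by rw [sub_mul, h1]; simp
      rcases mul_eq_zero.1 h2 with h3 | h3
      · exact absurd (sub_eq_zero.1 h3) h.ne1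
      · exact h3
  rw [hone, ← Nat.card_eq_fintype_card] at hc
  have hd : Nat.card M ∣ p ^ a := h.card ▸ AddSubgroup.card_addSubgroup_dvd_card M
  obtain ⟨m, hm, hmc⟩ := (Nat.dvd_prime_pow hp.out).1 hd
  have hm0 : m ≠ 0 := by
    rintro rfl
    obtain ⟨x, hx, hx0⟩ := h0
    rw [pow_zero, AddSubgroup.card_eq_one] at hmc
    rw [hmc] at hx
    exact hx0 (AddSubgroup.mem_bot.1 hx)
  have hdv : a ∣ m := by
    rw [h.ord, orderOf_dvd_iff_pow_eq_one]
    rw [hmc] at hc
    have := (ZMod.natCast_eq_natCast_iff _ _ _).2 hc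
    simpa using this
  have : m = a := le_antisymm hm (Nat.le_of_dvd (Nat.pos_of_ne_zero hm0) hdv)
  apply AddSubgroup.eq_top_of_card_eq
  rw [hmc, this, h.card]

theorem card_roots_le {n : ℕ} (hn : 2 ≤ n) (ε : F) (S : AddSubgroup F)
    (hS : ∀ c ∈ S, c ^ n + ε * c = 0) : Nat.card S ≤ n := by
  classical
  have hdeg : (X ^ n + C ε * X : F[X]).natDegree = n := by
    rw [natDegree_add_eq_left_of_natDegree_lt] <;> rw [natDegree_X_pow]
    exact lt_of_le_of_lt (natDegree_C_mul_le _ _) (by rw [natDegree_X]; omega)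
  have hne : (X ^ n + C ε * X : F[X]) ≠ 0 := by
    intro h; rw [h] at hdeg; simp at hdeg; omega
  have h1 : (S : Set F) ⊆ ((X ^ n + C ε * X : F[X]).roots.toFinset : Set F) := by
    intro c hc
    simp only [Finset.mem_coe, Multiset.mem_toFinset, mem_roots hne, IsRoot.def, eval_add, eval_pow,
      eval_X, eval_mul, eval_C]
    exact hS c hc
  have h2 := Set.ncard_le_ncard h1 (Finset.finite_toSet _)
  rw [Set.ncard_coe_finset] at h2
  have h3 : Nat.card S = (S : Set F).ncard := rfl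
  rw [h3]
  exact h2.trans ((Multiset.toFinset_card_le _).trans ((card_roots' _).trans hdeg.le))

theorem card_ker_mul_range {A B : Type*} [AddCommGroup A] [AddCommGroup B] (f : A →+ B) :
    Nat.card A = Nat.card f.ker * Nat.card f.range := by
  rw [← AddSubgroup.index_ker, AddSubgroup.card_mul_index]

theorem Fd.charP (h : Fd p q a F ζ) : CharP F p := by
  obtain ⟨l, hl⟩ := CharP.exists F
  have := Fintype.ofFinite F
  obtain ⟨n, hl', hc⟩ := FiniteField.card F l
  rw [← Nat.card_eq_fintype_card, h.card] at hc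
  have : l ∣ p ^ a := hc ▸ dvd_pow_self l n.ne_zero
  have := (Nat.prime_dvd_prime_iff_eq hl' hp.out).1 (hl'.dvd_of_dvd_pow this)
  rwa [← this]

theorem Fd.a_pos (h : Fd p q a F ζ) : 0 < a := by
  rcases Nat.eq_zero_or_pos a with h0 | h0
  · have := h.card
    rw [h0, pow_zero] at this
    have h2 : 1 < Nat.card F := Finite.one_lt_card
    omega
  · exact h0

/-- For `a` even, the Frobenius power of order two inverts `ζ`. -/
theorem Fd.inv (h : Fd p q a F ζ) (he : a % 2 ≠ 1) : ζ * ζ ^ p ^ (a / 2) = 1 := by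
  have ha := h.a_pos
  have h1 : ((p : ZMod q) ^ (a / 2)) ^ 2 = 1 := by
    rw [← pow_mul, show a / 2 * 2 = a by omega, h.ord, pow_orderOf_eq_one]
  have h2 : (p : ZMod q) ^ (a / 2) ≠ 1 := by
    apply pow_ne_one_of_lt_orderOf (by omega)
    rw [← h.ord]; omega
  have h3 : (p : ZMod q) ^ (a / 2) = -1 := by
    rw [sq, mul_self_eq_one_iff] at h1
    exact h1.resolve_left h2
  have h4 : q ∣ p ^ (a / 2) + 1 := by
    rw [← ZMod.natCast_eq_zero_iff]; push_cast; rw [h3]; ring
  obtain ⟨k, hk⟩ := h4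
  rw [← pow_succ', hk, pow_mul, h.pw, one_pow]

theorem Fd.range_ge (h : Fd p q a F ζ) (he : a % 2 ≠ 1) (ε : F) (τ : F →+ F)
    (hτ : ∀ c, τ c = c ^ p ^ (a / 2) + ε * c) : p ^ (a / 2) ≤ Nat.card τ.range := by
  have ha := h.a_pos
  have h2 : 2 ≤ p ^ (a / 2) :=
    hp.out.two_le.trans (Nat.le_self_pow (by omega) p)
  have h1 := card_roots_le h2 ε τ.ker (fun c hc => by rw [← hτ]; exact hc)
  have h3 := card_ker_mul_range τ
  rw [h.card, show a = a / 2 + a / 2 by omega, pow_add] at h3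
  by_contra hlt
  push Not at hlt
  have : Nat.card τ.ker * Nat.card τ.range < p ^ (a / 2) * p ^ (a / 2) :=
    Nat.mul_lt_mul_of_le_of_lt h1 hlt (by omega)
  omega

section Alt
variable {B : Type*} [AddCommGroup B] (γ : F →+ F →+ B)

theorem skew (halt : ∀ c, γ c c = 0) (c d : F) : γ c d = - γ d c := by
  have := halt (c + d)
  simp only [map_add, AddMonoidHom.add_apply, halt, zero_add, add_zero] at this
  rw [eq_neg_iff_add_eq_zero, add_comm]; exact this

theorem Fd.shift (h : Fd p q a F ζ) (hinv : ∀ c d, γ (ζ * c) (ζ * d) = γ c d) (c d : F) :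
    γ (ζ * c) d = γ c (ζ⁻¹ * d) := by
  rw [← hinv c (ζ⁻¹ * d), mul_inv_cancel_left₀ h.ne0]

theorem Fd.mem_range (h : Fd p q a F ζ) (hinv : ∀ c d, γ (ζ * c) (ζ * d) = γ c d) (c d : F) :
    γ c d ∈ (γ 1).range := by
  let S : AddSubgroup F :=
    { carrier := {c | ∀ d, γ c d ∈ (γ 1).range}
      add_mem' := fun {x y} hx hy d => by
        rw [map_add, AddMonoidHom.add_apply]; exact add_mem (hx d) (hy d)
      zero_mem' := fun d => by simp
      neg_mem' := fun {x} hx d => by
        rw [map_neg, AddMonoidHom.neg_apply]; exact neg_mem (hx d) }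
  have : S = ⊤ := h.irr S (fun x hx d => by rw [h.shift γ hinv]; exact hx _)
    ⟨1, fun d => ⟨d, rfl⟩, one_ne_zero⟩
  exact (this ▸ AddSubgroup.mem_top c : c ∈ S) d

theorem Fd.even_bound (h : Fd p q a F ζ) (he : a % 2 ≠ 1)
    (hinv : ∀ c d, γ (ζ * c) (ζ * d) = γ c d) (halt : ∀ c, γ c c = 0) :
    Nat.card (γ 1).range ≤ p ^ (a / 2) := by
  have := h.charP
  have ha := h.a_pos
  let σ : F →+* F := iterateFrobenius F p (a / 2)
  have hσ : ∀ c, σ c = c ^ p ^ (a / 2) := fun c => rfl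
  have hζ : σ ζ = ζ⁻¹ := by rw [hσ]; exact eq_inv_of_mul_eq_one_right (h.inv he)
  let S : AddSubgroup F :=
    { carrier := {c | ∀ u v, γ (c * u) v = γ u (σ c * v)}
      add_mem' := fun {x y} hx hy u v => by
        rw [add_mul, map_add, AddMonoidHom.add_apply, hx, hy, map_add, add_mul, map_add]
      zero_mem' := fun u v => by simp
      neg_mem' := fun {x} hx u v => by
        rw [neg_mul, map_neg, AddMonoidHom.neg_apply, hx, map_neg, neg_mul, map_neg] }
  have hS : S = ⊤ := h.irr S (fun x hx u v => by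
      rw [mul_assoc, h.shift γ hinv, hx, map_mul σ, hζ]; congr 1; ring)
    ⟨1, fun u v => by simp, one_ne_zero⟩
  let τ : F →+ F := σ.toAddMonoidHom + AddMonoidHom.id F
  have h1 := h.range_ge he 1 τ (fun c => by simp [τ, hσ])
  have h2 : τ.range ≤ (γ 1).ker := by
    rintro _ ⟨c, rfl⟩
    have h3 := (hS ▸ AddSubgroup.mem_top c : c ∈ S) 1 1
    rw [mul_one, mul_one] at h3
    show γ 1 (σ c + c) = 0
    rw [map_add, ← h3, skew γ halt c 1]; simp
  have h3 := h1.trans (AddSubgroup.card_le_of_le h2)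
  have h4 := card_ker_mul_range (γ 1)
  rw [h.card, show a = a / 2 + a / 2 by omega, pow_add] at h4
  by_contra hlt
  push Not at hlt
  have : p ^ (a / 2) * p ^ (a / 2) < Nat.card (γ 1).ker * Nat.card (γ 1).range :=
    Nat.mul_lt_mul_of_le_of_lt h3 hlt Nat.card_pos
  omega

theorem Fd.odd_zero (h : Fd p q a F ζ) (he : a % 2 = 1)
    (hinv : ∀ c d, γ (ζ * c) (ζ * d) = γ c d) (halt : ∀ c, γ c c = 0) (d : F) : γ 1 d = 0 := by
  have := h.charP
  by_contra hne
  let R : AddSubgroup F :=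
    { carrier := {d | ∀ c, γ c d = 0}
      add_mem' := fun {x y} hx hy c => by rw [map_add, hx, hy, add_zero]
      zero_mem' := fun c => by simp
      neg_mem' := fun {x} hx c => by rw [map_neg, hx, neg_zero] }
  have hR : ∀ x : F, (∀ c, γ c x = 0) → x = 0 := by
    intro x hx
    by_contra hx0
    have : R = ⊤ := h.irr R (fun y hy c => by
      rw [← mul_inv_cancel_left₀ h.ne0 c, hinv]; exact hy _) ⟨x, hx, hx0⟩
    exact hne ((this ▸ AddSubgroup.mem_top d : d ∈ R) 1)
  let S : AddSubgroup F :=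
    { carrier := {c | ∃ e, ∀ u v, γ (c * u) v = γ u (e * v)}
      add_mem' := fun {x y} ⟨e, hx⟩ ⟨f, hy⟩ => ⟨e + f, fun u v => by
        rw [add_mul, map_add, AddMonoidHom.add_apply, hx, hy, add_mul, map_add]⟩
      zero_mem' := ⟨0, fun u v => by simp⟩
      neg_mem' := fun {x} ⟨e, hx⟩ => ⟨-e, fun u v => by
        rw [neg_mul, map_neg, AddMonoidHom.neg_apply, hx, neg_mul, map_neg]⟩ }
  have hS : S = ⊤ := h.irr S (fun x ⟨e, hx⟩ => ⟨e * ζ⁻¹, fun u v => by
      rw [mul_assoc, h.shift γ hinv, hx, mul_assoc]⟩)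
    ⟨1, ⟨1, fun u v => by simp⟩, one_ne_zero⟩
  have hex : ∀ c, ∃ e, ∀ u v, γ (c * u) v = γ u (e * v) :=
    fun c => (hS ▸ AddSubgroup.mem_top c : c ∈ S)
  choose s hs using hex
  have huniq : ∀ c e, (∀ u, γ (c * u) 1 = γ u e) → s c = e := by
    intro c e he
    rw [← sub_eq_zero]
    apply hR
    intro u
    rw [map_sub, ← he, hs, mul_one, sub_self]
  let σ : F →+* F :=
    { toFun := s
      map_one' := huniq _ _ (fun u => by simp)
      map_mul' := fun x y => huniq _ _ (fun u => by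
        rw [mul_assoc, hs, hs, mul_one, mul_comm])
      map_zero' := huniq _ _ (fun u => by simp)
      map_add' := fun x y => huniq _ _ (fun u => by
        rw [add_mul, map_add, AddMonoidHom.add_apply, hs, hs, mul_one, mul_one, map_add]) }
  letI : Algebra (ZMod p) F := ZMod.algebra F p
  let σ' : F →ₐ[ZMod p] F :=
    { σ with
      commutes' := fun r =>
        RingHom.congr_fun (RingHom.ext_zmod (σ.comp (algebraMap (ZMod p) F)) (algebraMap _ _)) r }
  have hbij : Function.Bijective σ' := Finite.injective_iff_bijective.1 σ.injective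
  obtain ⟨i, hi⟩ := FiniteField.exists_forall_apply_eq_pow (ZMod p) p F (AlgEquiv.ofBijective σ' hbij)
  have hi' : ∀ x, s x = x ^ p ^ i := fun x => by
    have := hi x; rw [Nat.card_zmod] at this; exact this
  have hζ : s ζ = ζ⁻¹ := huniq _ _ (fun u => by rw [h.shift γ hinv, mul_one])
  have h1 : ζ ^ (p ^ i + 1) = 1 := by rw [pow_succ, ← hi', hζ, inv_mul_cancel₀ h.ne0]
  have h2 : (p : ZMod q) ^ i = -1 := by
    have := (ZMod.natCast_eq_zero_iff _ _).2 (h.prim.dvd_of_pow_eq_one _ h1)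
    push_cast at this
    exact eq_neg_of_add_eq_zero_left this
  have h3 : a ∣ i * 2 := by
    rw [h.ord, orderOf_dvd_iff_pow_eq_one, pow_mul, h2]; ring
  have h4 : a ∣ i := by
    refine Nat.Coprime.dvd_of_dvd_mul_right ?_ h3
    exact (Nat.odd_iff.2 he).coprime_two_right
  obtain ⟨k, rfl⟩ := h4
  have h5 : ∀ x, s x = x := fun x => by
    have := Fintype.ofFinite F
    rw [hi', pow_mul, ← h.card, Nat.card_eq_fintype_card, FiniteField.pow_card_pow]
  have h6 : (2 : ZMod q) = 0 := by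
    rw [pow_mul, h.ord, pow_orderOf_eq_one, one_pow] at h2
    linear_combination h2
  have h7 : q = 2 := by
    have : ((2 : ℕ) : ZMod q) = 0 := by exact_mod_cast h6
    exact (Nat.prime_dvd_prime_iff_eq hq.out Nat.prime_two).1 ((ZMod.natCast_eq_zero_iff _ _).1 this)
  have h8 : 2 • γ 1 d = 0 := by
    have h9 := hs d 1 1
    rw [mul_one, mul_one, h5, skew γ halt d 1] at h9
    rw [two_smul]; nth_rewrite 1 [← h9]; simp
  have h9 : p • γ 1 d = 0 := by
    rw [← map_nsmul, nsmul_eq_mul, CharP.cast_eq_zero, zero_mul, map_zero]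
  have hc : Nat.Coprime 2 p := (Nat.coprime_primes Nat.prime_two hp.out).2 (fun e => h.ne (h7 ▸ e.symm))
  have h10 := Nat.dvd_gcd (addOrderOf_dvd_of_nsmul_eq_zero h8) (addOrderOf_dvd_of_nsmul_eq_zero h9)
  rw [hc, Nat.dvd_one, AddMonoid.addOrderOf_eq_one_iff] at h10
  exact hne h10

end Alt

end Sm
end H86
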