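import Mathlib
import Cfsg.Agent.Lib.Blk86.Schm

/-!
The normal Sylow subgroup of a Schmidt group with its automorphism of prime order.
-/

set_option autoImplicit false
set_option linter.unusedSectionVars false
set_option linter.style.haveILetI false

namespace H86
namespace Sm

open Multiplicative
open scoped commutatorElement IsMulCommutative

/-- A `p`-group with an automorphism of order `q` fixing all proper invariant subgroups. -/
structure Mn (p q : ℕ) {P : Type*} [Group P] (α : MulAut P) : Prop where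
  pg : IsPGroup p P
  pw : α ^ q = 1
  ne : α ≠ 1
  mn : ∀ K : Subgroup P, (∀ x ∈ K, α x ∈ K) → K ≠ ⊤ → ∀ x ∈ K, α x = x

variable {p q : ℕ} [hp : Fact p.Prime] [hq : Fact q.Prime]
variable {a : ℕ} {F : Type*} [Field F] [Finite F] {ζ : F}
variable {P : Type*} [Group P] [Finite P] {α : MulAut P}

theorem eq_one_of_pow {A : Type*} [Group A] (hA : IsPGroup p A) (hpq : p ≠ q) {k : A}
    (hk : k ^ q = 1) : k = 1 := by
  obtain ⟨n, hn⟩ := hA k
  have h1 := Nat.dvd_gcd (orderOf_dvd_of_pow_eq_one hn) (orderOf_dvd_of_pow_eq_one hk)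
  have hc : Nat.Coprime (p ^ n) q :=
    Nat.Coprime.pow_left _ ((Nat.coprime_primes hp.out hq.out).2 hpq)
  rw [hc, Nat.dvd_one, orderOf_eq_one_iff] at h1
  exact h1

theorem Mn.hom_triv (h : Mn p q α) (hpq : p ≠ q) {A : Type*} [Group A] (f : P →* A)
    (hf : ∀ x, f (α x) = f x) (x : P) : f x = 1 := by
  by_contra hx
  have hK : f.ker ≠ ⊤ := fun e => hx ((e ▸ Subgroup.mem_top x : x ∈ f.ker))
  have h1 := h.mn f.ker (fun y hy => by rw [MonoidHom.mem_ker, hf]; exact hy) hK
  apply h.ne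
  ext y
  have hk : y⁻¹ * α y ∈ f.ker := by rw [MonoidHom.mem_ker, map_mul, map_inv, hf]; simp
  have h2 : ∀ n : ℕ, (α ^ n) y = y * (y⁻¹ * α y) ^ n := by
    intro n
    induction n with
    | zero => simp
    | succ n ih =>
      rw [pow_succ', MulAut.mul_apply, ih, map_mul, map_pow, h1 _ hk, pow_succ', ← mul_assoc,
        mul_inv_cancel_left]
  have h3 := h2 q
  rw [h.pw] at h3
  have h4 : (y⁻¹ * α y) ^ q = 1 := by simpa using h3.symm
  have := eq_one_of_pow h.pg hpq h4
  rw [inv_mul_eq_one] at this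
  simpa using this.symm

theorem Mn.pow (h : Mn p q α) {k : ℕ} (hk : ¬ q ∣ k) : Mn p q (α ^ k) := by
  have hc : Nat.Coprime k q := ((Nat.Prime.coprime_iff_not_dvd hq.out).2 hk).symm
  obtain ⟨l, hl⟩ : ∃ l, (α ^ k) ^ l = α := by
    have h1 : orderOf α = q := orderOf_eq_prime h.pw h.ne
    exact exists_pow_eq_self_of_coprime (h1 ▸ hc)
  have hinv : ∀ (β : MulAut P) (K : Subgroup P), (∀ x ∈ K, β x ∈ K) → ∀ n : ℕ, ∀ x ∈ K,
      (β ^ n) x ∈ K := by
    intro β K hK n
    induction n with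
    | zero => intro x hx; simpa using hx
    | succ n ih => intro x hx; rw [pow_succ, MulAut.mul_apply]; exact ih _ (hK _ hx)
  refine ⟨h.pg, by rw [← pow_mul, mul_comm, pow_mul, h.pw, one_pow], ?_, ?_⟩
  · intro e; apply h.ne; rw [← hl, e, one_pow]
  · intro K hK hK' x hx
    have h1 := h.mn K (fun y hy => hl ▸ hinv _ K hK l y hy) hK'
    induction k with
    | zero => simp
    | succ n _ =>
      clear hk hc hl hK
      have : ∀ m : ℕ, (α ^ m) x = x := by
        intro m
        induction m with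
        | zero => simp
        | succ m ih => rw [pow_succ, MulAut.mul_apply, h1 x hx, ih]
      exact this _

/-- `Mn` with coordinates in the field. -/
structure Co (p q a : ℕ) {P : Type*} [Group P] (α : MulAut P) {F : Type*} [Field F] (ζ : F)
    (e : P →* Multiplicative F) : Prop where
  mn : Mn p q α
  fd : Fd p q a F ζ
  ne : ∃ x, e x ≠ 1
  eqv : ∀ x, toAdd (e (α x)) = ζ * toAdd (e x)

theorem Mn.exists_co (h : Mn p q α) (hF : Fd p q a F ζ) :
    ∃ (μ : F) (e : P →* Multiplicative F), Co p q a α μ e := by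
  classical
  have := hF.charP
  have hnt : Nontrivial P := by
    by_contra hs
    rw [not_nontrivial_iff_subsingleton] at hs
    exact h.ne (by ext x; exact Subsingleton.elim _ _)
  obtain ⟨n, hn0, hn⟩ := (IsPGroup.nontrivial_iff_card h.pg).1 hnt
  obtain ⟨K, hK⟩ := Sylow.exists_subgroup_card_pow_prime (G := P) p (n := n - 1)
    (hn ▸ pow_dvd_pow p (by omega))
  have hi : K.index = p := by
    have := K.card_mul_index
    rw [hK, hn, show n = n - 1 + 1 by omega, pow_succ] at this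
    exact Nat.eq_of_mul_eq_mul_left (pow_pos hp.out.pos _) this
  haveI : K.Normal := Subgroup.normal_of_index_eq_minFac_card (by
    rw [hi, hn, Nat.Prime.pow_minFac hp.out (by omega)])
  let ψ : P ⧸ K ≃* Multiplicative (ZMod p) :=
    mulEquivOfPrimeCardEq (p := p) hi (by simp)
  let f0 : P →* Multiplicative F :=
    (AddMonoidHom.toMultiplicative (ZMod.castHom (dvd_refl p) F).toAddMonoidHom).comp
      (ψ.toMonoidHom.comp (QuotientGroup.mk' K))
  have hf0 : ∃ x, f0 x ≠ 1 := by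
    obtain ⟨x, hx⟩ := QuotientGroup.mk'_surjective K (ψ.symm (ofAdd 1))
    refine ⟨x, ?_⟩
    simp only [f0, MonoidHom.comp_apply, hx]
    simp
  let V := Additive P →+ F
  have : Finite V := Finite.of_injective (fun f : V => (f : Additive P → F)) DFunLike.coe_injective
  have : Nontrivial V := by
    obtain ⟨x, hx⟩ := hf0
    refine ⟨MonoidHom.toAdditiveLeft f0, 0, fun e => hx ?_⟩
    exact DFunLike.congr_fun e (Additive.ofMul x)
  have : Module.Finite F V := Module.Finite.of_finite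
  let T : Module.End F V :=
    { toFun := fun f => f.comp (MonoidHom.toAdditive α.toMonoidHom)
      map_add' := fun _ _ => rfl
      map_smul' := fun _ _ => rfl }
  have hT : ∀ (m : ℕ) (f : V) (x : P), ((T ^ m) f) (Additive.ofMul x) =
      f (Additive.ofMul ((α ^ m) x)) := by
    intro m
    induction m with
    | zero => intro f x; rfl
    | succ m ih =>
      intro f x
      rw [pow_succ, Module.End.mul_apply, ih, pow_succ', MulAut.mul_apply]; rfl
  have hTq : T ^ q = 1 := by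
    ext f x
    have := hT q f (Additive.toMul x)
    rw [h.pw] at this
    exact this
  have hd : minpoly F T ∣ Polynomial.X ^ q - Polynomial.C 1 :=
    minpoly.dvd F T (by simp [hTq])
  have hsp := (Polynomial.X_pow_sub_one_splits hF.prim).of_dvd
    (Polynomial.X_pow_sub_C_ne_zero hq.out.pos 1) hd
  obtain ⟨μ, hμ⟩ := hsp.exists_eval_eq_zero
    (minpoly.degree_pos (Algebra.IsIntegral.isIntegral T)).ne'
  have hμq : μ ^ q = 1 := by
    have := Polynomial.eval_eq_zero_of_dvd_of_eval_eq_zero hd hμ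
    simpa [sub_eq_zero] using this
  obtain ⟨f, hf⟩ := (Module.End.hasEigenvalue_iff_isRoot.2 hμ).exists_hasEigenvector
  let e : P →* Multiplicative F := AddMonoidHom.toMultiplicativeRight f
  have hne : ∃ x, e x ≠ 1 := by
    by_contra hc
    push Not at hc
    apply hf.2
    ext x
    exact hc (Additive.toMul x)
  have heq : ∀ x, toAdd (e (α x)) = μ * toAdd (e x) := fun x =>
    DFunLike.congr_fun hf.apply_eq_smul (Additive.ofMul x)
  refine ⟨μ, e, h, hF.other ?_ hμq, hne, heq⟩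
  rintro rfl
  obtain ⟨x, hx⟩ := hne
  exact hx (h.hom_triv hF.ne e (fun y => toAdd.injective (by rw [heq, one_mul])) x)

variable {e : P →* Multiplicative F}

theorem Co.onto (h : Co p q a α ζ e) (K : Subgroup P) {μ : F} (hF : Fd p q a F μ)
    (hK : ∀ x ∈ K, ∃ y ∈ K, toAdd (e y) = μ * toAdd (e x)) (h0 : ∃ x ∈ K, e x ≠ 1) (c : F) :
    ∃ x ∈ K, toAdd (e x) = c := by
  let M : AddSubgroup F :=
    { carrier := {c | ∃ x ∈ K, toAdd (e x) = c}
      add_mem' := by
        rintro _ _ ⟨x, hx, rfl⟩ ⟨y, hy, rfl⟩; exact ⟨x * y, mul_mem hx hy, by simp⟩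
      zero_mem' := ⟨1, one_mem _, by simp⟩
      neg_mem' := by rintro _ ⟨x, hx, rfl⟩; exact ⟨x⁻¹, inv_mem hx, by simp⟩ }
  have : M = ⊤ := hF.irr M (by rintro _ ⟨x, hx, rfl⟩; exact hK x hx) (by
    obtain ⟨x, hx, h1⟩ := h0
    exact ⟨_, ⟨x, hx, rfl⟩, h1⟩)
  exact (this ▸ AddSubgroup.mem_top c : c ∈ M)

theorem Co.surj (h : Co p q a α ζ e) (c : F) : ∃ x, toAdd (e x) = c := by
  obtain ⟨x, -, hx⟩ := h.onto ⊤ h.fd (fun x _ => ⟨α x, trivial, h.eqv x⟩)
    (by obtain ⟨x, hx⟩ := h.ne; exact ⟨x, trivial, hx⟩) c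
  exact ⟨x, hx⟩

theorem Co.fix (h : Co p q a α ζ e) {x : P} (hx : e x = 1) : α x = x := by
  refine h.mn.mn e.ker (fun y hy => ?_) (fun h1 => ?_) x hx
  · rw [MonoidHom.mem_ker] at hy ⊢
    exact toAdd.injective (by rw [h.eqv, hy]; simp)
  · obtain ⟨y, hy⟩ := h.ne
    exact hy (h1 ▸ Subgroup.mem_top y : y ∈ e.ker)

theorem Co.central (h : Co p q a α ζ e) {z : P} (hz : e z = 1) : z ∈ Subgroup.center P := by
  have h1 := h.mn.hom_triv h.fd.ne (MulAut.conjNormal (H := e.ker)) (fun x => by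
    ext w
    simp only [MulAut.conjNormal_apply]
    have h2 : e (x * w * x⁻¹) = 1 := by
      rw [map_mul, map_mul, (w.2 : e w = 1)]; simp
    rw [← h.fix h2, map_mul, map_mul, map_inv, h.fix (w.2 : e w = 1)])
  rw [Subgroup.mem_center_iff]
  intro g
  have := congrArg Subtype.val (DFunLike.congr_fun (h1 g) ⟨z, hz⟩)
  simp only [MulAut.conjNormal_apply, MulAut.one_apply] at this
  rw [mul_inv_eq_iff_eq_mul] at this
  exact this

theorem e_comm (x y : P) : e ⁅x, y⁆ = 1 := by
  rw [map_commutatorElement, commutatorElement_eq_one_iff_mul_comm, mul_comm]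

theorem Co.comm_eq (h : Co p q a α ζ e) {x x' y y' : P} (hx : e x = e x') (hy : e y = e y') :
    ⁅x, y⁆ = ⁅x', y'⁆ := by
  have h1 := Subgroup.mem_center_iff.1 (h.central (z := x⁻¹ * x') (by simp [hx]))
  have h2 := Subgroup.mem_center_iff.1 (h.central (z := y⁻¹ * y') (by simp [hy]))
  obtain ⟨u, rfl⟩ : ∃ u, x' = x * u := ⟨x⁻¹ * x', by group⟩
  obtain ⟨v, rfl⟩ : ∃ v, y' = y * v := ⟨y⁻¹ * y', by group⟩
  simp only [inv_mul_cancel_left] at h1 h2
  simp only [commutatorElement_def, mul_inv_rev]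
  calc x * y * x⁻¹ * y⁻¹ = x * (y * (u * u⁻¹) * x⁻¹ * (v * v⁻¹)) * y⁻¹ := by group
    _ = x * ((y * u) * (u⁻¹ * x⁻¹ * v) * v⁻¹) * y⁻¹ := by group
    _ = _ := by rw [h1 y, h2]; group

/-- The commutator form. -/
theorem Co.exists_form (h : Co p q a α ζ e) :
    ∃ γ : F →+ F →+ Additive (Subgroup.center P),
      (∀ x y, ((Additive.toMul (γ (toAdd (e x)) (toAdd (e y))) : Subgroup.center P) : P) = ⁅x, y⁆) ∧
      (∀ c d, γ (ζ * c) (ζ * d) = γ c d) ∧ ∀ c, γ c c = 0 := by
  choose s hs using h.surj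
  have hs' : ∀ c, e (s c) = ofAdd c := fun c => toAdd.injective (hs c)
  let g : F → F → Additive (Subgroup.center P) := fun c d =>
    Additive.ofMul ⟨⁅s c, s d⁆, h.central (e_comm _ _)⟩
  have hg : ∀ x y, ((Additive.toMul (g (toAdd (e x)) (toAdd (e y))) : Subgroup.center P) : P)
      = ⁅x, y⁆ := fun x y => h.comm_eq (by rw [hs']; rfl) (by rw [hs']; rfl)
  have hc : ∀ x y g : P, g * ⁅x, y⁆ = ⁅x, y⁆ * g := fun x y =>
    Subgroup.mem_center_iff.1 (h.central (e_comm x y))
  have ext' : ∀ u v : Additive (Subgroup.center P),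
      ((Additive.toMul u : Subgroup.center P) : P) = (Additive.toMul v : Subgroup.center P) →
        u = v := fun u v huv => Additive.toMul.injective (Subtype.ext huv)
  refine ⟨AddMonoidHom.mk' (fun c => AddMonoidHom.mk' (g c) (fun d d' => ext' _ _ ?_))
    (fun c c' => AddMonoidHom.ext fun d => ext' _ _ ?_), hg, fun c d => ext' _ _ ?_,
    fun c => ext' _ _ ?_⟩
  · show ⁅s c, s (d + d')⁆ = ⁅s c, s d⁆ * ⁅s c, s d'⁆
    rw [h.comm_eq (x' := s c) (y' := s d * s d') rfl (by simp [hs', ofAdd_add])]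
    have := hc (s c) (s d') (s d)
    calc ⁅s c, s d * s d'⁆ = ⁅s c, s d⁆ * (s d * ⁅s c, s d'⁆) * (s d)⁻¹ := by
          simp only [commutatorElement_def]; group
      _ = _ := by rw [this]; group
  · show ⁅s (c + c'), s d⁆ = ⁅s c, s d⁆ * ⁅s c', s d⁆
    rw [h.comm_eq (x' := s c * s c') (y' := s d) (by simp [hs', ofAdd_add]) rfl]
    have := hc (s c') (s d) (s c)
    calc ⁅s c * s c', s d⁆ = (s c * ⁅s c', s d⁆) * (s c)⁻¹ * ⁅s c, s d⁆ := by
          simp only [commutatorElement_def]; group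
      _ = ⁅s c', s d⁆ * ⁅s c, s d⁆ := by rw [this]; group
      _ = _ := hc _ _ _
  · show ⁅s (ζ * c), s (ζ * d)⁆ = ⁅s c, s d⁆
    rw [← h.fix (e_comm (s c) (s d)), map_commutatorElement]
    exact h.comm_eq (toAdd.injective (by rw [h.eqv, hs, hs])) (toAdd.injective (by rw [h.eqv, hs, hs]))
  · show ⁅s c, s c⁆ = 1
    simp

theorem Co.mem_comm (h : Co p q a α ζ e) {z : P} (hz : e z = 1) : z ∈ commutator P := by
  let N : P →* Abelianization P :=
    ∏ i ∈ Finset.range q, Abelianization.of.comp (α ^ i).toMonoidHom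
  have hN : ∀ x, N x = ∏ i ∈ Finset.range q, Abelianization.of ((α ^ i) x) := fun x => by
    simp [N, MonoidHom.finsetProd_apply]
  have h1 := h.mn.hom_triv h.fd.ne N (fun x => by
    rw [hN, hN]
    have h2 := Finset.prod_range_succ (fun i => Abelianization.of ((α ^ i) x)) q
    rw [Finset.prod_range_succ', h.mn.pw, pow_zero] at h2
    simpa [pow_succ] using h2) z
  have h3 : ∀ m : ℕ, (α ^ m) z = z := by
    intro m
    induction m with
    | zero => simp
    | succ m ih => rw [pow_succ, MulAut.mul_apply, h.fix hz, ih]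
  rw [hN] at h1
  simp only [h3, Finset.prod_const, Finset.card_range] at h1
  have h4 := eq_one_of_pow (h.mn.pg.of_surjective Abelianization.of
    (QuotientGroup.mk'_surjective _)) h.fd.ne h1
  rw [← Abelianization.ker_of]
  exact h4

theorem Co.ker_spec (h : Co p q a α ζ e) :
    (∀ z, e z = 1 → ∃ d, ∀ x y, toAdd (e x) = 1 → toAdd (e y) = d → z = ⁅x, y⁆) ∧
      Nat.card e.ker ≤ p ^ (if a % 2 = 1 then 0 else a / 2) := by
  obtain ⟨γ, h1, h2, h3⟩ := h.exists_form
  let D : Subgroup P := ((γ 1).range.toSubgroup').map (Subgroup.center P).subtype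
  have hD : ∀ z, e z = 1 → z ∈ D := by
    intro z hz
    have : commutator P ≤ D := by
      rw [commutator_def, Subgroup.commutator_le]
      intro x _ y _
      exact ⟨_, h.fd.mem_range γ h2 (toAdd (e x)) (toAdd (e y)), h1 x y⟩
    exact this (h.mem_comm hz)
  refine ⟨fun z hz => ?_, ?_⟩
  · obtain ⟨w, ⟨d, hd⟩, rfl⟩ := hD z hz
    refine ⟨d, fun x y hx hy => ?_⟩
    rw [← h1, hx, hy, hd]; rfl
  · have h4 : Nat.card e.ker ≤ Nat.card (γ 1).range := by
      refine (Subgroup.card_le_of_le (fun z hz => hD z hz)).trans (le_of_eq ?_)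
      rw [Subgroup.card_map_of_injective (Subgroup.subtype_injective _)]
      rfl
    refine h4.trans ?_
    split_ifs with he
    · rw [pow_zero]
      apply le_of_eq
      rw [AddSubgroup.card_eq_one, eq_bot_iff]
      rintro _ ⟨d, rfl⟩
      exact h.fd.odd_zero γ he h2 h3 d
    · exact h.fd.even_bound γ he h2 h3

theorem Co.fr (h : Co p q a α ζ e) (K : Subgroup P) (hK : ∀ c, ∃ x ∈ K, toAdd (e x) = c) :
    K = ⊤ := by
  rw [eq_top_iff]
  intro g _
  obtain ⟨x, hx, hxg⟩ := hK (toAdd (e g))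
  obtain ⟨d, hd⟩ := h.ker_spec.1 (x⁻¹ * g) (by rw [map_mul, map_inv, toAdd.injective hxg]; simp)
  obtain ⟨u, hu, hu1⟩ := hK 1
  obtain ⟨v, hv, hv1⟩ := hK d
  have : g = x * ⁅u, v⁆ := by rw [← hd u v hu1 hv1]; group
  rw [this, commutatorElement_def]
  exact mul_mem hx (mul_mem (mul_mem (mul_mem hu hv) (inv_mem hu)) (inv_mem hv))

theorem Co.card_eq (h : Co p q a α ζ e) : Nat.card P = Nat.card e.ker * p ^ a := by
  rw [← e.ker.card_mul_index, Subgroup.index_ker,
    MonoidHom.range_eq_top.2 (fun c => h.surj (toAdd c)), Subgroup.card_top, ← h.fd.card]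
  rfl

theorem Co.card_le (h : Co p q a α ζ e) :
    Nat.card P ≤ p ^ (if a % 2 = 1 then a else 3 * a / 2) := by
  rw [h.card_eq]
  refine (Nat.mul_le_mul_right _ h.ker_spec.2).trans (le_of_eq ?_)
  rw [← pow_add]
  congr 1
  split_ifs <;> omega

end Sm
end H86
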