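import Mathlib
import Cfsg.Agent.Lib.Blk86.Schm2

/-!
The universal Schmidt `p`-group with its automorphism.
-/

set_option autoImplicit false
set_option linter.unusedSectionVars false
set_option linter.style.haveILetI false

namespace H86
namespace Sm

open Multiplicative
open scoped commutatorElement

variable {p q : ℕ} [hp : Fact p.Prime] [hq : Fact q.Prime]
variable {a : ℕ} {F : Type*} [Field F] [Finite F] {ζ : F}

theorem exists_min (hF : Fd p q a F ζ) {H : Type*} [Group H] [Finite H] (hH : IsPGroup p H)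
    (A : MulAut H) (hA : A ^ q = 1) (e : H →* Multiplicative F) (W : Subgroup H)
    (hW : ∀ x ∈ W, A x ∈ W) (heq : ∀ x, toAdd (e (A x)) = ζ * toAdd (e x))
    (hfix : ∀ x ∈ W, e x = 1 → A x = x) (h0 : ∃ x ∈ W, e x ≠ 1) :
    ∃ Y ≤ W, ∃ β : MulAut Y, (∀ y, (β y : H) = A y) ∧ Co p q a β ζ (e.comp Y.subtype) := by
  obtain ⟨Y, ⟨hYW, hYA, hY0⟩, hmin⟩ := (wellFounded_lt (α := Subgroup H)).has_min
    {Y | Y ≤ W ∧ (∀ x ∈ Y, A x ∈ Y) ∧ ∃ x ∈ Y, e x ≠ 1} ⟨W, le_rfl, hW, h0⟩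
  let f : Y →* Y := (A.toMonoidHom.comp Y.subtype).codRestrict Y (fun y => hYA _ y.2)
  have hf : Function.Injective f := fun x y hxy =>
    Subtype.ext (A.injective (congrArg Subtype.val hxy))
  let β : MulAut Y := MulEquiv.ofBijective f (Finite.injective_iff_bijective.1 hf)
  have hβ : ∀ y, (β y : H) = A y := fun _ => rfl
  have hβn : ∀ (n : ℕ) y, ((β ^ n) y : H) = (A ^ n) y := by
    intro n
    induction n with
    | zero => intro y; rfl
    | succ n ih => intro y; rw [pow_succ, pow_succ, MulAut.mul_apply, MulAut.mul_apply, ih, hβ]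
  obtain ⟨x0, hx0, hx1⟩ := hY0
  refine ⟨Y, hYW, β, hβ, ⟨hH.to_subgroup Y, ?_, ?_, ?_⟩, hF, ⟨⟨x0, hx0⟩, hx1⟩, fun y => heq y⟩
  · ext y; rw [hβn, hA]; rfl
  · intro h1
    have h2 := heq x0
    rw [← hβ ⟨x0, hx0⟩, h1] at h2
    have h3 : (ζ - 1) * toAdd (e x0) = 0 := by rw [sub_mul, ← h2]; simp
    rcases mul_eq_zero.1 h3 with h4 | h4
    · exact hF.ne1 (sub_eq_zero.1 h4)
    · exact hx1 h4
  · intro K hK hK' x hx
    apply Subtype.ext
    rw [hβ]
    apply hfix _ (hYW x.2)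
    by_contra hne
    refine hmin (K.map Y.subtype) ⟨(Subgroup.map_subtype_le K).trans hYW, ?_, x, ⟨x, hx, rfl⟩, hne⟩ ?_
    · rintro _ ⟨y, hy, rfl⟩
      exact ⟨β y, hK y hy, rfl⟩
    · refine lt_of_le_of_ne (Subgroup.map_subtype_le K) (fun h1 => hK' ?_)
      rw [eq_top_iff]
      intro y _
      obtain ⟨w, hw, hwy⟩ := (h1.symm ▸ y.2 : (y : H) ∈ K.map Y.subtype)
      rwa [← Subtype.ext hwy]

theorem Co.lift {P₀ P : Type*} [Group P₀] [Finite P₀] [Group P] [Finite P] {α₀ : MulAut P₀}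
    {α : MulAut P} {e₀ : P₀ →* Multiplicative F} {e : P →* Multiplicative F}
    (h₀ : Co p q a α₀ ζ e₀) (h : Co p q a α ζ e)
    (hc : Nat.card P₀ = p ^ (if a % 2 = 1 then a else 3 * a / 2)) :
    ∃ f : P₀ →* P, Function.Surjective f ∧ (∀ x, f (α₀ x) = α (f x)) ∧ ∀ x, e (f x) = e₀ x := by
  let A : MulAut (P₀ × P) := MulEquiv.prodCongr α₀ α
  have hAn : ∀ (n : ℕ) (x : P₀ × P), (A ^ n) x = ((α₀ ^ n) x.1, (α ^ n) x.2) := by
    intro n
    induction n with
    | zero => intro y; rfl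
    | succ n ih =>
      intro y; rw [pow_succ, pow_succ, pow_succ, MulAut.mul_apply, MulAut.mul_apply,
        MulAut.mul_apply, ih]; rfl
  have hH : IsPGroup p (P₀ × P) := by
    intro x
    obtain ⟨m, hm⟩ := h₀.mn.pg x.1
    obtain ⟨n, hn⟩ := h.mn.pg x.2
    refine ⟨m + n, Prod.ext ?_ ?_⟩
    · rw [Prod.pow_fst, pow_add, pow_mul, hm, one_pow]; rfl
    · rw [Prod.pow_snd, add_comm, pow_add, pow_mul, hn, one_pow]; rfl
  let W : Subgroup (P₀ × P) := (e₀.comp (MonoidHom.fst _ _)).eqLocus (e.comp (MonoidHom.snd _ _))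
  have hW : ∀ x, x ∈ W ↔ e₀ x.1 = e x.2 := fun _ => Iff.rfl
  obtain ⟨Y, hYW, β, hβ, hY⟩ := exists_min h₀.fd hH A
    (by ext x <;> rw [hAn] <;> simp [h₀.mn.pw, h.mn.pw]) (e₀.comp (MonoidHom.fst _ _)) W
    (fun x hx => by
      rw [hW] at hx ⊢
      exact toAdd.injective (by
        show toAdd (e₀ (α₀ x.1)) = toAdd (e (α x.2))
        rw [h₀.eqv, h.eqv, hx]))
    (fun x => h₀.eqv x.1)
    (fun x hx h1 => Prod.ext (h₀.fix h1) (h.fix (((hW x).1 hx).symm.trans h1)))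
    (by
      obtain ⟨x, hx⟩ := h₀.ne
      obtain ⟨y, hy⟩ := h.surj (toAdd (e₀ x))
      exact ⟨(x, y), (hW _).2 (toAdd.injective hy.symm), hx⟩)
  let π₁ : Y →* P₀ := (MonoidHom.fst _ _).comp Y.subtype
  let π₂ : Y →* P := (MonoidHom.snd _ _).comp Y.subtype
  have h12 : ∀ y, e (π₂ y) = e₀ (π₁ y) := fun y => ((hW _).1 (hYW y.2)).symm
  have h1 : Function.Surjective π₁ := MonoidHom.range_eq_top.1 (h₀.fr _ (fun c => by
    obtain ⟨y, hy⟩ := hY.surj c
    exact ⟨π₁ y, ⟨y, rfl⟩, hy⟩))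
  have h2 : Function.Surjective π₂ := MonoidHom.range_eq_top.1 (h.fr _ (fun c => by
    obtain ⟨y, hy⟩ := hY.surj c
    exact ⟨π₂ y, ⟨y, rfl⟩, by rw [h12]; exact hy⟩))
  have hb : Function.Bijective π₁ := h1.bijective_of_nat_card_le (hc ▸ hY.card_le)
  let E : Y ≃* P₀ := MulEquiv.ofBijective π₁ hb
  refine ⟨π₂.comp E.symm.toMonoidHom, h2.comp E.symm.surjective, fun x => ?_, fun x => ?_⟩
  · obtain ⟨y, rfl⟩ := E.surjective x
    have : α₀ (E y) = E (β y) := (congrArg Prod.fst (hβ y)).symm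
    rw [this]
    simp only [MonoidHom.comp_apply, MulEquiv.coe_toMonoidHom, MulEquiv.symm_apply_apply]
    exact congrArg Prod.snd (hβ y)
  · obtain ⟨y, rfl⟩ := E.surjective x
    simp only [MonoidHom.comp_apply, MulEquiv.coe_toMonoidHom, MulEquiv.symm_apply_apply]
    exact h12 y

theorem Co.lift' {P₀ P : Type*} [Group P₀] [Finite P₀] [Group P] [Finite P] {α₀ : MulAut P₀}
    {α : MulAut P} {e₀ : P₀ →* Multiplicative F} (h₀ : Co p q a α₀ ζ e₀) (h : Mn p q α)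
    (hc : Nat.card P₀ = p ^ (if a % 2 = 1 then a else 3 * a / 2)) :
    ∃ k : ℕ, ¬ q ∣ k ∧ ∃ f : P₀ →* P, Function.Surjective f ∧ (∀ x, f (α₀ x) = (α ^ k) (f x)) ∧
      ∀ x, f x = 1 → e₀ x = 1 := by
  obtain ⟨μ, e, he⟩ := h.exists_co h₀.fd
  have : NeZero q := ⟨hq.out.ne_zero⟩
  obtain ⟨k, -, hk⟩ := he.fd.prim.eq_pow_of_pow_eq_one h₀.fd.pw
  have hqk : ¬ q ∣ k := by
    rintro ⟨l, rfl⟩
    rw [pow_mul, he.fd.pw, one_pow] at hk
    exact h₀.fd.ne1 hk.symm
  have h1 : ∀ (n : ℕ) x, toAdd (e ((α ^ n) x)) = μ ^ n * toAdd (e x) := by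
    intro n
    induction n with
    | zero => intro x; simp
    | succ n ih => intro x; rw [pow_succ, MulAut.mul_apply, ih, he.eqv]; ring
  obtain ⟨f, hf1, hf2, hf3⟩ := h₀.lift (e := e) ⟨h.pow hqk, h₀.fd, he.ne, fun x => hk ▸ h1 k x⟩ hc
  exact ⟨k, hqk, f, hf1, hf2, fun x hx => by rw [← hf3, hx, map_one]⟩

/-- The central extension of `F` by `F` given by a biadditive map. -/
@[ext] structure Hb {F : Type*} [Field F] (B : F →+ F →+ F) where
  u : F
  t : F

namespace Hb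
variable {B : F →+ F →+ F}
instance : Mul (Hb B) := ⟨fun x y => ⟨x.u + y.u, x.t + y.t + B x.u y.u⟩⟩
instance : One (Hb B) := ⟨⟨0, 0⟩⟩
instance : Inv (Hb B) := ⟨fun x => ⟨-x.u, -x.t + B x.u x.u⟩⟩
@[simp] theorem mul_u (x y : Hb B) : (x * y).u = x.u + y.u := rfl
@[simp] theorem mul_t (x y : Hb B) : (x * y).t = x.t + y.t + B x.u y.u := rfl
@[simp] theorem one_u : (1 : Hb B).u = 0 := rfl
@[simp] theorem one_t : (1 : Hb B).t = 0 := rfl
@[simp] theorem inv_u (x : Hb B) : (x⁻¹).u = -x.u := rfl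
@[simp] theorem inv_t (x : Hb B) : (x⁻¹).t = -x.t + B x.u x.u := rfl
instance : Group (Hb B) := Group.ofLeftAxioms
  (fun x y z => by ext <;> simp <;> ring) (fun x => by ext <;> simp) (fun x => by ext <;> simp)
/-- Coordinates. -/
def equivProd : Hb B ≃ F × F := ⟨fun x => (x.u, x.t), fun x => ⟨x.1, x.2⟩, fun _ => rfl, fun _ => rfl⟩
instance : Finite (Hb B) := Finite.of_equiv _ equivProd.symm
end Hb

theorem exists_of_form (hF : Fd p q a F ζ) (B : F →+ F →+ F)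
    (hB : ∀ c d, B (ζ * c) (ζ * d) = B c d) :
    ∃ (Y : Subgroup (Hb B)) (β : MulAut Y) (e : Y →* Multiplicative F), Co p q a β ζ e ∧
      Nat.card (B 1 - B.flip 1).range * p ^ a ≤ Nat.card Y := by
  have hH : IsPGroup p (Hb B) := IsPGroup.of_card (n := a + a) (by
    rw [Nat.card_congr Hb.equivProd, Nat.card_prod, hF.card, pow_add])
  let A : MulAut (Hb B) :=
    { toFun := fun x => ⟨ζ * x.u, x.t⟩
      invFun := fun x => ⟨ζ⁻¹ * x.u, x.t⟩
      left_inv := fun x => by ext <;> simp [hF.ne0]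
      right_inv := fun x => by ext <;> simp [hF.ne0]
      map_mul' := fun x y => by ext <;> simp [mul_add, hB] }
  have hAn : ∀ (n : ℕ) (x : Hb B), (A ^ n) x = ⟨ζ ^ n * x.u, x.t⟩ := by
    intro n
    induction n with
    | zero => intro y; simp
    | succ n ih =>
      intro y; rw [pow_succ, MulAut.mul_apply, ih]
      ext
      · show ζ ^ n * (ζ * y.u) = ζ ^ (n + 1) * y.u
        ring
      · rfl
  let e : Hb B →* Multiplicative F := ⟨⟨fun x => ofAdd x.u, rfl⟩, fun _ _ => rfl⟩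
  obtain ⟨Y, -, β, -, hY⟩ := exists_min hF hH A (by ext x <;> rw [hAn] <;> simp [hF.pw]) e ⊤
    (fun _ _ => trivial) (fun _ => rfl)
    (fun x _ hx => by
      have : x.u = 0 := hx
      ext
      · show ζ * x.u = x.u
        rw [this, mul_zero]
      · rfl)
    ⟨⟨1, 0⟩, trivial, fun h => one_ne_zero (α := F) h⟩
  refine ⟨Y, β, _, hY, ?_⟩
  rw [hY.card_eq]
  apply Nat.mul_le_mul_right
  have hmem : ∀ t : (B 1 - B.flip 1).range, (⟨0, t⟩ : Hb B) ∈ Y := by
    rintro ⟨_, d, rfl⟩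
    obtain ⟨x, hx⟩ := hY.surj 1
    obtain ⟨y, hy⟩ := hY.surj d
    have hx' : (x : Hb B).u = 1 := hx
    have hy' : (y : Hb B).u = d := hy
    have : (⟨0, (B 1 - B.flip 1) d⟩ : Hb B) = ((x * y * x⁻¹ * y⁻¹ : Y) : Hb B) := by
      ext
      · simp [hx', hy']
      · simp [hx', hy']; ring
    rw [this]; exact Subtype.prop _
  exact Nat.card_le_card_of_injective (fun t => (⟨⟨⟨0, t⟩, hmem t⟩, rfl⟩ : (e.comp Y.subtype).ker))
    (fun s t hst => Subtype.ext (congrArg (fun w => (w.1.1 : Hb B).t) hst))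

theorem exists_max (hF : Fd p q a F ζ) :
    ∃ (B : F →+ F →+ F) (Y : Subgroup (Hb B)) (β : MulAut Y) (e : Y →* Multiplicative F),
      Co p q a β ζ e ∧ Nat.card Y = p ^ (if a % 2 = 1 then a else 3 * a / 2) := by
  by_cases he : a % 2 = 1
  · obtain ⟨Y, β, e, h1, h2⟩ := exists_of_form hF 0 (fun _ _ => rfl)
    refine ⟨0, Y, β, e, h1, le_antisymm h1.card_le ?_⟩
    rw [if_pos he]
    exact (Nat.le_mul_of_pos_left _ Nat.card_pos).trans h2
  · have := hF.charP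
    let σ : F →+* F := iterateFrobenius F p (a / 2)
    have hσ : ∀ c, σ c = c ^ p ^ (a / 2) := fun c => rfl
    let B : F →+ F →+ F := AddMonoidHom.mk' (fun c => AddMonoidHom.mk' (fun d => c * σ d)
      (fun d d' => by rw [map_add, mul_add])) (fun c c' => by ext d; exact add_mul _ _ _)
    have hB : ∀ c d, B c d = c * σ d := fun _ _ => rfl
    obtain ⟨Y, β, e, h1, h2⟩ := exists_of_form hF B (fun c d => by
      rw [hB, hB, map_mul, hσ ζ]
      linear_combination (c * σ d) * hF.inv he)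
    refine ⟨B, Y, β, e, h1, le_antisymm h1.card_le ?_⟩
    rw [if_neg he, show 3 * a / 2 = a / 2 + a by omega, pow_add]
    refine (Nat.mul_le_mul_right _ (hF.range_ge he (-1) _ (fun c => ?_))).trans h2
    simp [hB, hσ, sub_eq_add_neg]

theorem exists_fd (hpq : p ≠ q) (ha : a = orderOf (p : ZMod q)) :
    ∃ ζ : GaloisField p a, Fd p q a (GaloisField p a) ζ := by
  have h0 : (p : ZMod q) ≠ 0 := by
    rw [Ne, ZMod.natCast_eq_zero_iff]
    exact fun h => hpq ((Nat.prime_dvd_prime_iff_eq hq.out hp.out).1 h).symm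
  have hpos : 0 < a := by
    rw [ha]
    exact (isOfFinOrder_iff_pow_eq_one.2 ⟨q - 1, by have := hq.out.two_le; omega,
      ZMod.pow_card_sub_one_eq_one h0⟩).orderOf_pos
  have hc : Nat.card (GaloisField p a) = p ^ a := GaloisField.card p a hpos.ne'
  have hd : q ∣ Nat.card (GaloisField p a)ˣ := by
    rw [Nat.card_units, hc, ← ZMod.natCast_eq_zero_iff, Nat.cast_sub (Nat.one_le_pow _ _ hp.out.pos)]
    push_cast
    rw [ha, pow_orderOf_eq_one, sub_self]
  obtain ⟨u, hu⟩ := exists_prime_orderOf_dvd_card' q hd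
  refine ⟨u, hc, ha, hpq, fun h => ?_, ?_⟩
  · rw [Units.val_eq_one] at h
    rw [h, orderOf_one] at hu
    exact hq.out.one_lt.ne hu
  · rw [← Units.val_pow_eq_pow_val, ← hu, pow_orderOf_eq_one, Units.val_one]

end Sm
end H86
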