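import Mathlib
import Cfsg.Agent.Lib.Blk86.Schm3
import Cfsg.Agent.Lib.Transfer.NormalComplement
import Cfsg.Agent.S0132

/-!
The universal minimal non-`p`-nilpotent group with given `q`-part.
-/

set_option autoImplicit false
set_option linter.unusedSectionVars false
set_option linter.style.haveILetI false

namespace H86
namespace Sm

open Multiplicative Cfsg SemidirectProduct

/-- The homomorphism from a cyclic group given by an element with `t ^ n = 1`. -/
noncomputable def zh {A : Type*} [Group A] (n : ℕ) (t : A) (ht : t ^ n = 1) :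
    Multiplicative (ZMod n) →* A :=
  AddMonoidHom.toMultiplicativeLeft (ZMod.lift n ⟨zmultiplesHom (Additive A) (Additive.ofMul t), by
    simpa using congrArg Additive.ofMul ht⟩)

theorem zh_nat {A : Type*} [Group A] (n : ℕ) (t : A) (ht : t ^ n = 1) (k : ℕ) :
    zh n t ht (ofAdd (k : ZMod n)) = t ^ k := by
  have : ∀ m : ℤ, zh n t ht (ofAdd (m : ZMod n)) = t ^ m := fun m => by simp [zh]
  simpa using this k

theorem exists_nat {n : ℕ} [NeZero n] (c : Multiplicative (ZMod n)) :
    ∃ j : ℕ, c = ofAdd (j : ZMod n) := ⟨(toAdd c).val, by simp⟩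

variable {p q r : ℕ} [hp : Fact p.Prime] [hq : Fact q.Prime]

theorem eq_one_of_cop {A : Type*} [Group A] {x : A} {m n : ℕ} (hm : x ^ m = 1) (hn : x ^ n = 1)
    (h : m.Coprime n) : x = 1 := by
  have h1 := Nat.dvd_gcd (orderOf_dvd_of_pow_eq_one hm) (orderOf_dvd_of_pow_eq_one hn)
  rwa [h, Nat.dvd_one, orderOf_eq_one_iff] at h1

theorem extract (hpq : p ≠ q) (hr : 1 ≤ r) {X : Type*} [Group X] [Finite X]
    (h1 : ¬ HasNormalPComplement p X) (h2 : ∀ K : Subgroup X, K ≠ ⊤ → HasNormalPComplement p K)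
    {t : ℕ} (hc : Nat.card X = p ^ t * q ^ r) :
    ∃ (P : Subgroup X) (_ : P.Normal) (y : X), orderOf y = q ^ r ∧ P ⊔ Subgroup.zpowers y = ⊤ ∧
      Mn p q (MulAut.conjNormal (H := P) y) := by
  obtain ⟨P⟩ : Nonempty (Sylow p X) := inferInstance
  haveI hPn := (Cfsg.Agent.S0132.result h1 h2).2.2 P
  have hcop : Nat.Coprime q p := (Nat.coprime_primes hq.out hp.out).2 hpq.symm
  rw [H4.hasNormalPComplement_iff_forall_le_sylow P] at h1
  push Not at h1
  obtain ⟨Q, hQ, y, -, hyc, hy⟩ := h1
  have hyP : y ∉ Subgroup.centralizer (P : Set X) := fun h =>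
    hy (Subgroup.centralizer_le hQ h)
  have hcent : ∀ (K : Subgroup X) (g : X), K ≤ P → g ∈ Subgroup.normalizer (K : Set X) →
      (orderOf g).Coprime p → K ⊔ Subgroup.zpowers g ≠ ⊤ → g ∈ Subgroup.centralizer (K : Set X) :=
    fun K g hK hg hgc hne => H4.mem_centralizer_of_hasNormalPComplement (h2 _ hne)
      (P.isPGroup'.to_le hK) le_sup_left (Subgroup.mem_sup_right (Subgroup.mem_zpowers g)) hg hgc
  have hnorm : ∀ g : X, g ∈ Subgroup.normalizer ((P : Subgroup X) : Set X) := fun g =>
    (Subgroup.normalizer_eq_top (P : Subgroup X)) ▸ Subgroup.mem_top g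
  have htop : (P : Subgroup X) ⊔ Subgroup.zpowers y = ⊤ := by
    by_contra hne
    exact hyP (hcent P y le_rfl (hnorm y) hyc hne)
  have hdv : ∀ g : X, (P : Subgroup X) ⊔ Subgroup.zpowers g = ⊤ → q ^ r ∣ orderOf g := by
    intro g hg
    obtain ⟨n, hn⟩ := IsPGroup.iff_card.1 P.isPGroup'
    have h3 : q ^ r ∣ (P : Subgroup X).index := by
      have := (P : Subgroup X).card_mul_index
      rw [hn, hc] at this
      exact Nat.Coprime.dvd_of_dvd_mul_left (Nat.Coprime.pow r n hcop) (this ▸ dvd_mul_left _ _)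
    have h4 : Subgroup.zpowers (QuotientGroup.mk' (P : Subgroup X) g) = ⊤ := by
      rw [← MonoidHom.map_zpowers, ← Subgroup.map_top_of_surjective _
        (QuotientGroup.mk'_surjective (P : Subgroup X)), ← hg, Subgroup.map_sup,
        (Subgroup.map_eq_bot_iff _).2 (QuotientGroup.ker_mk' _).ge, bot_sup_eq]
    refine h3.trans (Dvd.dvd.trans (dvd_of_eq ?_) (orderOf_map_dvd (QuotientGroup.mk' P.1) g))
    rw [← Nat.card_zpowers, h4, Subgroup.card_top]; rfl
  have hord : orderOf y = q ^ r := by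
    refine Nat.dvd_antisymm ?_ (hdv y htop)
    exact Nat.Coprime.dvd_of_dvd_mul_left (Nat.Coprime.pow_right t hyc) (hc ▸ orderOf_dvd_natCard y)
  refine ⟨P, hPn, y, hord, htop, P.isPGroup', ?_, ?_, ?_⟩
  · have h3 : (y ^ q) ^ q ^ (r - 1) = 1 := by
      rw [← pow_mul, ← pow_succ', show r - 1 + 1 = r by omega, ← hord, pow_orderOf_eq_one]
    have h4 := hcent P (y ^ q) le_rfl (hnorm _)
      (Nat.Coprime.coprime_dvd_left (orderOf_pow_dvd q) hyc) (fun h => by
        have := (hdv _ h).trans (orderOf_dvd_of_pow_eq_one h3)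
        rw [Nat.pow_dvd_pow_iff_le_right hq.out.one_lt] at this
        omega)
    rw [← map_pow]
    ext x
    simp only [MulAut.conjNormal_apply, MulAut.one_apply]
    rw [← h4 x x.2]; group
  · intro h
    apply hyP
    intro x hx
    have := congrArg Subtype.val (DFunLike.congr_fun h ⟨x, hx⟩)
    simp only [MulAut.conjNormal_apply, MulAut.one_apply] at this
    rw [mul_inv_eq_iff_eq_mul] at this
    exact this.symm
  · intro K hK hK' x hx
    have hn : y ∈ Subgroup.normalizer ((K.map (P : Subgroup X).subtype : Subgroup X) : Set X) := by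
      apply Subgroup.mem_normalizer_fintype
      rintro _ ⟨w, hw, rfl⟩
      exact ⟨_, hK w hw, rfl⟩
    have h4 := hcent _ y (Subgroup.map_subtype_le K) hn hyc (fun h => hK' (by
      rw [eq_top_iff]
      intro w _
      have h5 : (w : X) ∈ ((K.map (P : Subgroup X).subtype ⊔ Subgroup.zpowers y : Subgroup X) :
        Set X) := h ▸ Subgroup.mem_top _
      rw [Subgroup.coe_mul_of_right_le_normalizer_left _ _ (Subgroup.zpowers_le.2 hn)] at h5
      obtain ⟨_, ⟨k, hk, rfl⟩, u, hu, huw⟩ := h5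
      have h6 : u ∈ (P : Subgroup X) := by
        have : u = (k : X)⁻¹ * w := by rw [← huw]; simp
        rw [this]; exact mul_mem (inv_mem k.2) w.2
      obtain ⟨n, hn⟩ := P.isPGroup' ⟨u, h6⟩
      have h7 : u = 1 := by
        refine eq_one_of_cop (m := orderOf y) (n := p ^ n) ?_ (congrArg Subtype.val hn)
          (Nat.Coprime.pow_right _ hyc)
        obtain ⟨i, rfl⟩ := hu
        rw [← zpow_natCast, ← zpow_mul, mul_comm, zpow_mul, zpow_natCast, pow_orderOf_eq_one,
          one_zpow]
      rw [h7] at huw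
      have : k = w := Subtype.ext (by simpa using huw)
      exact this ▸ hk))
    apply Subtype.ext
    simp only [MulAut.conjNormal_apply]
    rw [← h4 x ⟨x, hx, rfl⟩]; group

variable {a : ℕ} {F : Type*} [Field F] [Finite F] {ζ : F}
variable {P : Type*} [Group P] [Finite P] {α : MulAut P} {e : P →* Multiplicative F}

theorem Co.pow_eqv (h : Co p q a α ζ e) (n : ℕ) (x : P) :
    toAdd (e ((α ^ n) x)) = ζ ^ n * toAdd (e x) := by
  induction n generalizing x with
  | zero => simp
  | succ n ih => rw [pow_succ, MulAut.mul_apply, ih, h.eqv]; ring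

theorem Co.pow_fix (h : Co p q a α ζ e) (n : ℕ) {x : P} (hx : e x = 1) : (α ^ n) x = x := by
  induction n with
  | zero => simp
  | succ n ih => rw [pow_succ, MulAut.mul_apply, h.fix hx, ih]

theorem Co.commute (h : Co p q a α ζ e) (hα : α ^ q ^ r = 1) {x : P} (hx : e x = 1)
    (g : P ⋊[zh (q ^ r) α hα] Multiplicative (ZMod (q ^ r))) : g * inl x = inl x * g := by
  have : NeZero (q ^ r) := ⟨pow_ne_zero _ hq.out.ne_zero⟩
  obtain ⟨j, hj⟩ := exists_nat g.right
  ext
  · simp only [mul_left, left_inl, right_inl, map_one, MulAut.one_apply]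
    rw [hj, zh_nat, h.pow_fix j hx]
    exact Subgroup.mem_center_iff.1 (h.central hx) _
  · simp

theorem Co.minimal (h : Co p q a α ζ e) (hα : α ^ q ^ r = 1) :
    ¬ HasNormalPComplement p (P ⋊[zh (q ^ r) α hα] Multiplicative (ZMod (q ^ r))) ∧
      ∀ K : Subgroup (P ⋊[zh (q ^ r) α hα] Multiplicative (ZMod (q ^ r))), K ≠ ⊤ →
        HasNormalPComplement p K := by
  have : NeZero (q ^ r) := ⟨pow_ne_zero _ hq.out.ne_zero⟩
  have : Finite (P ⋊[zh (q ^ r) α hα] Multiplicative (ZMod (q ^ r))) :=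
    Finite.of_equiv _ equivProd.symm
  have hcop : Nat.Coprime q p := (Nat.coprime_primes hq.out hp.out).2 h.fd.ne.symm
  have hC : ∀ c : Multiplicative (ZMod (q ^ r)), c ^ q ^ r = 1 := fun c => by
    have := pow_card_eq_one' (x := c)
    simpa using this
  constructor
  · intro hn
    have h1 : IsPGroup p (inl : P →* P ⋊[zh (q ^ r) α hα] Multiplicative (ZMod (q ^ r))).range :=
      h.mn.pg.of_surjective _ (MonoidHom.rangeRestrict_surjective _)
    have h2 := H4.mem_centralizer_of_hasNormalPComplement' hn h1 (g := inr (ofAdd ((1 : ℕ) : ZMod _)))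
      (by
        rw [range_inl_eq_ker_rightHom, Subgroup.normalizer_eq_top]; trivial)
      (Nat.Coprime.coprime_dvd_left (orderOf_dvd_of_pow_eq_one (by rw [← map_pow, hC, map_one]))
        (Nat.Coprime.pow_left r hcop))
    apply h.mn.ne
    ext x
    have h3 := congrArg SemidirectProduct.left (h2 (inl x) ⟨x, rfl⟩)
    simp only [mul_left, left_inl, right_inl, map_one, left_inr, right_inr, mul_one, one_mul] at h3
    rw [zh_nat, pow_one] at h3
    exact h3.symm
  · intro K hK
    rw [H4.hasNormalPComplement_iff_forall_isPGroup]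
    intro X hX g _ hgc w hw
    apply Subtype.ext
    rw [← Subgroup.orderOf_coe] at hgc
    obtain ⟨g, hg⟩ := g
    obtain ⟨w, hwK⟩ := w
    show w * g = g * w
    have hw1 : w.right = 1 := by
      obtain ⟨n, hn⟩ := hX ⟨_, hw⟩
      have h1 : w ^ p ^ n = 1 := congrArg Subtype.val (congrArg Subtype.val hn)
      have h2 : (rightHom w) ^ p ^ n = 1 := by rw [← map_pow, h1, map_one]
      exact eq_one_of_cop (hC _) h2 (Nat.Coprime.pow r n hcop)
    obtain ⟨v, rfl⟩ : ∃ v, w = inl v := ⟨w.left, by ext <;> simp [hw1]⟩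
    obtain ⟨j, hj⟩ := exists_nat g.right
    by_cases hqj : q ∣ j
    · have h1 : zh (q ^ r) α hα g.right = 1 := by
        obtain ⟨l, rfl⟩ := hqj
        rw [hj, zh_nat, pow_mul, h.mn.pw, one_pow]
      have h2 : ∀ n : ℕ, (g ^ n).left = g.left ^ n := by
        intro n
        induction n with
        | zero => simp
        | succ n ih => rw [pow_succ', mul_left, h1, ih, pow_succ']; rfl
      have h3 : g.left = 1 := by
        obtain ⟨n, hn⟩ := h.mn.pg g.left
        refine eq_one_of_cop (m := orderOf g) ?_ hn (Nat.Coprime.pow_right n hgc)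
        rw [← h2, pow_orderOf_eq_one]; rfl
      ext
      · simp [h1, h3]
      · simp
    · by_cases hev : e v = 1
      · exact (h.commute hα hev g).symm
      exfalso
      have hF : Fd p q a F (ζ ^ j) := h.fd.other
        (fun h1 => hqj (h.fd.prim.dvd_of_pow_eq_one _ h1))
        (by rw [← pow_mul, mul_comm, pow_mul, h.fd.pw, one_pow])
      have h1 : K.comap inl = ⊤ := h.fr _ (h.onto _ hF (fun x hx => by
        refine ⟨g.left * (α ^ j) x * g.left⁻¹, ?_, ?_⟩
        · have : (inl (g.left * (α ^ j) x * g.left⁻¹) :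
              P ⋊[zh (q ^ r) α hα] Multiplicative (ZMod (q ^ r))) = g * inl x * g⁻¹ := by
            rw [map_mul, map_mul, ← zh_nat (q ^ r) α hα, ← hj, inl_aut, map_inv, map_inv]
            conv_rhs => rw [← inl_left_mul_inr_right g]
            group
          rw [Subgroup.mem_comap, this]
          exact mul_mem (mul_mem hg hx) (inv_mem hg)
        · rw [← h.pow_eqv]; simp) ⟨v, hwK, hev⟩)
      have h2 : ∀ x, inl x ∈ K := fun x => (h1 ▸ Subgroup.mem_top x : x ∈ K.comap inl)
      have h3 : inr g.right ∈ K := by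
        have : inr g.right = (inl g.left)⁻¹ * g := by
          rw [eq_inv_mul_iff_mul_eq, inl_left_mul_inr_right]
        rw [this]; exact mul_mem (inv_mem (h2 _)) hg
      apply hK
      rw [eq_top_iff]
      intro u _
      rw [← inl_left_mul_inr_right u]
      refine mul_mem (h2 _) ?_
      have hu : IsUnit (j : ZMod (q ^ r)) := (ZMod.isUnit_iff_coprime _ _).2
        (Nat.Coprime.pow_right r ((Nat.Prime.coprime_iff_not_dvd hq.out).2 hqj).symm)
      obtain ⟨m, hm⟩ := hu.exists_left_inv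
      have : u.right = g.right ^ (toAdd u.right * m).val := by
        apply toAdd.injective
        rw [hj, toAdd_pow, toAdd_ofAdd, nsmul_eq_mul, ZMod.natCast_zmod_val, mul_assoc, hm, mul_one]
      rw [this, map_pow]
      exact pow_mem h3 _

theorem Co.universal (h : Co p q a α ζ e) (hα : α ^ q ^ r = 1) (hr : 1 ≤ r)
    (hP : Nat.card P = p ^ (if a % 2 = 1 then a else 3 * a / 2))
    {X : Type*} [Group X] [Finite X]
    (h1 : ¬ HasNormalPComplement p X) (h2 : ∀ K : Subgroup X, K ≠ ⊤ → HasNormalPComplement p K)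
    {t : ℕ} (hc : Nat.card X = p ^ t * q ^ r) :
    ∃ φ : (P ⋊[zh (q ^ r) α hα] Multiplicative (ZMod (q ^ r))) →* X, Function.Surjective φ ∧
      φ.ker ≤ Subgroup.center _ := by
  have : NeZero (q ^ r) := ⟨pow_ne_zero _ hq.out.ne_zero⟩
  have hcop : Nat.Coprime q p := (Nat.coprime_primes hq.out hp.out).2 h.fd.ne.symm
  obtain ⟨S, _, y, hy, htop, hM⟩ := extract h.fd.ne hr h1 h2 hc
  obtain ⟨k, hk, f, hf1, hf2, hf3⟩ := h.lift' hM hP
  have hyk : (y ^ k) ^ q ^ r = 1 := by rw [← pow_mul, mul_comm, pow_mul, ← hy, pow_orderOf_eq_one, one_pow]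
  have hkc : k.Coprime (q ^ r) :=
    Nat.Coprime.pow_right r ((Nat.Prime.coprime_iff_not_dvd hq.out).2 hk).symm
  have hf4 : ∀ (n : ℕ) x, (f ((α ^ n) x) : X) = (y ^ k) ^ n * f x * ((y ^ k) ^ n)⁻¹ := by
    intro n
    induction n with
    | zero => intro x; simp
    | succ n ih =>
      intro x
      rw [pow_succ, MulAut.mul_apply, ih, hf2, ← map_pow, MulAut.conjNormal_apply, pow_succ]
      group
  let φ : (P ⋊[zh (q ^ r) α hα] Multiplicative (ZMod (q ^ r))) →* X :=
    SemidirectProduct.lift (S.subtype.comp f) (zh (q ^ r) (y ^ k) hyk) (fun c => by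
      obtain ⟨j, rfl⟩ := exists_nat c
      ext x
      rw [zh_nat, zh_nat]
      exact hf4 j x)
  refine ⟨φ, ?_, ?_⟩
  · rw [← MonoidHom.range_eq_top, eq_top_iff, ← htop, sup_le_iff, Subgroup.zpowers_le]
    constructor
    · intro s hs
      obtain ⟨x, hx⟩ := hf1 ⟨s, hs⟩
      exact ⟨inl x, by simp [φ, hx]⟩
    · obtain ⟨l, hl⟩ := exists_pow_eq_self_of_coprime (x := y) (hy ▸ hkc)
      exact ⟨inr (ofAdd (l : ZMod _)), by simp only [φ, lift_inr]; rw [zh_nat, hl]⟩
  · intro g hg
    rw [MonoidHom.mem_ker, ← inl_left_mul_inr_right g, map_mul] at hg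
    obtain ⟨j, hj⟩ := exists_nat g.right
    simp only [φ, lift_inr, lift_inl] at hg
    rw [hj, zh_nat] at hg
    have h3 : (y ^ k) ^ j = 1 := by
      obtain ⟨n, hn⟩ := hM.pg (f g.left)
      have h4 : (y ^ k) ^ j = ((f g.left : S) : X)⁻¹ := eq_inv_of_mul_eq_one_right hg
      refine eq_one_of_cop (m := q ^ r) (n := p ^ n) ?_ ?_ (Nat.Coprime.pow r n hcop)
      · rw [← pow_mul, mul_comm, pow_mul, hyk, one_pow]
      · rw [h4, inv_pow, ← Subgroup.coe_pow, hn]; simp
    have h5 : g.right = 1 := by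
      rw [← pow_mul] at h3
      have := orderOf_dvd_of_pow_eq_one h3
      rw [hy] at this
      rw [hj, (ZMod.natCast_eq_zero_iff _ _).2 (Nat.Coprime.dvd_of_dvd_mul_left hkc.symm this)]
      rfl
    rw [h3, mul_one] at hg
    have h6 := hf3 g.left (Subtype.ext hg)
    rw [Subgroup.mem_center_iff]
    intro u
    have : g = inl g.left := by ext <;> simp [h5]
    rw [this]
    exact h.commute hα h6 u

end Sm
end H86
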